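/-
The rigidity lemma over a field.
-/
import Mathlib.AlgebraicGeometry.AlgClosed.Basic
import Mathlib.AlgebraicGeometry.Geometrically.Integral
import Mathlib.AlgebraicGeometry.ZariskisMainTheorem
import Mathlib.AlgebraicGeometry.Group.Abelian
import Mathlib.AlgebraicGeometry.Morphisms.FlatDescent
import Mathlib.CategoryTheory.Monoidal.Cartesian.Grp

open CategoryTheory Limits MonoidalCategory CartesianMonoidalCategory AlgebraicGeometry

universe u

namespace Groth.Agent.AV

variable {K : Type u} [Field K]

/-- The scheme-theoretic point of a rational point. -/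
noncomputable abbrev ptImage {X : Over (Spec (CommRingCat.of K))}
    (x : 𝟙_ (Over (Spec (CommRingCat.of K))) ⟶ X) : X.left :=
  x.left (IsLocalRing.closedPoint K)

set_option backward.defeqAttrib.useBackward true in
set_option backward.isDefEq.respectTransparency false in
/-- Rigidity over an algebraically closed field. -/
theorem rigidity_algClosed [IsAlgClosed K] {X Y Z : Over (Spec (CommRingCat.of K))}
    [IsProper X.hom] [IsSeparated Y.hom] [LocallyOfFiniteType Y.hom]
    [IsSeparated Z.hom] [LocallyOfFiniteType Z.hom] [IrreducibleSpace X.left] [IsIntegral (X ⊗ Y).left]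
    (f : X ⊗ Y ⟶ Z) (x₀ : 𝟙_ _ ⟶ X) (y₀ : 𝟙_ _ ⟶ Y) (z₀ : 𝟙_ _ ⟶ Z)
    (h : lift (𝟙 X) (toUnit X ≫ y₀) ≫ f = toUnit X ≫ z₀) :
    f = snd X Y ≫ lift (toUnit Y ≫ x₀) (𝟙 Y) ≫ f := by
  let S := Spec (CommRingCat.of K)
  let γ : X ⊗ Y ⟶ Y ⊗ Z := lift (snd X Y) f
  have : IsProper (snd X Y).left := by dsimp; infer_instance
  have : IsProper (γ.left ≫ (fst Y Z).left) := by simpa [γ] using this
  have : IsSeparated (fst Y Z).left := by dsimp; infer_instance
  have : LocallyOfFiniteType (fst Y Z).left := by dsimp; infer_instance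
  have : IsProper γ.left := .of_comp γ.left (fst Y Z).left
  have : LocallyOfFiniteType (X ⊗ Y).hom := by dsimp; infer_instance
  have : JacobsonSpace (X ⊗ Y).left := LocallyOfFiniteType.jacobsonSpace (X ⊗ Y).hom
  have hclY : IsClosed {ptImage y₀} := by
    have := isClosedImmersion_of_comp_eq_id (Y := S) Y.hom y₀.left (Over.w y₀)
    simpa [Set.range_eq_singleton_iff] using
      (show IsClosed ({ptImage y₀} : Set Y.left) from by
        have h1 := y₀.left.isClosedMap _ (isClosed_discrete {IsLocalRing.closedPoint K})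
        simpa [ptImage] using h1)
  have hγy₀ : γ.left '' ((γ.left ≫ (fst Y Z).left) ⁻¹' {ptImage y₀}) ⊆ {ptImage (lift y₀ z₀)} := by
    have hfst : γ.left ≫ (fst Y Z).left = (snd X Y).left := by simp [γ]
    rw [hfst, Set.image_subset_iff, ← Set.sdiff_eq_empty, ← Set.not_nonempty_iff_eq_empty]
    intro H
    have hclZ : IsClosed {ptImage (lift y₀ z₀)} := by
      have : LocallyOfFiniteType (Y ⊗ Z).hom := by dsimp; infer_instance
      have : IsSeparated (Y ⊗ Z).hom := by dsimp; infer_instance
      have := isClosedImmersion_of_comp_eq_id (Y := S) (Y ⊗ Z).hom (lift y₀ z₀).left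
        (Over.w (lift y₀ z₀))
      have h1 := (lift y₀ z₀).left.isClosedMap _ (isClosed_discrete {IsLocalRing.closedPoint K})
      simpa [ptImage] using h1
    obtain ⟨c₀, ⟨hc₁, hc₂⟩, hc₃⟩ := nonempty_inter_closedPoints H <| by
      rw [Set.sdiff_eq_compl_inter]
      exact (hclZ.preimage γ.left.continuous).isOpen_compl.isLocallyClosed.inter
        (hclY.preimage (snd X Y).left.continuous).isLocallyClosed
    obtain ⟨⟨c, hc⟩, e⟩ := (pointEquivClosedPoint (X ⊗ Y).hom).surjective ⟨c₀, hc₃⟩
    obtain rfl : c (IsLocalRing.closedPoint K) = c₀ := congr(($e).1)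
    let c' : 𝟙_ (Over S) ⟶ X ⊗ Y := Over.homMk c (by simpa using hc)
    have hy : c' ≫ snd X Y = y₀ := by
      ext1
      exact ext_of_apply_closedPoint_eq Y.hom (Over.w (c' ≫ snd X Y))
        (Over.w y₀) (by simpa [c', ptImage] using hc₁)
    have hcc : c' = (c' ≫ fst X Y) ≫ lift (𝟙 X) (toUnit X ≫ y₀) := by
      apply CartesianMonoidalCategory.hom_ext
      · simp
      · rw [hy, Category.assoc, Category.assoc, lift_snd]
        simp
    have hcγ : c' ≫ γ = lift y₀ z₀ := by
      apply CartesianMonoidalCategory.hom_ext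
      · simp [γ, hy]
      · rw [Category.assoc, lift_snd, lift_snd]
        conv_lhs => rw [hcc]
        rw [Category.assoc, h]
        simp
    apply hc₂
    show γ.left (c'.left (IsLocalRing.closedPoint K)) = ptImage (lift y₀ z₀)
    rw [← Scheme.Hom.comp_apply, ← Over.comp_left, hcγ]
  obtain ⟨U, hU, hfinU⟩ := exists_finite_imageι_comp_morphismRestrict_of_finite_image_preimage
    γ.left (fst Y Z).left (ptImage y₀) ((Set.finite_singleton _).subset hγy₀)
  have hfinfib (y : U) : ((fst Y Z).left ⁻¹' {y.1} ∩ Set.range γ.left).Finite := by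
    refine ((((γ.left.imageι ≫ (fst Y Z).left) ∣_ U).finite_preimage_singleton y).image
      (Scheme.Opens.ι _ ≫ γ.left.imageι)).subset ?_
    have : U.ι ⁻¹' {y.1} = {y} := by ext; simp
    rw [← this, ← Set.preimage_comp, ← TopCat.coe_comp, ← Scheme.Hom.comp_base,
      morphismRestrict_ι, ← Category.assoc, Scheme.Hom.comp_base (_ ≫ _) (fst Y Z).left,
      TopCat.coe_comp, Set.preimage_comp, Set.image_preimage_eq_inter_range]
    simp only [Scheme.Hom.comp_base, TopCat.coe_comp, Set.range_comp, Scheme.Opens.range_ι]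
    dsimp
    rw [Set.image_preimage_eq_inter_range, Scheme.IdealSheafData.range_subschemeι,
      Scheme.Hom.support_ker, ← Set.inter_assoc, ← Set.preimage_inter,
      Set.singleton_inter_of_mem y.2, IsClosed.closure_eq
      (by exact γ.left.isClosedMap.isClosed_range)]
  have : LocallyOfFiniteType (f.left ≫ Z.hom) := by rw [Over.w f]; infer_instance
  ext1
  refine ext_of_apply_eq Z.hom _ ((snd X Y).left ⁻¹ᵁ U).isOpen.isLocallyClosed
    (((snd X Y).left ⁻¹ᵁ U).isOpen.dense ?_) ?_ ?_
  · refine ⟨ptImage (lift x₀ y₀), ?_⟩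
    show (snd X Y).left (ptImage (lift x₀ y₀)) ∈ U
    rw [← Scheme.Hom.comp_apply, ← Over.comp_left, lift_snd]
    exact hU
  · intro p hpU hp
    let c' : 𝟙_ (Over S) ⟶ X ⊗ Y :=
      Over.homMk (pointOfClosedPoint (X ⊗ Y).hom p hp) (pointOfClosedPoint_comp _ _ hp)
    let y := c' ≫ snd X Y
    let α : X ⟶ X ⊗ Y := lift (𝟙 X) (toUnit X ≫ y)
    have hpα : p = α.left (ptImage (c' ≫ fst X Y)) := by
      have e : (c' ≫ fst X Y) ≫ α = c' := by
        apply CartesianMonoidalCategory.hom_ext <;> simp [α, y]
      show p = α.left ((c' ≫ fst X Y).left (IsLocalRing.closedPoint K))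
      rw [← Scheme.Hom.comp_apply, ← Over.comp_left, e]
      exact (pointOfClosedPoint_apply _ _ hp _).symm
    have hαfib : ∀ x : X.left, (γ.left (α.left x)) ∈ (fst Y Z).left ⁻¹' {(snd X Y).left p} ∩ Set.range γ.left := by
      intro x
      refine ⟨?_, ⟨_, rfl⟩⟩
      show (fst Y Z).left (γ.left (α.left x)) = (snd X Y).left p
      have e1 : α ≫ γ ≫ fst Y Z = toUnit X ≫ y := by simp [α, γ]
      have e2 := congrArg (fun g : X ⟶ Y => g.left x) e1
      simp only [Over.comp_left, Scheme.Hom.comp_apply] at e2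
      rw [e2, show p = c'.left (IsLocalRing.closedPoint K) from (pointOfClosedPoint_apply _ _ hp _).symm,
        ← Scheme.Hom.comp_apply, ← Over.comp_left]
      exact congrArg y.left (Subsingleton.elim (α := (Spec (CommRingCat.of K) : Scheme)) _ _)
    have hsub : ((fun x => γ.left (α.left x)) '' closure (Set.univ : Set X.left)).Subsingleton := by
      have : JacobsonSpace X.left := LocallyOfFiniteType.jacobsonSpace X.hom
      have : IsClosedImmersion (α.left ≫ (fst X Y).left) := by
        rw [← Over.comp_left, lift_fst]; simp; infer_instance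
      have : IsSeparated (fst X Y).left := by dsimp; infer_instance
      have : IsClosedImmersion α.left := .of_comp α.left (fst X Y).left
      refine subsingleton_image_closure_of_finite_of_isPreirreducible isOpen_univ.isLocallyClosed
        (IrreducibleSpace.isIrreducible_univ _).isPreirreducible
        (γ.left.continuous.comp α.left.continuous) (γ.left.isClosedMap.comp α.left.isClosedMap)
        ((hfinfib ⟨_, hpU⟩).subset ?_)
      rintro _ ⟨x, -, rfl⟩
      exact hαfib x
    have key := hsub ⟨ptImage (c' ≫ fst X Y), subset_closure trivial, rfl⟩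
      ⟨ptImage x₀, subset_closure trivial, rfl⟩
    simp only [← hpα] at key
    have e1 : γ.left p ∈ ({γ.left p} : Set _) := rfl
    have h2 := congrArg (snd Y Z).left key
    simp only [← Scheme.Hom.comp_apply, ← Over.comp_left, γ, lift_snd] at h2
    rw [h2]
    have e3 : c' ≫ snd X Y ≫ lift (toUnit Y ≫ x₀) (𝟙 Y) = x₀ ≫ α := by
      apply CartesianMonoidalCategory.hom_ext <;> simp [α, y]
    conv_rhs => rw [show p = c'.left (IsLocalRing.closedPoint K) from (pointOfClosedPoint_apply _ _ hp _).symm]
    rw [← Scheme.Hom.comp_apply, ← Over.comp_left, Category.assoc, lift_snd,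
      ← Category.assoc (snd X Y), ← Category.assoc c', e3]
  · exact (Over.w f).trans (Over.w _).symm

open Functor in
/-- Morphisms out of terminal images. -/
lemma map_toUnit {S T : Scheme.{u}} (F : Over S ⥤ Over T) [F.Monoidal] (X : Over S) :
    F.map (toUnit X) = toUnit (F.obj X) ≫ LaxMonoidal.ε F := by
  rw [← cancel_mono (Monoidal.εIso F).inv]
  exact toUnit_unique _ _

open Functor in
set_option backward.defeqAttrib.useBackward true in
set_option backward.isDefEq.respectTransparency false in
/-- The rigidity lemma over a field. -/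
theorem rigidity {X Y Z : Over (Spec (CommRingCat.of K))}
    [IsProper X.hom] [GeometricallyIntegral X.hom]
    [IsSeparated Y.hom] [LocallyOfFiniteType Y.hom] [GeometricallyIntegral Y.hom]
    [IsSeparated Z.hom] [LocallyOfFiniteType Z.hom]
    (f : X ⊗ Y ⟶ Z) (x₀ : 𝟙_ _ ⟶ X) (y₀ : 𝟙_ _ ⟶ Y) (z₀ : 𝟙_ _ ⟶ Z)
    (h : lift (𝟙 X) (toUnit X ≫ y₀) ≫ f = toUnit X ≫ z₀) :
    f = snd X Y ≫ lift (toUnit Y ≫ x₀) (𝟙 Y) ≫ f := by
  let b := Spec.map (CommRingCat.ofHom <| algebraMap K (AlgebraicClosure K))
  let F := Over.pullback b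
  have : IsProper (F.obj X).hom := by dsimp [F]; infer_instance
  have : IsSeparated (F.obj Y).hom := by dsimp [F]; infer_instance
  have : LocallyOfFiniteType (F.obj Y).hom := by dsimp [F]; infer_instance
  have : IsSeparated (F.obj Z).hom := by dsimp [F]; infer_instance
  have : LocallyOfFiniteType (F.obj Z).hom := by dsimp [F]; infer_instance
  have : GeometricallyIntegral (F.obj X).hom := by dsimp [F]; infer_instance
  have : GeometricallyIntegral (F.obj Y).hom := by dsimp [F]; infer_instance
  have : IsIntegral (F.obj X).left := GeometricallyIntegral.isIntegral_of_subsingleton (F.obj X).hom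
  have : IsIntegral (F.obj Y).left := GeometricallyIntegral.isIntegral_of_subsingleton (F.obj Y).hom
  have : IsLocallyNoetherian (F.obj Y).left := LocallyOfFiniteType.isLocallyNoetherian (F.obj Y).hom
  have : IsIntegral (F.obj X ⊗ F.obj Y).left := by dsimp only [Over.tensorObj_left]; infer_instance
  have key := rigidity_algClosed (LaxMonoidal.μ F X Y ≫ F.map f) (LaxMonoidal.ε F ≫ F.map x₀)
    (LaxMonoidal.ε F ≫ F.map y₀) (LaxMonoidal.ε F ≫ F.map z₀) (by
      simp only [← Category.assoc, ← map_toUnit, ← Functor.map_comp]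
      rw [← F.map_id X, Monoidal.lift_μ, ← Functor.map_comp, h])
  simp only [← Category.assoc, ← map_toUnit, ← Functor.map_comp] at key
  rw [← F.map_id Y, Category.assoc (snd _ _), Monoidal.lift_μ, ← Monoidal.μ_snd, Category.assoc,
    Category.assoc, ← Functor.map_comp, ← Functor.map_comp, cancel_epi] at key
  exact F.map_injective key

end Groth.Agent.AV
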