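/-
Morphisms between proper connected groups over a field.
-/
import Groth.Agent.L26.AV.Rigidity
import Groth.Agent.L25.Component

open CategoryTheory MonoidalCategory CartesianMonoidalCategory MonObj AlgebraicGeometry

universe u

namespace Groth.Agent.AV

variable {K : Type u} [Field K]

/-- A connected, geometrically reduced group of finite type is geometrically integral. -/
theorem geometricallyIntegral_of_connected (G : Over (Spec (CommRingCat.of K))) [GrpObj G]
    [LocallyOfFiniteType G.hom] [GeometricallyReduced G.hom] [ConnectedSpace G.left] :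
    GeometricallyIntegral G.hom := by
  have : IsLocallyNoetherian G.left := LocallyOfFiniteType.isLocallyNoetherian G.hom
  have := Groth.L25.Component.irreducibleSpace G
  have := Groth.L25.Component.geometricallyIrreducible G
  exact GeometricallyIntegral.of_geometricallyReduced_of_geometricallyIrreducible _

/-- A pointed morphism from a proper geometrically integral group to a proper group is a homomorphism. -/
theorem isMonHom_of_one {A B : Over (Spec (CommRingCat.of K))}
    [GrpObj A] [IsProper A.hom] [GeometricallyIntegral A.hom]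
    [GrpObj B] [IsSeparated B.hom] [LocallyOfFiniteType B.hom]
    (f : A ⟶ B) (hf : η[A] ≫ f = η[B]) : IsMonHom f := by
  let d := (μ[A] ≫ f) * ((fst A A ≫ f) * (snd A A ≫ f))⁻¹
  have hone : ∀ T : Over (Spec (CommRingCat.of K)), toUnit T ≫ η[A] ≫ f = (1 : T ⟶ B) := fun T => by
    rw [hf]; rfl
  have h1f : ∀ T : Over (Spec (CommRingCat.of K)), (1 : T ⟶ A) ≫ f = 1 := fun T => by
    rw [Hom.one_def, Category.assoc, hone]
  have hl : lift (𝟙 A) (toUnit A ≫ η[A]) ≫ μ[A] = 𝟙 A := by
    rw [← Hom.mul_def, ← Hom.one_def, _root_.mul_one]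
  have hr : lift (toUnit A ≫ η[A]) (𝟙 A) ≫ μ[A] = 𝟙 A := by
    rw [← Hom.mul_def, ← Hom.one_def, _root_.one_mul]
  have hd : lift (𝟙 A) (toUnit A ≫ η[A]) ≫ d = toUnit A ≫ η[B] := by
    simp only [d, MonObj.comp_mul, GrpObj.comp_inv, ← Category.assoc, hl, lift_fst, lift_snd]
    simp [h1f, ← Hom.one_def]
  have hd' : lift (toUnit A ≫ η[A]) (𝟙 A) ≫ d = toUnit A ≫ η[B] := by
    simp only [d, MonObj.comp_mul, GrpObj.comp_inv, ← Category.assoc, hr, lift_fst, lift_snd]
    simp [h1f, ← Hom.one_def]
  have hd1 : d = 1 := by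
    rw [Hom.one_def, rigidity d η[A] η[A] η[B] hd, hd', ← Category.assoc, comp_toUnit]
  refine ⟨hf, ?_⟩
  rw [mul_inv_eq_one.1 hd1, Hom.mul_def]
  congr 1

end Groth.Agent.AV
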