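/-
Elementwise consequences of flatness for the `m`-adic filtration.
-/
import Mathlib.RingTheory.Flat.Basic
import Mathlib.RingTheory.TensorProduct.Quotient
import Mathlib.LinearAlgebra.TensorProduct.RightExactness
import Mathlib.RingTheory.Ideal.Operations
import Mathlib.LinearAlgebra.FreeModule.Finite.Basic
import Mathlib.LinearAlgebra.Dimension.Free
import Mathlib.Algebra.Module.Torsion.Basic
import Mathlib.RingTheory.Flat.Tensor
import Mathlib.LinearAlgebra.Basis.VectorSpace

open TensorProduct

universe u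

namespace Groth.Agent.AV

variable {A : Type u} [CommRing A] (m : Ideal A) [m.IsMaximal]

attribute [local instance] Ideal.Quotient.field

/-- A finite family in `I` giving a basis of `I / m I`, with coordinate functionals. -/
theorem exists_graded_basis {I : Ideal A} (hI : I.FG) :
    ∃ (d : ℕ) (ε : Fin d → I) (φ : Fin d → (I →ₗ[A] A ⧸ m)),
      (∀ i j, φ i (ε j) = if i = j then 1 else 0) ∧
      (I ≤ Ideal.span (Set.range fun i => (ε i : A)) ⊔ m * I) ∧
      (∀ i (x : I), (x : A) ∈ m * I → φ i x = 0) := by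
  classical
  have : Module.Finite A I := Module.Finite.iff_fg.2 hI
  let V := I ⧸ (m • ⊤ : Submodule A I)
  have : Module.Finite (A ⧸ m) V := Module.Finite.of_restrictScalars_finite A _ _
  let b := Module.finBasis (A ⧸ m) V
  choose ε hε using fun i => Submodule.Quotient.mk_surjective (m • ⊤ : Submodule A I) (b i)
  let φ : Fin (Module.finrank (A ⧸ m) V) → (I →ₗ[A] A ⧸ m) := fun i =>
    ((b.coord i).restrictScalars A).comp (m • ⊤ : Submodule A I).mkQ
  have hmem : ∀ x : I, (x : A) ∈ m * I → x ∈ (m • ⊤ : Submodule A I) := fun x hx => by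
    rw [← Submodule.comap_map_eq_of_injective I.injective_subtype (m • ⊤ : Submodule A I),
      Submodule.mem_comap, Submodule.map_smul'', Submodule.map_subtype_top]
    exact hx
  refine ⟨_, ε, φ, fun i j => ?_, fun x hx => ?_, fun i x hx => ?_⟩
  · show b.coord i (Submodule.Quotient.mk (ε j)) = _
    rw [hε, b.coord_apply, b.repr_self, Finsupp.single_apply]
    simp [eq_comm]
  · let x' : I := ⟨x, hx⟩
    choose c hc using fun i => Ideal.Quotient.mk_surjective (b.repr (Submodule.Quotient.mk x') i)
    have h1 : x' - ∑ i, c i • ε i ∈ (m • ⊤ : Submodule A I) := by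
      rw [← Submodule.Quotient.eq]
      conv_lhs => rw [← b.sum_repr (Submodule.Quotient.mk x')]
      conv_rhs => rw [← Submodule.mkQ_apply (m • ⊤ : Submodule A I), map_sum]
      refine Finset.sum_congr rfl fun i _ => ?_
      rw [map_smul, Submodule.mkQ_apply, hε, ← hc i]
      rfl
    have h2 : ((x' - ∑ i, c i • ε i : I) : A) ∈ m * I := by
      have := Submodule.mem_map_of_mem (f := I.subtype) h1
      rwa [Submodule.map_smul'', Submodule.map_subtype_top] at this
    have h3 : (∑ i, c i • (ε i : A)) ∈ Ideal.span (Set.range fun i => (ε i : A)) :=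
      Submodule.sum_mem _ fun i _ => Submodule.smul_mem _ _ (Ideal.subset_span ⟨i, rfl⟩)
    rw [show x = (∑ i, c i • (ε i : A)) + ((x' - ∑ i, c i • ε i : I) : A) by simp [x']]
    exact Submodule.add_mem_sup h3 h2
  · show b.coord i (Submodule.Quotient.mk x) = 0
    rw [(Submodule.Quotient.mk_eq_zero _).2 (hmem x hx), map_zero]

/-- Elements of `J C` come from tensors killed by any functional vanishing on `J`. -/
theorem exists_tensor_of_mem_map {C : Type u} [CommRing C] [Algebra A C] {I J : Ideal A} (hJI : J ≤ I)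
    {N : Type u} [AddCommGroup N] [Module A N] (g : I →ₗ[A] N) (hg : ∀ x : I, (x : A) ∈ J → g x = 0)
    {z : C} (hz : z ∈ J.map (algebraMap A C)) :
    ∃ w : I ⊗[A] C, TensorProduct.lift ((LinearMap.lsmul A C).comp I.subtype) w = z ∧
      LinearMap.rTensor C g w = 0 := by
  suffices ∀ y : C, ∃ w : I ⊗[A] C,
      TensorProduct.lift ((LinearMap.lsmul A C).comp I.subtype) w = z * y ∧
        LinearMap.rTensor C g w = 0 by
    simpa only [mul_one] using this 1
  refine Submodule.span_induction ?_ ?_ ?_ ?_ hz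
  · rintro _ ⟨x, hx, rfl⟩ y
    refine ⟨(⟨x, hJI hx⟩ : I) ⊗ₜ[A] y, ?_, ?_⟩
    · simp [Algebra.smul_def]
    · rw [LinearMap.rTensor_tmul, hg _ hx, zero_tmul]
  · exact fun y => ⟨0, by rw [map_zero, zero_mul], map_zero _⟩
  · rintro a b _ _ ha hb y
    obtain ⟨w1, a1, b1⟩ := ha y
    obtain ⟨w2, a2, b2⟩ := hb y
    exact ⟨w1 + w2, by rw [map_add, a1, a2, add_mul], by rw [map_add, b1, b2, add_zero]⟩
  · rintro r a _ ha y
    obtain ⟨w1, a1, b1⟩ := ha (r * y)
    exact ⟨w1, a1.trans (by rw [smul_eq_mul]; ring), b1⟩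

omit [m.IsMaximal] in
/-- Over a flat algebra, coefficients of a graded basis combination are determined modulo `m`. -/
theorem mem_map_of_sum_mem {C : Type u} [CommRing C] [Algebra A C] [Module.Flat A C]
    {I : Ideal A} (hI : I.FG) {d : ℕ} (ε : Fin d → I) (φ : Fin d → (I →ₗ[A] A ⧸ m))
    (hφ : ∀ i j, φ i (ε j) = if i = j then 1 else 0) (hker : ∀ i (x : I), (x : A) ∈ m * I → φ i x = 0)
    (c : Fin d → C) (h : ∑ j, algebraMap A C (ε j) * c j ∈ (m * I).map (algebraMap A C)) (i : Fin d) :
    c i ∈ m.map (algebraMap A C) := by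
  classical
  have hle : m * I ≤ I := Ideal.mul_le_right
  obtain ⟨w, hw, hw0⟩ :=
    exists_tensor_of_mem_map (C := C) (N := A ⧸ m) (J := m * I) hle (φ i) (hker i) h
  have he : ∑ j, ε j ⊗ₜ[A] c j = w := by
    apply Module.Flat.iff_lift_lsmul_comp_subtype_injective.1 inferInstance hI
    rw [hw, map_sum]
    simp [Algebra.smul_def]
  subst he
  rw [map_sum] at hw0
  simp only [LinearMap.rTensor_tmul, hφ] at hw0
  rw [Finset.sum_eq_single i (fun j _ hj => by rw [if_neg (Ne.symm hj), zero_tmul])
    (fun h => absurd (Finset.mem_univ i) h), if_pos rfl] at hw0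
  have := congrArg (TensorProduct.quotTensorEquivQuotSMul C m) hw0
  rw [map_zero, show ((1 : A ⧸ m)) = Ideal.Quotient.mk m 1 from rfl,
    TensorProduct.quotTensorEquivQuotSMul_mk_tmul, one_smul, Submodule.Quotient.mk_eq_zero,
    Ideal.smul_top_eq_map] at this
  exact this

end Groth.Agent.AV
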