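/-
Infinitesimal rigidity: over a Noetherian local base, a flat scheme whose closed fibre has only
constant functions has, to all orders along the closed fibre, only constant functions.
-/
import Groth.Agent.L26.AV.FlatGraded
import Mathlib.AlgebraicGeometry.Morphisms.Flat
import Mathlib.AlgebraicGeometry.Morphisms.Affine
import Mathlib.AlgebraicGeometry.Stalk
import Mathlib.RingTheory.Filtration
import Mathlib.RingTheory.RingHom.Flat

open CategoryTheory CategoryTheory.Limits AlgebraicGeometry TopologicalSpace Opposite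

universe u

namespace Groth.Agent.AV

/-- In a pushout of rings along a surjection, the kernel is the extended ideal. -/
theorem mem_map_ker_of_isPushout {A B C D : CommRingCat.{u}} {f : A ⟶ B} {g : A ⟶ C} {inl : B ⟶ D}
    {inr : C ⟶ D} (h : IsPushout f g inl inr) (hg : Function.Surjective g.hom) (x : B)
    (hx : inl.hom x = 0) : x ∈ (RingHom.ker g.hom).map f.hom := by
  let I := (RingHom.ker g.hom).map f.hom
  let ψ : C →+* B ⧸ I := RingHom.liftOfSurjective g.hom hg
    ⟨(Ideal.Quotient.mk I).comp f.hom, fun a ha => by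
      rw [RingHom.mem_ker, RingHom.comp_apply, Ideal.Quotient.eq_zero_iff_mem]
      exact Ideal.mem_map_of_mem _ ha⟩
  have hψ : ψ.comp g.hom = (Ideal.Quotient.mk I).comp f.hom :=
    RingHom.liftOfRightInverse_comp g.hom _ (Function.rightInverse_surjInv hg) _
  let q : B ⟶ CommRingCat.of (B ⧸ I) := CommRingCat.ofHom (Ideal.Quotient.mk I)
  have w : f ≫ q = g ≫ CommRingCat.ofHom ψ := by
    ext a
    exact (RingHom.congr_fun hψ a).symm
  have hd := congrArg (fun k => k.hom x) (h.inl_desc q (CommRingCat.ofHom ψ) w)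
  simp only [CommRingCat.hom_comp, RingHom.comp_apply, hx, map_zero, q, CommRingCat.hom_ofHom] at hd
  exact Ideal.Quotient.eq_zero_iff_mem.1 hd.symm

variable {A : Type u} [CommRing A] {X : Scheme.{u}} (ξ : X ⟶ Spec (CommRingCat.of A))

/-- The structure map `A → Γ(X, U)`. -/
noncomputable abbrev constMap (U : X.Opens) : CommRingCat.of A ⟶ Γ(X, U) :=
  (Scheme.ΓSpecIso (CommRingCat.of A)).inv ≫ ξ.appLE ⊤ U (by simp)

theorem constMap_map {U V : X.Opens} (h : V ≤ U) :
    constMap ξ U ≫ X.presheaf.map (homOfLE h).op = constMap ξ V := by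
  simp only [constMap, Category.assoc]
  exact congrArg _ (ξ.appLE_map _ _)

theorem constMap_comp {Z : Scheme.{u}} (i : Z ⟶ X) {U : X.Opens} {W : Z.Opens} (e : W ≤ i ⁻¹ᵁ U) :
    constMap ξ U ≫ i.appLE U W e = constMap (i ≫ ξ) W := by
  simp only [constMap, Category.assoc]
  exact congrArg _ (Scheme.Hom.appLE_comp_appLE _ _ _ _ _ _ _)

theorem constMap_top : constMap ξ ⊤ = (Scheme.ΓSpecIso (CommRingCat.of A)).inv ≫ ξ.appTop :=
  congrArg _ (Scheme.Hom.app_eq_appLE ξ (U := ⊤)).symm

theorem constMap_SpecMap {B : Type u} [CommRing B] (φ : CommRingCat.of A ⟶ CommRingCat.of B)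
    {Z : Scheme.{u}} (j : Z ⟶ Spec (CommRingCat.of B)) (W : Z.Opens) :
    constMap (j ≫ Spec.map φ) W = φ ≫ constMap j W := by
  rw [← constMap_comp (Spec.map φ) j (U := ⊤) (by simp), constMap_top,
    Category.assoc, ← Scheme.ΓSpecIso_inv_naturality_assoc]

theorem constMap_res {U V : X.Opens} (h : V ≤ U) (a : A) :
    (X.presheaf.map (homOfLE h).op).hom ((constMap ξ U).hom a) = (constMap ξ V).hom a := by
  rw [← constMap_map ξ h]
  rfl

theorem res_mem_map {U V : X.Opens} (h : V ≤ U) (J : Ideal A) {x : Γ(X, U)}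
    (hx : x ∈ J.map (constMap ξ U).hom) :
    (X.presheaf.map (homOfLE h).op).hom x ∈ J.map (constMap ξ V).hom := by
  have := Ideal.mem_map_of_mem (X.presheaf.map (homOfLE h).op).hom hx
  rwa [Ideal.map_map, ← CommRingCat.hom_comp, constMap_map ξ h] at this

theorem flat_constMap [Flat ξ] {U : X.Opens} (hU : IsAffineOpen U) :
    (constMap ξ U).hom.Flat := by
  rw [CommRingCat.hom_comp]
  exact RingHom.Flat.comp
    (RingHom.Flat.of_bijective (ConcreteCategory.bijective_of_isIso (Scheme.ΓSpecIso _).inv))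
    (ξ.flat_appLE (isAffineOpen_top _) hU _)

variable [IsLocalRing A] {Z : Scheme.{u}} {i : Z ⟶ X}
  {j : Z ⟶ Spec (CommRingCat.of (IsLocalRing.ResidueField A))}
  (H : IsPullback i j ξ (Spec.map (CommRingCat.ofHom (IsLocalRing.residue A))))

include H in
theorem mem_map_maximalIdeal_of_app_eq_zero {U : X.Opens} (hU : IsAffineOpen U) (x : Γ(X, U))
    (hx : (i.app U).hom x = 0) :
    x ∈ (IsLocalRing.maximalIdeal A).map (constMap ξ U).hom := by
  let k := Spec.map (CommRingCat.ofHom (IsLocalRing.residue A))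
  have hUST : (⊤ : (Spec (CommRingCat.of (IsLocalRing.ResidueField A))).Opens) ≤ k ⁻¹ᵁ ⊤ := by simp
  have hUSX : U ≤ ξ ⁻¹ᵁ ⊤ := by simp
  have hUY : i ⁻¹ᵁ U = i ⁻¹ᵁ U ⊓ j ⁻¹ᵁ ⊤ := by simp
  have hp := (isIso_pushoutSection_iff H hUST hUSX hUY).1
    (isIso_pushoutSection_of_isAffineOpen H hUST hUSX hUY (isAffineOpen_top _) (isAffineOpen_top _) hU)
  have hk : k.appLE ⊤ ⊤ hUST = k.appTop := (Scheme.Hom.app_eq_appLE k (U := ⊤)).symm
  have hsurj : Function.Surjective (k.appLE ⊤ ⊤ hUST).hom := by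
    have e : k.appTop = (Scheme.ΓSpecIso _).hom ≫ CommRingCat.ofHom (IsLocalRing.residue A) ≫
        (Scheme.ΓSpecIso _).inv := by
      rw [← Scheme.ΓSpecIso_naturality_assoc, Iso.hom_inv_id, Category.comp_id]
    rw [hk, e]
    simp only [CommRingCat.hom_comp, RingHom.coe_comp]
    exact ((ConcreteCategory.bijective_of_isIso (Scheme.ΓSpecIso _).inv).2.comp
      IsLocalRing.residue_surjective).comp
      (ConcreteCategory.bijective_of_isIso (Scheme.ΓSpecIso _).hom).2
  have h := mem_map_ker_of_isPushout hp hsurj x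
    (by simpa [Scheme.Hom.appLE] using hx)
  have hle : (RingHom.ker (k.appLE ⊤ ⊤ hUST).hom) ≤
      (IsLocalRing.maximalIdeal A).map (Scheme.ΓSpecIso (CommRingCat.of A)).inv.hom := by
    intro y hy
    obtain ⟨a, rfl⟩ := (ConcreteCategory.bijective_of_isIso (Scheme.ΓSpecIso (CommRingCat.of A)).inv).2 y
    refine Ideal.mem_map_of_mem _ ?_
    rw [RingHom.mem_ker, hk] at hy
    have h2 := congrArg (fun φ => φ.hom ((Scheme.ΓSpecIso (CommRingCat.of A)).inv.hom a))
      (Scheme.ΓSpecIso_naturality (CommRingCat.ofHom (IsLocalRing.residue A)))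
    simp only [CommRingCat.hom_comp, RingHom.comp_apply] at h2
    erw [hy, map_zero, Iso.inv_hom_id_apply] at h2
    rwa [← IsLocalRing.residue_eq_zero_iff, eq_comm]
  have := Ideal.map_mono (f := (ξ.appLE ⊤ U hUSX).hom) hle h
  rwa [Ideal.map_map, ← CommRingCat.hom_comp] at this

include H in
/-- Functions are constant to every order along a closed fibre with only constant functions. -/
theorem exists_const_approx [IsNoetherianRing A] [Flat ξ] (hj : Function.Surjective j.appTop.hom)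
    (t : Γ(X, ⊤)) (n : ℕ) :
    ∃ a : A, ∀ U : X.affineOpens, (X.presheaf.map (homOfLE (le_top : U.1 ≤ ⊤)).op).hom t -
      (constMap ξ U.1).hom a ∈ ((IsLocalRing.maximalIdeal A) ^ n).map (constMap ξ U.1).hom := by
  let m := IsLocalRing.maximalIdeal A
  induction n with
  | zero => exact ⟨0, fun U => by rw [pow_zero, Ideal.one_eq_top, Ideal.map_top]; trivial⟩
  | succ n ih =>
    obtain ⟨a, ha⟩ := ih
    obtain ⟨d, ε, φ, hφ, hspan, hker⟩ := exists_graded_basis m (I := m ^ n) (Ideal.fg_of_isNoetherianRing _)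
    have hdec : ∀ U : X.affineOpens, ∃ c : Fin d → Γ(X, U.1),
        (X.presheaf.map (homOfLE (le_top : U.1 ≤ ⊤)).op).hom t - (constMap ξ U.1).hom a -
          ∑ l, (constMap ξ U.1).hom (ε l) * c l ∈ (m * m ^ n).map (constMap ξ U.1).hom := by
      intro U
      have h := Ideal.map_mono (f := (constMap ξ U.1).hom) hspan (ha U)
      rw [Ideal.map_sup, Ideal.map_span, ← Set.range_comp, Submodule.mem_sup] at h
      obtain ⟨y, hy, z, hz, hyz⟩ := h
      obtain ⟨c, rfl⟩ := Ideal.mem_span_range_iff_exists_fun.1 hy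
      refine ⟨c, ?_⟩
      rw [← hyz]
      simpa [mul_comm] using hz
    choose c hc using hdec
    let ρ : ∀ {U V : X.Opens}, V ≤ U → Γ(X, U) →+* Γ(X, V) := fun h => (X.presheaf.map (homOfLE h).op).hom
    have compat : ∀ (U U' V : X.affineOpens) (hV : V.1 ≤ U.1) (hV' : V.1 ≤ U'.1) (l : Fin d),
        ρ hV (c U l) - ρ hV' (c U' l) ∈ m.map (constMap ξ V.1).hom := by
      intro U U' V hV hV' l
      let : Algebra A Γ(X, V.1) := (constMap ξ V.1).hom.toAlgebra
      have : Module.Flat A Γ(X, V.1) := flat_constMap ξ V.2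
      refine mem_map_of_sum_mem m (Ideal.fg_of_isNoetherianRing _) ε φ hφ hker
        (fun l => ρ hV (c U l) - ρ hV' (c U' l)) ?_ l
      have h1 := res_mem_map ξ hV _ (hc U)
      have h2 := res_mem_map ξ hV' _ (hc U')
      have ht : ∀ (W : X.Opens) (hW : V.1 ≤ W), ρ hW (ρ (le_top : W ≤ ⊤) t) = ρ le_top t := by
        intro W hW
        simp only [ρ, ← RingHom.comp_apply, ← CommRingCat.hom_comp, ← X.presheaf.map_comp]
        rfl
      show _ ∈ Ideal.map (constMap ξ V.1).hom _
      convert sub_mem h2 h1 using 1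
      have hU := ht U.1 hV
      have hU' := ht U'.1 hV'
      simp only [ρ] at hU hU'
      have eU : ∀ b : A, (X.presheaf.map (homOfLE hV).op).hom ((constMap ξ U.1).hom b) =
          (constMap ξ V.1).hom b := fun b => constMap_res ξ hV b
      have eU' : ∀ b : A, (X.presheaf.map (homOfLE hV').op).hom ((constMap ξ U'.1).hom b) =
          (constMap ξ V.1).hom b := fun b => constMap_res ξ hV' b
      simp only [map_sub, map_sum, map_mul, RingHom.algebraMap_toAlgebra, mul_sub,
        Finset.sum_sub_distrib, hU, hU', eU, eU', ρ]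
      abel
    have hi : ∀ {U V : X.Opens} (h : V ≤ U) (x : Γ(X, U)),
        (Z.presheaf.map (homOfLE (i.preimage_mono h)).op).hom ((i.app U).hom x) = (i.app V).hom (ρ h x) := by
      intro U V h x
      exact (congrArg (fun φ => φ.hom x) (i.naturality (homOfLE h).op)).symm
    have hgl : ∀ l : Fin d, ∃ b : A, ∀ U : X.affineOpens,
        c U l - (constMap ξ U.1).hom b ∈ m.map (constMap ξ U.1).hom := by
      intro l
      let W : X.affineOpens → Z.Opens := fun U => i ⁻¹ᵁ U.1
      let sf : ∀ U : X.affineOpens, Γ(Z, W U) := fun U => (i.app U.1).hom (c U l)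
      have hcomp : TopCat.Presheaf.IsCompatible Z.presheaf W sf := by
        intro U U'
        let κ : {V : X.affineOpens // V.1 ≤ U.1 ∧ V.1 ≤ U'.1} → Z.Opens := fun V => i ⁻¹ᵁ V.1.1
        refine Z.sheaf.eq_of_locally_eq' κ (W U ⊓ W U')
          (fun V => homOfLE (le_inf (i.preimage_mono V.2.1) (i.preimage_mono V.2.2))) ?_ _ _ ?_
        · intro z hz
          obtain ⟨_, ⟨V, hV, rfl⟩, hzV, hVle⟩ := X.isBasis_affineOpens.exists_subset_of_mem_open
            (show i z ∈ ((U.1 ⊓ U'.1 : X.Opens) : Set X) from hz) (U.1 ⊓ U'.1).2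
          exact Opens.mem_iSup.2 ⟨⟨⟨V, hV⟩, fun y hy => (hVle hy).1, fun y hy => (hVle hy).2⟩, hzV⟩
        · intro V
          show (Z.presheaf.map _).hom ((Z.presheaf.map _).hom (sf U)) =
            (Z.presheaf.map _).hom ((Z.presheaf.map _).hom (sf U'))
          simp only [← RingHom.comp_apply, ← CommRingCat.hom_comp, ← Z.presheaf.map_comp]
          show (Z.presheaf.map (homOfLE (i.preimage_mono V.2.1)).op).hom _ =
            (Z.presheaf.map (homOfLE (i.preimage_mono V.2.2)).op).hom _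
          rw [hi V.2.1, hi V.2.2, ← sub_eq_zero, ← map_sub]
          have hk : ∀ x ∈ m.map (constMap ξ V.1.1).hom, (i.app V.1.1).hom x = 0 := by
            intro x hx
            refine (Ideal.map_le_iff_le_comap.2 ?_ : _ ≤ RingHom.ker (i.app V.1.1).hom) hx
            intro b hb
            rw [Ideal.mem_comap, RingHom.mem_ker]
            have e : constMap ξ V.1.1 ≫ i.app V.1.1 = CommRingCat.ofHom (IsLocalRing.residue A) ≫
                constMap j (i ⁻¹ᵁ V.1.1) := by
              rw [Scheme.Hom.app_eq_appLE, constMap_comp, H.w, constMap_SpecMap]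
            have := congrArg (fun φ => φ.hom b) e
            simp only [CommRingCat.hom_comp, RingHom.comp_apply, CommRingCat.hom_ofHom] at this
            erw [(IsLocalRing.residue_eq_zero_iff b).2 hb, map_zero, map_zero] at this
            exact this
          exact hk _ (compat U U' V.1 V.2.1 V.2.2 l)
      obtain ⟨g, hg, -⟩ := TopCat.Sheaf.existsUnique_gluing' Z.sheaf W ⊤ (fun U => homOfLE le_top)
        (fun z _ => by
          obtain ⟨_, ⟨V, hV, rfl⟩, hzV, -⟩ := X.isBasis_affineOpens.exists_subset_of_mem_open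
            (Set.mem_univ (i z)) isOpen_univ
          exact Opens.mem_iSup.2 ⟨⟨V, hV⟩, hzV⟩) sf hcomp
      obtain ⟨q, rfl⟩ := hj g
      obtain ⟨q, rfl⟩ := (ConcreteCategory.bijective_of_isIso
        (Scheme.ΓSpecIso (CommRingCat.of (IsLocalRing.ResidueField A))).inv).2 q
      obtain ⟨b, rfl⟩ := IsLocalRing.residue_surjective q
      refine ⟨b, fun U => mem_map_maximalIdeal_of_app_eq_zero ξ H U.2 _ ?_⟩
      rw [map_sub, sub_eq_zero]
      refine (hg U).symm.trans ?_
      have e : CommRingCat.ofHom (IsLocalRing.residue A) ≫ (Scheme.ΓSpecIso _).inv ≫ j.appTop ≫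
          Z.presheaf.map (homOfLE (le_top : W U ≤ ⊤)).op = constMap ξ U.1 ≫ i.app U.1 := by
        rw [Scheme.Hom.app_eq_appLE, constMap_comp, H.w, constMap_SpecMap, ← constMap_map j le_top,
          constMap_top]
        simp only [Category.assoc]
      exact congrArg (fun φ => φ.hom b) e
    choose b hb using hgl
    refine ⟨a + ∑ l, ε l * b l, fun U => ?_⟩
    rw [pow_succ']
    have key : ∑ l, (constMap ξ U.1).hom (ε l) * (c U l - (constMap ξ U.1).hom (b l)) ∈
        (m * m ^ n).map (constMap ξ U.1).hom := by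
      refine Ideal.sum_mem _ fun l _ => ?_
      rw [Ideal.map_mul, mul_comm (m.map _)]
      exact Ideal.mul_mem_mul (Ideal.mem_map_of_mem _ (ε l).2) (hb l U)
    convert add_mem (hc U) key using 1
    simp only [map_add, map_sum, map_mul, mul_sub, Finset.sum_sub_distrib]
    abel

include H in
/-- A function vanishing along a section lies in every power of `m` on every affine open. -/
theorem res_mem_pow_of_section [IsNoetherianRing A] [Flat ξ]
    (hj : Function.Surjective j.appTop.hom)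
    (σ : Spec (CommRingCat.of A) ⟶ X) (hσ : σ ≫ ξ = 𝟙 _) (t : Γ(X, ⊤))
    (ht : σ.appTop.hom t = 0) {U₁ : X.Opens} (hU₁ : IsAffineOpen U₁) (n : ℕ) :
    (X.presheaf.map (homOfLE (le_top : U₁ ≤ ⊤)).op).hom t ∈
      (IsLocalRing.maximalIdeal A ^ n).map (constMap ξ U₁).hom := by
  obtain ⟨_, ⟨U₀, hU₀, rfl⟩, hcU₀, -⟩ := X.isBasis_affineOpens.exists_subset_of_mem_open
    (Set.mem_univ (σ (IsLocalRing.closedPoint A))) isOpen_univ
  have hs : ⊤ ≤ σ ⁻¹ᵁ U₀ := fun x _ =>
    (IsLocalRing.specializes_closedPoint x).mem_open (σ ⁻¹ᵁ U₀).2 hcU₀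
  obtain ⟨a, ha⟩ := exists_const_approx ξ H hj t n
  let β : Γ(X, U₀) ⟶ CommRingCat.of A := σ.appLE U₀ ⊤ hs ≫ (Scheme.ΓSpecIso _).hom
  have hβ : constMap ξ U₀ ≫ β = 𝟙 _ := by
    show constMap ξ U₀ ≫ σ.appLE U₀ ⊤ hs ≫ (Scheme.ΓSpecIso _).hom = _
    rw [← Category.assoc (constMap ξ U₀), constMap_comp, hσ, constMap_top, Category.assoc]
    simp
  have hβt : β.hom ((X.presheaf.map (homOfLE (le_top : U₀ ≤ ⊤)).op).hom t) = 0 := by
    have e : X.presheaf.map (homOfLE (le_top : U₀ ≤ ⊤)).op ≫ β =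
        σ.appTop ≫ (Scheme.ΓSpecIso _).hom := by
      simp only [β, Scheme.Hom.map_appLE_assoc]
      exact congrArg (· ≫ _) (Scheme.Hom.app_eq_appLE σ (U := ⊤)).symm
    have := congrArg (fun φ => φ.hom t) e
    simp only [CommRingCat.hom_comp, RingHom.comp_apply] at this ⊢
    rw [this, ht, map_zero]
  have ha₀ := Ideal.mem_map_of_mem β.hom (ha ⟨U₀, hU₀⟩)
  rw [Ideal.map_map, ← CommRingCat.hom_comp, hβ, CommRingCat.hom_id, Ideal.map_id, map_sub,
    hβt, ← RingHom.comp_apply, ← CommRingCat.hom_comp, hβ, CommRingCat.hom_id, RingHom.id_apply,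
    zero_sub, neg_mem_iff] at ha₀
  have := add_mem (ha ⟨U₁, hU₁⟩) (Ideal.mem_map_of_mem (constMap ξ U₁).hom ha₀)
  simpa using this

include H in
/-- A function vanishing along a section vanishes on any Noetherian germ along the closed fibre. -/
theorem appTop_eq_zero_of_section [IsNoetherianRing A] [Flat ξ]
    (hj : Function.Surjective j.appTop.hom)
    (σ : Spec (CommRingCat.of A) ⟶ X) (hσ : σ ≫ ξ = 𝟙 _) (t : Γ(X, ⊤))
    (ht : σ.appTop.hom t = 0) {R : Type u} [CommRing R] [IsLocalRing R] [IsNoetherianRing R]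
    (l : Spec (CommRingCat.of R) ⟶ X)
    (hl : ξ (l (IsLocalRing.closedPoint R)) = IsLocalRing.closedPoint A) :
    l.appTop.hom t = 0 := by
  let m := IsLocalRing.maximalIdeal A
  have htop : ∀ (B : Type u) [CommRing B] [IsLocalRing B] (U : (Spec (CommRingCat.of B)).Opens),
      IsLocalRing.closedPoint B ∈ U → ⊤ ≤ U := fun B _ _ U h x _ =>
    (IsLocalRing.specializes_closedPoint x).mem_open U.2 h
  obtain ⟨_, ⟨U₁, hU₁, rfl⟩, hcU₁, -⟩ := X.isBasis_affineOpens.exists_subset_of_mem_open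
    (Set.mem_univ (l (IsLocalRing.closedPoint R))) isOpen_univ
  have hl' : ⊤ ≤ l ⁻¹ᵁ U₁ := htop R _ hcU₁
  have hmem := fun n => res_mem_pow_of_section ξ H hj σ hσ t ht hU₁ n
  let ψ : CommRingCat.of A ⟶ CommRingCat.of R := Spec.preimage (l ≫ ξ)
  let ev : Γ(X, U₁) ⟶ CommRingCat.of R := l.appLE U₁ ⊤ hl' ≫ (Scheme.ΓSpecIso _).hom
  have hev : constMap ξ U₁ ≫ ev = ψ := by
    show constMap ξ U₁ ≫ l.appLE U₁ ⊤ hl' ≫ (Scheme.ΓSpecIso _).hom = _
    rw [← Category.assoc (constMap ξ U₁), constMap_comp, constMap_top, ← Spec.map_preimage (l ≫ ξ),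
      Category.assoc, Scheme.ΓSpecIso_naturality, Iso.inv_hom_id_assoc]
  have hloc : m.map ψ.hom ≤ IsLocalRing.maximalIdeal R := by
    rw [Ideal.map_le_iff_le_comap]
    have : (Spec.map ψ) (IsLocalRing.closedPoint R) = IsLocalRing.closedPoint A := by
      rw [Spec.map_preimage]
      exact hl
    exact le_of_eq (congrArg PrimeSpectrum.asIdeal this).symm
  have e : X.presheaf.map (homOfLE (le_top : U₁ ≤ ⊤)).op ≫ ev =
      l.appTop ≫ (Scheme.ΓSpecIso _).hom := by
    simp only [ev, Scheme.Hom.map_appLE_assoc]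
    exact congrArg (· ≫ _) (Scheme.Hom.app_eq_appLE l (U := ⊤)).symm
  have hz : (Scheme.ΓSpecIso (CommRingCat.of R)).hom.hom (l.appTop.hom t) ∈
      ⨅ n, IsLocalRing.maximalIdeal R ^ n := by
    refine Submodule.mem_iInf _ |>.2 fun n => ?_
    have h := Ideal.mem_map_of_mem ev.hom (hmem n)
    rw [Ideal.map_map, ← CommRingCat.hom_comp, hev, Ideal.map_pow, ← RingHom.comp_apply,
      ← CommRingCat.hom_comp, e] at h
    exact Ideal.pow_right_mono hloc n h
  rw [Ideal.iInf_pow_eq_bot_of_isLocalRing _ (IsLocalRing.maximalIdeal.isMaximal R).ne_top] at hz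
  exact (ConcreteCategory.bijective_of_isIso (Scheme.ΓSpecIso (CommRingCat.of R)).hom).1
    (hz.trans (map_zero _).symm)

include H in
/-- Two maps which agree on a section and send the closed fibre into a common affine open agree on
Noetherian germs along the closed fibre. -/
theorem germ_eq_of_section [IsNoetherianRing A] [Flat ξ] (hj : Function.Surjective j.appTop.hom)
    (σ : Spec (CommRingCat.of A) ⟶ X) (hσ : σ ≫ ξ = 𝟙 _) {Y : Scheme.{u}} (f g : X ⟶ Y)
    (hfg : σ ≫ f = σ ≫ g) (V : Y.Opens) (hV : IsAffineOpen V)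
    (hfib : ∀ x : X, ξ x = IsLocalRing.closedPoint A → f x ∈ V ∧ g x ∈ V)
    {R : Type u} [CommRing R] [IsLocalRing R] [IsNoetherianRing R]
    (l : Spec (CommRingCat.of R) ⟶ X)
    (hl : ξ (l (IsLocalRing.closedPoint R)) = IsLocalRing.closedPoint A) :
    l ≫ f = l ≫ g := by
  let W : X.Opens := f ⁻¹ᵁ V ⊓ g ⁻¹ᵁ V
  have hW : ∀ x : X, ξ x = IsLocalRing.closedPoint A → x ∈ W := fun x hx => hfib x hx
  have htop : ∀ (B : Type u) [CommRing B] [IsLocalRing B] (s : Spec (CommRingCat.of B) ⟶ X),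
      ξ (s (IsLocalRing.closedPoint B)) = IsLocalRing.closedPoint A → Set.range s ⊆ Set.range W.ι := by
    intro B _ _ s hs
    rw [Scheme.Opens.range_ι]
    rintro _ ⟨y, rfl⟩
    exact (IsLocalRing.specializes_closedPoint y).mem_open (s ⁻¹ᵁ W).2 (hW _ hs)
  have hi : Set.range i ⊆ Set.range W.ι := by
    rw [Scheme.Opens.range_ι]
    rintro _ ⟨z, rfl⟩
    refine hW _ ?_
    show (i ≫ ξ) z = _
    rw [H.w, Scheme.Hom.comp_apply, Subsingleton.elim (j z) (IsLocalRing.closedPoint _)]
    have : IsLocalHom (CommRingCat.ofHom (IsLocalRing.residue A)).hom :=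
      IsLocalHom.of_surjective _ IsLocalRing.residue_surjective
    exact IsLocalRing.comap_closedPoint (CommRingCat.ofHom (IsLocalRing.residue A)).hom
  let i' := IsOpenImmersion.lift W.ι i hi
  have hi' : i' ≫ W.ι = i := IsOpenImmersion.lift_fac _ _ _
  have w : i' ≫ W.ι ≫ ξ = j ≫ Spec.map (CommRingCat.ofHom (IsLocalRing.residue A)) := by
    rw [reassoc_of% hi', H.w]
  have H' : IsPullback i' j (W.ι ≫ ξ) (Spec.map (CommRingCat.ofHom (IsLocalRing.residue A))) :=
    IsPullback.of_isLimit' ⟨w⟩ (PullbackCone.IsLimit.mk _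
      (fun s => H.lift (s.fst ≫ W.ι) s.snd (by rw [Category.assoc, s.condition]))
      (fun s => by rw [← cancel_mono W.ι, Category.assoc, hi', H.lift_fst])
      (fun s => H.lift_snd _ _ _)
      (fun s q h1 h2 => H.hom_ext (by rw [H.lift_fst, ← h1, Category.assoc, hi'])
        (by rw [H.lift_snd, ← h2])))
  have hσc : ξ (σ (IsLocalRing.closedPoint A)) = IsLocalRing.closedPoint A := by
    show (σ ≫ ξ) _ = _
    rw [hσ]
    rfl
  let σ' := IsOpenImmersion.lift W.ι σ (htop A σ hσc)
  have hσ' : σ' ≫ W.ι = σ := IsOpenImmersion.lift_fac _ _ _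
  let l' := IsOpenImmersion.lift W.ι l (htop R l hl)
  have hl' : l' ≫ W.ι = l := IsOpenImmersion.lift_fac _ _ _
  have : IsAffine V := hV
  let f' := f.resLE V W inf_le_left
  let g' := g.resLE V W inf_le_right
  have key : l' ≫ f' = l' ≫ g' := by
    refine ext_of_isAffine ?_
    ext v
    simp only [Scheme.Hom.comp_appTop, CommRingCat.hom_comp, RingHom.comp_apply]
    rw [← sub_eq_zero, ← map_sub]
    refine appTop_eq_zero_of_section (W.ι ≫ ξ) H' hj σ' (by rw [reassoc_of% hσ', hσ]) _ ?_ l' ?_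
    · have h : σ' ≫ f' = σ' ≫ g' := by
        rw [← cancel_mono V.ι, Category.assoc, Category.assoc, Scheme.Hom.resLE_comp_ι,
          Scheme.Hom.resLE_comp_ι, reassoc_of% hσ', reassoc_of% hσ', hfg]
      rw [map_sub, sub_eq_zero]
      exact congrArg (fun φ : Spec (CommRingCat.of A) ⟶ (V : Scheme.{u}) => φ.appTop.hom v) h
    · rw [← hl, ← hl']
      rfl
  have := congrArg (· ≫ V.ι) key
  simpa [f', g', reassoc_of% hl'] using this

/-- `germ_eq_of_section` for bundled rings. -/
theorem germ_eq_of_section' {A : CommRingCat.{u}} [IsLocalRing A] [IsNoetherianRing A]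
    {X : Scheme.{u}} (ξ : X ⟶ Spec A) [Flat ξ] {Z : Scheme.{u}} {i : Z ⟶ X}
    {j : Z ⟶ Spec (CommRingCat.of (IsLocalRing.ResidueField A))}
    (H : IsPullback i j ξ (Spec.map (CommRingCat.ofHom (IsLocalRing.residue A))))
    (hj : Function.Surjective j.appTop.hom) (σ : Spec A ⟶ X) (hσ : σ ≫ ξ = 𝟙 _) {Y : Scheme.{u}}
    (f g : X ⟶ Y) (hfg : σ ≫ f = σ ≫ g) (V : Y.Opens) (hV : IsAffineOpen V)
    (hfib : ∀ x : X, ξ x = IsLocalRing.closedPoint A → f x ∈ V ∧ g x ∈ V)
    {R : CommRingCat.{u}} [IsLocalRing R] [IsNoetherianRing R] (l : Spec R ⟶ X)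
    (hl : ξ (l (IsLocalRing.closedPoint R)) = IsLocalRing.closedPoint A) :
    l ≫ f = l ≫ g :=
  germ_eq_of_section (A := A) (R := R) ξ H hj σ hσ f g hfg V hV hfib l hl

end Groth.Agent.AV
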