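/-
The relative rigidity lemma for flat morphisms with `κ(s) = H⁰(X_s, O)`.
-/
import Groth.Agent.L26.AV.Infinitesimal
import Groth.Agent.L19.Limit.CC
import Mathlib.AlgebraicGeometry.SpreadingOut
import Mathlib.AlgebraicGeometry.Fiber
import Mathlib.AlgebraicGeometry.Noetherian
import Mathlib.AlgebraicGeometry.Morphisms.Proper
import Mathlib.AlgebraicGeometry.Morphisms.Separated
import Mathlib.AlgebraicGeometry.Morphisms.UniversallyOpen
import Mathlib.AlgebraicGeometry.Sites.Fpqc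
import Mathlib.AlgebraicGeometry.ResidueField
import Mathlib.Topology.Constructible

open CategoryTheory CategoryTheory.Limits AlgebraicGeometry TopologicalSpace Opposite Topology

universe u

namespace Groth.Agent.AV

/-- Morphisms agreeing locally on an open agree on the open. -/
theorem opens_ι_comp_eq {X Y : Scheme.{u}} (f g : X ⟶ Y) (U : X.Opens)
    (h : ∀ x ∈ U, ∃ V : X.Opens, x ∈ V ∧ V.ι ≫ f = V.ι ≫ g) : U.ι ≫ f = U.ι ≫ g := by
  choose V hV hfg using h
  have hcov : IsOpenCover (fun x : U => U.ι ⁻¹ᵁ V x.1 x.2) := by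
    rw [IsOpenCover, eq_top_iff]
    intro y _
    exact Opens.mem_iSup.2 ⟨y, hV y.1 y.2⟩
  refine (U.toScheme.openCoverOfIsOpenCover _ hcov).hom_ext _ _ fun x => ?_
  show (U.ι ⁻¹ᵁ V x.1 x.2).ι ≫ U.ι ≫ f = (U.ι ⁻¹ᵁ V x.1 x.2).ι ≫ U.ι ≫ g
  rw [← morphismRestrict_ι_assoc, ← morphismRestrict_ι_assoc, hfg]

/-- The fibre over `s` has only constant functions. -/
def FibConst {X S : Scheme.{u}} (ξ : X ⟶ S) (s : S) : Prop :=
  Function.Surjective (pullback.snd ξ (S.fromSpecResidueField s)).appTop.hom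

theorem surjective_inr_of_isPushout {A B C D : CommRingCat.{u}} {f : A ⟶ B} {g : A ⟶ C}
    {inl : B ⟶ D} {inr : C ⟶ D} (h : IsPushout f g inl inr) (hf : Function.Surjective f.hom) :
    Function.Surjective inr.hom := by
  let E := inr.hom.range
  let inl' : B ⟶ CommRingCat.of E := CommRingCat.ofHom (inl.hom.codRestrict E fun b => by
    obtain ⟨a, rfl⟩ := hf b
    exact ⟨g.hom a, (congrArg (fun φ => φ.hom a) h.w).symm⟩)
  let inr' : C ⟶ CommRingCat.of E := CommRingCat.ofHom inr.hom.rangeRestrict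
  have w : f ≫ inl' = g ≫ inr' := by
    ext a
    exact congrArg (fun φ => φ.hom a) h.w
  have hid : h.desc inl' inr' w ≫ CommRingCat.ofHom E.subtype = 𝟙 D :=
    h.hom_ext (by rw [h.inl_desc_assoc, Category.comp_id]; rfl)
      (by rw [h.inr_desc_assoc, Category.comp_id]; rfl)
  intro d
  obtain ⟨c, hc⟩ := ((h.desc inl' inr' w).hom d).2
  exact ⟨c, hc.trans (congrArg (fun φ => φ.hom d) hid)⟩

/-- Surjectivity onto global functions is stable under extension of the ground field. -/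
theorem surjective_appTop_of_isPullback_field {k K : Type u} [Field k] [Field K]
    (φ : CommRingCat.of k ⟶ CommRingCat.of K) {Z Z' : Scheme.{u}} {g : Z' ⟶ Z}
    {j : Z ⟶ Spec (CommRingCat.of k)} {j' : Z' ⟶ Spec (CommRingCat.of K)}
    (H : IsPullback g j' j (Spec.map φ)) [CompactSpace Z] [QuasiSeparatedSpace Z]
    (hj : Function.Surjective j.appTop.hom) : Function.Surjective j'.appTop.hom := by
  have : Flat (Spec.map φ) := by
    rw [HasRingHomProperty.Spec_iff (P := @Flat)]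
    letI := φ.hom.toAlgebra
    exact (inferInstance : Module.Flat k K)
  have hp := (isIso_pushoutSection_iff H (US := ⊤) (UT := ⊤) (UX := ⊤) (UY := ⊤) (by simp) (by simp)
    (by simp)).1 (isIso_pushoutSection_of_isQuasiSeparated_of_flat_right H (by simp) (by simp)
      (by simp) (isAffineOpen_top _) (isAffineOpen_top _) isCompact_univ isQuasiSeparated_univ)
  have e : ∀ {A B : Scheme.{u}} (f : A ⟶ B) (h : (⊤ : A.Opens) ≤ f ⁻¹ᵁ ⊤),
      f.appLE ⊤ ⊤ h = f.appTop := fun f h => (Scheme.Hom.app_eq_appLE f (U := ⊤)).symm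
  erw [e, e, e, e] at hp
  exact surjective_inr_of_isPushout hp hj

variable {X Y S : Scheme.{u}}

theorem fibConst_snd {T : Scheme.{u}} (ξ : X ⟶ S) [QuasiCompact ξ] [QuasiSeparated ξ] (τ : T ⟶ S)
    (t : T) (h : FibConst ξ (τ t)) : FibConst (pullback.snd ξ τ) t := by
  let φ := τ.residueFieldMap t
  have hτ : Spec.map φ ≫ S.fromSpecResidueField (τ t) = T.fromSpecResidueField t ≫ τ :=
    Scheme.Hom.SpecMap_residueFieldMap_fromSpecResidueField τ t
  have : CompactSpace ↥(pullback ξ (S.fromSpecResidueField (τ t))) :=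
    (quasiCompact_iff_compactSpace (pullback.snd ξ (S.fromSpecResidueField (τ t)))).mp inferInstance
  have : QuasiSeparatedSpace ↥(pullback ξ (S.fromSpecResidueField (τ t))) :=
    quasiSeparatedSpace_of_quasiSeparated (pullback.snd ξ (S.fromSpecResidueField (τ t)))
  let g : pullback (pullback.snd ξ τ) (T.fromSpecResidueField t) ⟶
      pullback ξ (S.fromSpecResidueField (τ t)) :=
    pullback.lift (pullback.fst _ _ ≫ pullback.fst _ _) (pullback.snd _ _ ≫ Spec.map φ)
      (by rw [Category.assoc, pullback.condition, pullback.condition_assoc, Category.assoc, hτ])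
  have H : IsPullback g (pullback.snd (pullback.snd ξ τ) (T.fromSpecResidueField t))
      (pullback.snd ξ (S.fromSpecResidueField (τ t))) (Spec.map φ) := by
    refine IsPullback.of_right (h₁₂ := pullback.fst ξ (S.fromSpecResidueField (τ t))) ?_
      (pullback.lift_snd _ _ _) (IsPullback.of_hasPullback _ _)
    rw [hτ, pullback.lift_fst]
    exact (IsPullback.of_hasPullback _ _).paste_horiz (IsPullback.of_hasPullback ξ τ)
  exact surjective_appTop_of_isPullback_field (k := S.residueField (τ t)) (K := T.residueField t) φ H h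

/-- Rigidity along a fibre, in the presence of a section. -/
theorem exists_nhd_eq_comp_section [IsLocallyNoetherian X] [IsLocallyNoetherian S] (ξ : X ⟶ S)
    [Flat ξ] (hcl : IsClosedMap ξ) (σ : S ⟶ X) (hσ : σ ≫ ξ = 𝟙 S) (s : S) (hfib : FibConst ξ s)
    (f : X ⟶ Y) (hs : ∀ x, ξ x = s → f x = f (σ s)) :
    ∃ W : S.Opens, s ∈ W ∧ (ξ ⁻¹ᵁ W).ι ≫ f = (ξ ⁻¹ᵁ W).ι ≫ ξ ≫ σ ≫ f := by
  have key : ∀ x, ξ x = s → ∃ U : X.Opens, x ∈ U ∧ U.ι ≫ f = U.ι ≫ ξ ≫ σ ≫ f := by
    rintro x rfl
    apply spread_out_unique_of_isGermInjective'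
    let ι := S.fromSpecStalk (ξ x)
    let ξ' := pullback.snd ξ ι
    let σ' : Spec (S.presheaf.stalk (ξ x)) ⟶ pullback ξ ι := pullback.lift (ι ≫ σ) (𝟙 _)
      (by rw [Category.assoc, hσ, Category.comp_id, Category.id_comp])
    let l : Spec (X.presheaf.stalk x) ⟶ pullback ξ ι :=
      pullback.lift (X.fromSpecStalk x) (Spec.map (ξ.stalkMap x))
        (Scheme.SpecMap_stalkMap_fromSpecStalk ξ).symm
    let res : S.presheaf.stalk (ξ x) ⟶ S.residueField (ξ x) :=
      CommRingCat.ofHom (IsLocalRing.residue (S.presheaf.stalk (ξ x)))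
    have hres : Spec.map res ≫ ι = S.fromSpecResidueField (ξ x) := rfl
    let i : pullback ξ (S.fromSpecResidueField (ξ x)) ⟶ pullback ξ ι :=
      pullback.lift (pullback.fst _ _) (pullback.snd _ _ ≫ Spec.map res)
        (by rw [Category.assoc, hres, pullback.condition])
    have H : IsPullback i (pullback.snd ξ (S.fromSpecResidueField (ξ x))) ξ' (Spec.map res) := by
      refine IsPullback.of_right (h₁₂ := pullback.fst ξ ι) ?_
        (pullback.lift_snd _ _ _) (IsPullback.of_hasPullback _ _)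
      rw [hres, pullback.lift_fst]
      exact IsPullback.of_hasPullback _ _
    obtain ⟨_, ⟨V, hV, rfl⟩, hyV, -⟩ := Y.isBasis_affineOpens.exists_subset_of_mem_open
      (Set.mem_univ (f (σ (ξ x)))) isOpen_univ
    have hc : ι (IsLocalRing.closedPoint (S.presheaf.stalk (ξ x))) = ξ x := Scheme.fromSpecStalk_closedPoint
    have h := germ_eq_of_section' (A := S.presheaf.stalk (ξ x)) (R := X.presheaf.stalk x) ξ' H hfib σ' (pullback.lift_snd _ _ _)
      (pullback.fst ξ ι ≫ f) (ξ' ≫ ι ≫ σ ≫ f)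
      ((pullback.lift_fst_assoc _ _ _ _).trans ((Category.assoc _ _ _).trans
        ((Category.id_comp _).symm.trans (pullback.lift_snd_assoc _ _ _ _).symm)))
      V hV
      (fun p hp => by
        have h2 : ξ (pullback.fst ξ ι p) = ξ x := by
          show (pullback.fst ξ ι ≫ ξ) p = _
          rw [pullback.condition, Scheme.Hom.comp_apply]
          exact (congrArg ι hp).trans hc
        refine ⟨?_, ?_⟩
        · show f (pullback.fst ξ ι p) ∈ V
          rw [hs _ h2]
          exact hyV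
        · show f (σ (ι (ξ' p))) ∈ V
          exact (congrArg (fun q => f (σ q)) ((congrArg ι hp).trans hc)) ▸ hyV)
      l (by
        show (l ≫ pullback.snd ξ ι) _ = _
        rw [pullback.lift_snd]
        exact IsLocalRing.comap_closedPoint (ξ.stalkMap x).hom)
    have h1 : l ≫ pullback.fst ξ ι ≫ f = X.fromSpecStalk x ≫ f := pullback.lift_fst_assoc _ _ _ _
    have h2 : l ≫ ξ' ≫ ι ≫ σ ≫ f = X.fromSpecStalk x ≫ ξ ≫ σ ≫ f :=
      (pullback.lift_snd_assoc _ _ _ _).trans (Scheme.SpecMap_stalkMap_fromSpecStalk_assoc ξ _)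
    exact h1.symm.trans (h.trans h2)
  choose U hU heq using key
  let Ω : X.Opens := ⨆ (x) (hx : ξ x = s), U x hx
  refine ⟨⟨_, (hcl _ Ω.2.isClosed_compl).isOpen_compl⟩, ?_, ?_⟩
  · rintro ⟨x, hx, hxs⟩
    exact hx (Opens.mem_iSup.2 ⟨x, Opens.mem_iSup.2 ⟨hxs, hU x hxs⟩⟩)
  · refine opens_ι_comp_eq _ _ _ fun z hz => ?_
    have hzΩ : z ∈ Ω := not_not.1 fun h => hz ⟨z, h, rfl⟩
    obtain ⟨x, hx⟩ := Opens.mem_iSup.1 hzΩ
    obtain ⟨hxs, hx⟩ := Opens.mem_iSup.1 hx
    exact ⟨U x hxs, hx, heq x hxs⟩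

/-- A fibre map is constant iff the two projections of the fibre square agree after composition. -/
theorem apply_eq_of_pr_eq (ξ : X ⟶ S) (f : X ⟶ Y) (U : S.Opens)
    (h : ((pullback.fst ξ ξ ≫ ξ) ⁻¹ᵁ U).ι ≫ pullback.fst ξ ξ ≫ f =
      ((pullback.fst ξ ξ ≫ ξ) ⁻¹ᵁ U).ι ≫ pullback.snd ξ ξ ≫ f)
    {x x' : X} (hx : ξ x ∈ U) (hxx : ξ x = ξ x') : f x = f x' := by
  obtain ⟨p, hp, hp'⟩ := Scheme.Pullback.exists_preimage_pullback x x' hxx
  have hpU : p ∈ (pullback.fst ξ ξ ≫ ξ) ⁻¹ᵁ U := by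
    show ξ (pullback.fst ξ ξ p) ∈ U
    rwa [hp]
  have := congrArg (fun φ => φ (⟨p, hpU⟩ : ↥((pullback.fst ξ ξ ≫ ξ) ⁻¹ᵁ U))) h
  simp only [Scheme.Hom.comp_apply] at this
  rw [← hp, ← hp']
  exact this

/-- Rigidity along a fibre, without a section: the two pullbacks to the fibre square agree. -/
theorem exists_nhd_pr_eq [IsLocallyNoetherian S] (ξ : X ⟶ S) [IsProper ξ] [Flat ξ] (s : S)
    (hfib : FibConst ξ s) (f : X ⟶ Y) (hs : ∀ x x', ξ x = s → ξ x' = s → f x = f x') :
    ∃ W : S.Opens, s ∈ W ∧ ((pullback.fst ξ ξ ≫ ξ) ⁻¹ᵁ W).ι ≫ pullback.fst ξ ξ ≫ f =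
      ((pullback.fst ξ ξ ≫ ξ) ⁻¹ᵁ W).ι ≫ pullback.snd ξ ξ ≫ f := by
  have : IsLocallyNoetherian X := LocallyOfFiniteType.isLocallyNoetherian ξ
  have : IsLocallyNoetherian (pullback ξ ξ) :=
    LocallyOfFiniteType.isLocallyNoetherian (pullback.snd ξ ξ)
  have key : ∀ x, ξ x = s → ∃ U : X.Opens, x ∈ U ∧
      (pullback.snd ξ ξ ⁻¹ᵁ U).ι ≫ pullback.fst ξ ξ ≫ f =
        (pullback.snd ξ ξ ⁻¹ᵁ U).ι ≫ pullback.snd ξ ξ ≫ f := by
    intro x hx
    obtain ⟨U, hxU, hU⟩ := exists_nhd_eq_comp_section (pullback.snd ξ ξ)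
      (pullback.snd ξ ξ).isClosedMap (pullback.diagonal ξ) (pullback.diagonal_snd ξ) x
      (fibConst_snd ξ ξ x (hx ▸ hfib)) (pullback.fst ξ ξ ≫ f) (fun p hp => by
        refine hs _ _ ?_ ?_
        · show (pullback.fst ξ ξ ≫ ξ) p = s
          rw [pullback.condition, Scheme.Hom.comp_apply, hp, hx]
        · show ξ ((pullback.diagonal ξ ≫ pullback.fst ξ ξ) x) = s
          rw [pullback.diagonal_fst]
          exact hx)
    exact ⟨U, hxU, hU.trans (by rw [pullback.diagonal_fst_assoc])⟩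
  choose U hU heq using key
  let Ω : X.Opens := ⨆ (x) (hx : ξ x = s), U x hx
  refine ⟨⟨_, (ξ.isClosedMap _ Ω.2.isClosed_compl).isOpen_compl⟩, ?_, ?_⟩
  · rintro ⟨x, hx, hxs⟩
    exact hx (Opens.mem_iSup.2 ⟨x, Opens.mem_iSup.2 ⟨hxs, hU x hxs⟩⟩)
  · refine opens_ι_comp_eq _ _ _ fun z hz => ?_
    have hz' : ξ (pullback.snd ξ ξ z) ∉ ξ '' (Ω : Set X)ᶜ := by
      have : (pullback.snd ξ ξ ≫ ξ) z ∉ ξ '' (Ω : Set X)ᶜ := by
        rw [← pullback.condition]
        exact hz
      exact this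
    have hzΩ : pullback.snd ξ ξ z ∈ Ω := not_not.1 fun h => hz' ⟨_, h, rfl⟩
    obtain ⟨x, hx⟩ := Opens.mem_iSup.1 hzΩ
    obtain ⟨hxs, hx⟩ := Opens.mem_iSup.1 hx
    exact ⟨_, hx, heq x hxs⟩

/-- Two maps to a separated scheme agreeing over an open agree as maps of points over its closure. -/
theorem apply_eq_of_mem_closure [IsLocallyNoetherian S] {P : Scheme.{u}} (π : P ⟶ S) [Flat π]
    (v : Y ⟶ S) [IsSeparated v] (a b : P ⟶ Y) (ha : a ≫ v = π) (hb : b ≫ v = π) (U : S.Opens)
    (h : (π ⁻¹ᵁ U).ι ≫ a = (π ⁻¹ᵁ U).ι ≫ b) {p : P} (hp : π p ∈ closure (U : Set S)) : a p = b p := by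
  let e := pullback.fst (pullback.lift a b (ha.trans hb.symm)) (pullback.diagonal v)
  have hcl : IsClosed (Set.range e) := e.isClosedMap.isClosed_range
  have he : ∀ q ∈ Set.range e, a q = b q := by
    rintro _ ⟨w, rfl⟩
    show (e ≫ a) w = (e ≫ b) w
    have ea : e ≫ a = pullback.snd _ _ := by
      have := congrArg (· ≫ pullback.fst v v) (pullback.condition
        (f := pullback.lift a b (ha.trans hb.symm)) (g := pullback.diagonal v))
      simp only [Category.assoc, pullback.lift_fst, pullback.diagonal_fst, Category.comp_id] at this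
      exact this
    have eb : e ≫ b = pullback.snd _ _ := by
      have := congrArg (· ≫ pullback.snd v v) (pullback.condition
        (f := pullback.lift a b (ha.trans hb.symm)) (g := pullback.diagonal v))
      simp only [Category.assoc, pullback.lift_snd, pullback.diagonal_snd, Category.comp_id] at this
      exact this
    rw [ea, eb]
  refine he p (hcl.closure_subset_iff.2 ?_ (Groth.L19.Limit.preimage_closure_subset_of_generalizingMap
    ?_ π (Flat.generalizingMap π) hp))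
  · intro q hq
    let w : ((π ⁻¹ᵁ U : P.Opens) : Scheme.{u}) ⟶ pullback (pullback.lift a b (ha.trans hb.symm))
        (pullback.diagonal v) :=
      pullback.lift (π ⁻¹ᵁ U).ι ((π ⁻¹ᵁ U).ι ≫ a) (by
        apply pullback.hom_ext
        · simp only [Category.assoc, pullback.lift_fst, pullback.diagonal_fst, Category.comp_id]
        · simp only [Category.assoc, pullback.lift_snd, pullback.diagonal_snd, Category.comp_id]
          exact h.symm)
    refine ⟨w ⟨q, hq⟩, ?_⟩
    show (w ≫ e) ⟨q, hq⟩ = q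
    rw [pullback.lift_fst]
    rfl
  · refine Groth.L19.Limit.cc_of_isLocallyConstructible
      (IsRetrocompact.isLocallyConstructible U.2 fun V hVc hVo => ?_)
    let V' : S.Opens := ⟨V, hVo⟩
    have : CompactSpace V' := isCompact_iff_compactSpace.mp hVc
    have : IsNoetherian V'.toScheme := {}
    have := (TopologicalSpace.NoetherianSpace.isCompact (V'.ι ⁻¹' (U : Set S))).image V'.ι.continuous
    rwa [Set.image_preimage_eq_inter_range, Scheme.Opens.range_ι] at this

end Groth.Agent.AV
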