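/-
Proper schemes with geometrically connected and reduced fibres have only constant functions on fibres.
-/
import Groth.Agent.L26.AV.RelRigidity
import Mathlib.AlgebraicGeometry.Geometrically.Connected
import Mathlib.AlgebraicGeometry.Geometrically.Integral
import Mathlib.AlgebraicGeometry.Properties
import Mathlib.FieldTheory.IsAlgClosed.AlgebraicClosure

open CategoryTheory CategoryTheory.Limits AlgebraicGeometry TopologicalSpace Opposite TensorProduct

universe u

namespace Groth.Agent.AV

/-- Over an algebraically closed field, a reduced connected universally closed scheme has only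
constant functions. -/
theorem surjective_appTop_algClosed {K : Type u} [Field K] [IsAlgClosed K] {Z : Scheme.{u}}
    (j : Z ⟶ Spec (CommRingCat.of K)) [UniversallyClosed j] [IsReduced Z] [ConnectedSpace Z] :
    Function.Surjective j.appTop.hom := by
  classical
  intro x
  let F := (Scheme.ΓSpecIso (CommRingCat.of K)).inv ≫ j.appTop
  suffices h : ∃ a, F.hom a = x from let ⟨a, ha⟩ := h; ⟨_, ha⟩
  have hint : F.hom.IsIntegral := by
    rw [CommRingCat.hom_comp]
    exact RingHom.IsIntegral.trans _ _
      (RingHom.isIntegral_of_surjective _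
        (ConcreteCategory.bijective_of_isIso (Scheme.ΓSpecIso (CommRingCat.of K)).inv).2)
      (isIntegral_appTop_of_universallyClosed j)
  obtain ⟨p, hp, hpx⟩ := hint x
  have hsplit := (IsAlgClosed.splits p).eq_prod_roots_of_monic hp
  rw [hsplit, Polynomial.eval₂_multiset_prod] at hpx
  simp only [Multiset.map_map, Function.comp_def, Polynomial.eval₂_sub, Polynomial.eval₂_X,
    Polynomial.eval₂_C] at hpx
  let C : K → Set Z := fun a => (Z.basicOpen (x - F.hom a) : Set Z)ᶜ
  have hC : ∀ a, IsClosed (C a) := fun a => (Z.basicOpen _).2.isClosed_compl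
  have hcov : ∀ z : Z, ∃ a ∈ p.roots.toFinset, z ∈ C a := by
    intro z
    by_contra hcon
    push Not at hcon
    have h : IsUnit (Z.presheaf.germ ⊤ z trivial (p.roots.map fun a => x - F.hom a).prod) := by
      rw [map_multiset_prod, Multiset.map_map]
      refine Multiset.prod_induction IsUnit _ (fun a b ha hb => ha.mul hb) isUnit_one fun u hu => ?_
      obtain ⟨a, ha, rfl⟩ := Multiset.mem_map.1 hu
      have := hcon a (Multiset.mem_toFinset.2 ha)
      exact (Z.mem_basicOpen (U := ⊤) _ z trivial).1 (not_not.1 this)
    rw [hpx, map_zero, isUnit_zero_iff] at h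
    exact zero_ne_one h
  have hdisj : ∀ a b, a ≠ b → ∀ z, z ∈ C a → z ∉ C b := by
    intro a b hab z ha hb
    have hu : IsUnit (Z.presheaf.germ ⊤ z trivial (F.hom b - F.hom a)) := by
      rw [← map_sub]
      exact (((sub_ne_zero.2 hab.symm).isUnit).map F.hom).map _
    have h1 : ¬ IsUnit (Z.presheaf.germ ⊤ z trivial (x - F.hom a)) := fun h =>
      ha ((Z.mem_basicOpen (U := ⊤) _ z trivial).2 h)
    have h2 : ¬ IsUnit (Z.presheaf.germ ⊤ z trivial (x - F.hom b)) := fun h =>
      hb ((Z.mem_basicOpen (U := ⊤) _ z trivial).2 h)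
    rw [show F.hom b - F.hom a = (x - F.hom a) + -(x - F.hom b) by abel, map_add, map_neg] at hu
    rcases IsLocalRing.isUnit_or_isUnit_of_isUnit_add hu with h | h
    · exact h1 h
    · exact h2 (IsUnit.neg_iff _ |>.1 h)
  obtain ⟨z₀⟩ := (inferInstance : Nonempty Z)
  obtain ⟨a, ha, hz⟩ := hcov z₀
  refine ⟨a, ?_⟩
  have hopen : IsOpen (C a) := by
    have : C a = (⋃ b ∈ (p.roots.toFinset.erase a : Finset K), C b)ᶜ := by
      ext z
      simp only [Set.mem_compl_iff, Set.mem_iUnion, not_exists]
      refine ⟨fun h b hb => hdisj a b (Finset.ne_of_mem_erase hb).symm z h, fun h => ?_⟩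
      obtain ⟨b, hb, hzb⟩ := hcov z
      by_cases hab : b = a
      · exact hab ▸ hzb
      · exact absurd hzb (h b (Finset.mem_erase.2 ⟨hab, hb⟩))
    rw [this, isOpen_compl_iff]
    exact isClosed_biUnion_finset fun b _ => hC b
  have huniv : C a = Set.univ := IsClopen.eq_univ ⟨hC a, hopen⟩ ⟨z₀, hz⟩
  have : Z.basicOpen (x - F.hom a) = ⊥ := by
    ext z
    simp only [Opens.coe_bot, Set.mem_empty_iff_false, iff_false]
    intro h
    have : z ∈ C a := huniv ▸ Set.mem_univ z
    exact this h
  rw [basicOpen_eq_bot_iff, sub_eq_zero] at this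
  exact this.symm

/-- Constants descend along an extension of the ground field. -/
theorem surjective_of_isPushout_field {k K : Type u} [Field k] [Field K] {B D : CommRingCat.{u}}
    {f : CommRingCat.of k ⟶ B} {g : CommRingCat.of k ⟶ CommRingCat.of K} {inl : B ⟶ D}
    {inr : CommRingCat.of K ⟶ D} (h : IsPushout f g inl inr) (hr : Function.Surjective inr.hom) :
    Function.Surjective f.hom := by
  let : Algebra k B := f.hom.toAlgebra
  let : Algebra k K := g.hom.toAlgebra
  let iL : B ⟶ CommRingCat.of (B ⊗[k] K) :=
    CommRingCat.ofHom Algebra.TensorProduct.includeLeftRingHom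
  let iR : CommRingCat.of K ⟶ CommRingCat.of (B ⊗[k] K) :=
    CommRingCat.ofHom Algebra.TensorProduct.includeRight.toRingHom
  have w : f ≫ iL = g ≫ iR := (CommRingCat.isPushout_tensorProduct k B K).w
  intro y
  obtain ⟨c, hc⟩ := hr (inl.hom y)
  have e : (1 : B) ⊗ₜ[k] c = y ⊗ₜ[k] (1 : K) := by
    have := congrArg (h.desc iL iR w).hom hc
    rw [← RingHom.comp_apply, ← RingHom.comp_apply, ← CommRingCat.hom_comp, ← CommRingCat.hom_comp,
      h.inr_desc, h.inl_desc] at this
    exact this
  obtain ⟨r, hr1⟩ := (Algebra.linearMap k K).exists_leftInverse_of_injective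
    (LinearMap.ker_eq_bot.2 (algebraMap k K).injective)
  have := congrArg (fun t => TensorProduct.rid k B (LinearMap.lTensor B r t)) e
  simp only [LinearMap.lTensor_tmul, TensorProduct.rid_tmul] at this
  rw [show r 1 = 1 by simpa using LinearMap.congr_fun hr1 1, one_smul, Algebra.smul_def, mul_one] at this
  exact ⟨r c, this⟩

/-- Constant functions from the connected reduced base change to an algebraic closure. -/
theorem surjective_appTop_of_algebraicClosure {k : Type u} [Field k] {Z : Scheme.{u}}
    (j : Z ⟶ Spec (CommRingCat.of k)) [UniversallyClosed j] [QuasiSeparated j]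
    (hc : ConnectedSpace ↥(pullback j (Spec.map (CommRingCat.ofHom (algebraMap k (AlgebraicClosure k))))))
    (hred : IsReduced (pullback j (Spec.map (CommRingCat.ofHom (algebraMap k (AlgebraicClosure k)))))) :
    Function.Surjective j.appTop.hom := by
  let φ : CommRingCat.of k ⟶ CommRingCat.of (AlgebraicClosure k) := CommRingCat.ofHom (algebraMap _ _)
  have : CompactSpace Z := (quasiCompact_iff_compactSpace j).mp inferInstance
  have : QuasiSeparatedSpace Z := quasiSeparatedSpace_of_quasiSeparated j
  have H : IsPullback (pullback.fst j (Spec.map φ)) (pullback.snd j (Spec.map φ)) j (Spec.map φ) :=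
    IsPullback.of_hasPullback _ _
  have : IsReduced (pullback j (Spec.map φ)) := hred
  have : ConnectedSpace ↥(pullback j (Spec.map φ)) := hc
  have : Flat (Spec.map φ) := by
    rw [HasRingHomProperty.Spec_iff (P := @Flat)]
    let := φ.hom.toAlgebra
    exact (inferInstance : Module.Flat k (AlgebraicClosure k))
  have hs := surjective_appTop_algClosed (pullback.snd j (Spec.map φ))
  have hp := (isIso_pushoutSection_iff H (US := ⊤) (UT := ⊤) (UX := ⊤) (UY := ⊤) (by simp) (by simp)
    (by simp)).1 (isIso_pushoutSection_of_isQuasiSeparated_of_flat_right H (by simp) (by simp)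
      (by simp) (isAffineOpen_top _) (isAffineOpen_top _) isCompact_univ isQuasiSeparated_univ)
  have e : ∀ {A B : Scheme.{u}} (f : A ⟶ B) (h : (⊤ : A.Opens) ≤ f ⁻¹ᵁ ⊤),
      f.appLE ⊤ ⊤ h = f.appTop := fun f h => (Scheme.Hom.app_eq_appLE f (U := ⊤)).symm
  erw [e, e, e, e] at hp
  have w : ((Scheme.ΓSpecIso (CommRingCat.of k)).inv ≫ j.appTop) ≫ (pullback.fst j (Spec.map φ)).appTop =
      φ ≫ (Scheme.ΓSpecIso (CommRingCat.of (AlgebraicClosure k))).inv ≫
        (pullback.snd j (Spec.map φ)).appTop := by
    rw [Category.assoc, hp.w, Scheme.ΓSpecIso_inv_naturality_assoc]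
  have hp' : IsPushout ((Scheme.ΓSpecIso (CommRingCat.of k)).inv ≫ j.appTop) φ
      (pullback.fst j (Spec.map φ)).appTop
      ((Scheme.ΓSpecIso (CommRingCat.of (AlgebraicClosure k))).inv ≫
        (pullback.snd j (Spec.map φ)).appTop) :=
    hp.of_iso (Scheme.ΓSpecIso _) (Iso.refl _) (Scheme.ΓSpecIso _) (Iso.refl _) (by simp)
      (Scheme.ΓSpecIso_naturality φ) (by simp) (by simp)
  intro y
  obtain ⟨a, ha⟩ := surjective_of_isPushout_field hp' (by
    rw [CommRingCat.hom_comp, RingHom.coe_comp]
    exact hs.comp (ConcreteCategory.bijective_of_isIso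
      (Scheme.ΓSpecIso (CommRingCat.of (AlgebraicClosure k))).inv).2) y
  exact ⟨_, ha⟩

/-- A geometrically connected and reduced universally closed scheme over a field has only constant
functions. -/
theorem surjective_appTop_geometric {k : Type u} [Field k] {Z : Scheme.{u}}
    (j : Z ⟶ Spec (CommRingCat.of k)) [UniversallyClosed j] [QuasiSeparated j]
    [GeometricallyConnected j] [GeometricallyReduced j] :
    Function.Surjective j.appTop.hom :=
  surjective_appTop_of_algebraicClosure j
    (GeometricallyConnected.geometrically_connectedSpace _ _ _ (IsPullback.of_hasPullback _ _))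
    (GeometricallyReduced.geometrically_isReduced _ _ _ (IsPullback.of_hasPullback _ _))

/-- The fibre has only constant functions if the geometric fibre is connected and reduced. -/
theorem fibConst_of_geomFibre {X S : Scheme.{u}} (ξ : X ⟶ S) [UniversallyClosed ξ] [QuasiSeparated ξ]
    (s : S)
    (hc : ConnectedSpace ↥(pullback ξ (Spec.map (CommRingCat.ofHom (algebraMap (S.residueField s)
      (AlgebraicClosure (S.residueField s)))) ≫ S.fromSpecResidueField s)))
    (hred : IsReduced (pullback ξ (Spec.map (CommRingCat.ofHom (algebraMap (S.residueField s)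
      (AlgebraicClosure (S.residueField s)))) ≫ S.fromSpecResidueField s))) :
    FibConst ξ s := by
  let e := pullbackLeftPullbackSndIso ξ (S.fromSpecResidueField s)
    (Spec.map (CommRingCat.ofHom (algebraMap (S.residueField s) (AlgebraicClosure (S.residueField s)))))
  exact surjective_appTop_of_algebraicClosure (k := S.residueField s)
    (pullback.snd ξ (S.fromSpecResidueField s))
    (e.hom.homeomorph.connectedSpace_iff.2 hc)
    (@isReduced_of_isOpenImmersion _ _ e.hom _ hred)

theorem fibConst_of_geometrically {X S : Scheme.{u}} (ξ : X ⟶ S) [UniversallyClosed ξ]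
    [QuasiSeparated ξ] [GeometricallyConnected ξ] [GeometricallyReduced ξ] (s : S) : FibConst ξ s :=
  surjective_appTop_geometric (k := S.residueField s) (pullback.snd ξ (S.fromSpecResidueField s))

instance {X S : Scheme.{u}} (ξ : X ⟶ S) [GeometricallyIrreducible ξ] : GeometricallyConnected ξ where
  geometrically_connectedSpace K _ t P p₁ p₂ H := by
    have : IrreducibleSpace ↥P := GeometricallyIrreducible.geometrically_irreducibleSpace _ _ _ H
    infer_instance

end Groth.Agent.AV
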