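/-
Constant functions on flat finitely presented schemes over an arbitrary affine base.
-/
import Groth.Agent.L26.AV.RelRigidity
import Groth.Agent.L26.AV.FibConst
import Groth.Agent.L19.Limit.BaseChange
import Groth.Agent.L19.Limit.FlatStage
import Groth.Agent.L05.ModelFG

set_option autoImplicit false
set_option linter.style.haveILetI false
set_option backward.isDefEq.respectTransparency.types false

open CategoryTheory CategoryTheory.Limits AlgebraicGeometry TopologicalSpace Opposite Topology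

universe u

namespace Groth.Agent.AV

variable {X S : Scheme.{u}}

/-- Near a point whose fibre has only constant functions, a map to an affine scheme is the pullback of
its restriction to a section. -/
theorem exists_nhd_eq_comp_section_affine [IsLocallyNoetherian X] [IsLocallyNoetherian S] (ξ : X ⟶ S)
    [Flat ξ] (σ : S ⟶ X) (hσ : σ ≫ ξ = 𝟙 S) (x : X) (hfib : FibConst ξ (ξ x))
    {Y : Scheme.{u}} [IsAffine Y] (f : X ⟶ Y) :
    ∃ U : X.Opens, x ∈ U ∧ U.ι ≫ f = U.ι ≫ ξ ≫ σ ≫ f := by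
  apply spread_out_unique_of_isGermInjective'
  let ι := S.fromSpecStalk (ξ x)
  let ξ' := pullback.snd ξ ι
  let σ' : Spec (S.presheaf.stalk (ξ x)) ⟶ pullback ξ ι := pullback.lift (ι ≫ σ) (𝟙 _)
    (by rw [Category.assoc, hσ, Category.comp_id, Category.id_comp])
  let l : Spec (X.presheaf.stalk x) ⟶ pullback ξ ι :=
    pullback.lift (X.fromSpecStalk x) (Spec.map (ξ.stalkMap x))
      (Scheme.SpecMap_stalkMap_fromSpecStalk ξ).symm
  let res : S.presheaf.stalk (ξ x) ⟶ S.residueField (ξ x) :=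
    CommRingCat.ofHom (IsLocalRing.residue (S.presheaf.stalk (ξ x)))
  have hres : Spec.map res ≫ ι = S.fromSpecResidueField (ξ x) := rfl
  let i : pullback ξ (S.fromSpecResidueField (ξ x)) ⟶ pullback ξ ι :=
    pullback.lift (pullback.fst _ _) (pullback.snd _ _ ≫ Spec.map res)
      (by rw [Category.assoc, hres, pullback.condition])
  have H : IsPullback i (pullback.snd ξ (S.fromSpecResidueField (ξ x))) ξ' (Spec.map res) := by
    refine IsPullback.of_right (h₁₂ := pullback.fst ξ ι) ?_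
      (pullback.lift_snd _ _ _) (IsPullback.of_hasPullback _ _)
    rw [hres, pullback.lift_fst]
    exact IsPullback.of_hasPullback _ _
  have h := germ_eq_of_section' (A := S.presheaf.stalk (ξ x)) (R := X.presheaf.stalk x) ξ' H hfib σ'
    (pullback.lift_snd _ _ _) (pullback.fst ξ ι ≫ f) (ξ' ≫ ι ≫ σ ≫ f)
    ((pullback.lift_fst_assoc _ _ _ _).trans ((Category.assoc _ _ _).trans
      ((Category.id_comp _).symm.trans (pullback.lift_snd_assoc _ _ _ _).symm)))
    ⊤ (isAffineOpen_top Y) (fun p _ => ⟨trivial, trivial⟩) l (by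
      show (l ≫ pullback.snd ξ ι) _ = _
      rw [pullback.lift_snd]
      exact IsLocalRing.comap_closedPoint (ξ.stalkMap x).hom)
  have h1 : l ≫ pullback.fst ξ ι ≫ f = X.fromSpecStalk x ≫ f := pullback.lift_fst_assoc _ _ _ _
  have h2 : l ≫ ξ' ≫ ι ≫ σ ≫ f = X.fromSpecStalk x ≫ ξ ≫ σ ≫ f :=
    (pullback.lift_snd_assoc _ _ _ _).trans (Scheme.SpecMap_stalkMap_fromSpecStalk_assoc ξ _)
  exact h1.symm.trans (h.trans h2)

/-- Surjectivity onto global functions descends along an extension of the ground field. -/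
theorem surjective_appTop_of_isPullback_field_desc {k K : Type u} [Field k] [Field K]
    (φ : CommRingCat.of k ⟶ CommRingCat.of K) {Z Z' : Scheme.{u}} {g : Z' ⟶ Z}
    {j : Z ⟶ Spec (CommRingCat.of k)} {j' : Z' ⟶ Spec (CommRingCat.of K)}
    (H : IsPullback g j' j (Spec.map φ)) [CompactSpace Z] [QuasiSeparatedSpace Z]
    (hj : Function.Surjective j'.appTop.hom) : Function.Surjective j.appTop.hom := by
  have : Flat (Spec.map φ) := by
    rw [HasRingHomProperty.Spec_iff (P := @Flat)]
    letI := φ.hom.toAlgebra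
    exact (inferInstance : Module.Flat k K)
  have hp := (isIso_pushoutSection_iff H (US := ⊤) (UT := ⊤) (UX := ⊤) (UY := ⊤) (by simp) (by simp)
    (by simp)).1 (isIso_pushoutSection_of_isQuasiSeparated_of_flat_right H (by simp) (by simp)
      (by simp) (isAffineOpen_top _) (isAffineOpen_top _) isCompact_univ isQuasiSeparated_univ)
  have e : ∀ {A B : Scheme.{u}} (f : A ⟶ B) (h : (⊤ : A.Opens) ≤ f ⁻¹ᵁ ⊤),
      f.appLE ⊤ ⊤ h = f.appTop := fun f h => (Scheme.Hom.app_eq_appLE f (U := ⊤)).symm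
  erw [e, e, e, e] at hp
  have w : ((Scheme.ΓSpecIso (CommRingCat.of k)).inv ≫ j.appTop) ≫ g.appTop =
      φ ≫ (Scheme.ΓSpecIso (CommRingCat.of K)).inv ≫ j'.appTop := by
    rw [Category.assoc, hp.w, Scheme.ΓSpecIso_inv_naturality_assoc]
  have hp' : IsPushout ((Scheme.ΓSpecIso (CommRingCat.of k)).inv ≫ j.appTop) φ
      g.appTop ((Scheme.ΓSpecIso (CommRingCat.of K)).inv ≫ j'.appTop) :=
    hp.of_iso (Scheme.ΓSpecIso _) (Iso.refl _) (Scheme.ΓSpecIso _) (Iso.refl _) (by simp)
      (Scheme.ΓSpecIso_naturality φ) (by simp) (by simp)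
  intro y
  obtain ⟨a, ha⟩ := surjective_of_isPushout_field hp' (by
    rw [CommRingCat.hom_comp, RingHom.coe_comp]
    exact Function.Surjective.comp hj (ConcreteCategory.bijective_of_isIso
      (Scheme.ΓSpecIso (CommRingCat.of K)).inv).2) y
  exact ⟨_, ha⟩

/-- Constancy of functions on a fibre can be checked after a base change. -/
theorem fibConst_of_isPullback {Z T : Scheme.{u}} {g : Z ⟶ X} {ζ : Z ⟶ T} {ξ : X ⟶ S} {τ : T ⟶ S}
    [QuasiCompact ξ] [QuasiSeparated ξ] (sq : IsPullback g ζ ξ τ) (t : T) (h : FibConst ζ t) :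
    FibConst ξ (τ t) := by
  let φ := τ.residueFieldMap t
  have hτ : Spec.map φ ≫ S.fromSpecResidueField (τ t) = T.fromSpecResidueField t ≫ τ :=
    Scheme.Hom.SpecMap_residueFieldMap_fromSpecResidueField τ t
  have : CompactSpace ↥(pullback ξ (S.fromSpecResidueField (τ t))) :=
    (quasiCompact_iff_compactSpace (pullback.snd ξ (S.fromSpecResidueField (τ t)))).mp inferInstance
  have : QuasiSeparatedSpace ↥(pullback ξ (S.fromSpecResidueField (τ t))) :=
    quasiSeparatedSpace_of_quasiSeparated (pullback.snd ξ (S.fromSpecResidueField (τ t)))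
  let G : pullback ζ (T.fromSpecResidueField t) ⟶ pullback ξ (S.fromSpecResidueField (τ t)) :=
    pullback.lift (pullback.fst _ _ ≫ g) (pullback.snd _ _ ≫ Spec.map φ)
      (by rw [Category.assoc, sq.w, pullback.condition_assoc, Category.assoc, hτ])
  have H : IsPullback G (pullback.snd ζ (T.fromSpecResidueField t))
      (pullback.snd ξ (S.fromSpecResidueField (τ t))) (Spec.map φ) := by
    refine IsPullback.of_right (h₁₂ := pullback.fst ξ (S.fromSpecResidueField (τ t))) ?_
      (pullback.lift_snd _ _ _) (IsPullback.of_hasPullback _ _)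
    rw [hτ, pullback.lift_fst]
    exact (IsPullback.of_hasPullback _ _).paste_horiz sq
  exact surjective_appTop_of_isPullback_field_desc (k := S.residueField (τ t)) (K := T.residueField t) φ H h

/-- On a flat finitely presented scheme with a section over an affine base, all whose fibres have only
constant functions, every function is constant. -/
theorem appTop_section_eq {A : Type u} [CommRing A] {Z : Scheme.{u}}
    (ζ : Z ⟶ Spec (CommRingCat.of A)) [Flat ζ] [LocallyOfFinitePresentation ζ] [QuasiCompact ζ]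
    [IsSeparated ζ] (σ : Spec (CommRingCat.of A) ⟶ Z) (hσ : σ ≫ ζ = 𝟙 _) (hfib : ∀ t, FibConst ζ t)
    (h : Γ(Z, ⊤)) : ζ.appTop.hom (σ.appTop.hom h) = h := by
  obtain ⟨A₀, hA₀, Z₀, f₀, g, hflat, hlfp, hqc, sq⟩ :=
    Groth.L05.ModelFG.exists_model A Groth.L19.Limit.descends_flat ζ ‹Flat ζ›
  let D := Groth.L05.ModelFG.specDiagram A
  let c := Groth.L05.ModelFG.specCone A
  have hc : IsLimit c := Groth.L05.ModelFG.isLimitSpecCone A
  let i : (Groth.L05.ModelFG.FG A)ᵒᵖ := op ⟨A₀, hA₀⟩
  have hnoe : ∀ k : (Groth.L05.ModelFG.FG A)ᵒᵖ, IsLocallyNoetherian (D.obj k) := fun k => by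
    haveI : Algebra.FiniteType ℤ k.unop.1 := k.unop.1.fg_iff_finiteType.mp k.unop.2
    haveI : IsNoetherianRing k.unop.1 := Algebra.FiniteType.isNoetherianRing ℤ k.unop.1
    exact inferInstanceAs (IsLocallyNoetherian (Spec (CommRingCat.of k.unop.1)))
  haveI hcpt : ∀ k : (Groth.L05.ModelFG.FG A)ᵒᵖ, CompactSpace (D.obj k) := fun k => inferInstance
  haveI hqs : ∀ k : (Groth.L05.ModelFG.FG A)ᵒᵖ, QuasiSeparatedSpace (D.obj k) := fun k =>
    inferInstance
  let f₀' : Z₀ ⟶ D.obj i := f₀
  haveI : LocallyOfFinitePresentation f₀' := hlfp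
  haveI : QuasiCompact f₀' := hqc
  haveI : Flat f₀' := hflat
  haveI : CompactSpace Z₀ := QuasiCompact.compactSpace_of_compactSpace f₀'
  haveI := hnoe i
  haveI : IsLocallyNoetherian Z₀ := LocallyOfFiniteType.isLocallyNoetherian f₀'
  haveI : QuasiSeparatedSpace Z₀ := inferInstance
  let sq' : IsPullback g ζ f₀' (c.π.app i) := sq
  let B := Groth.L19.Limit.bcDiagram D f₀'
  let bc := Groth.L19.Limit.bcCone D c f₀'
  have hPqc : ∀ k : Over i, QuasiCompact (pullback.fst (D.map k.hom) f₀') := fun k =>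
    MorphismProperty.pullback_fst _ _ ‹QuasiCompact f₀'›
  have hPlfp : ∀ k : Over i, LocallyOfFinitePresentation (pullback.fst (D.map k.hom) f₀') := fun k =>
    MorphismProperty.pullback_fst _ _ ‹LocallyOfFinitePresentation f₀'›
  haveI hBc : ∀ k, CompactSpace (B.obj k) := fun k => by
    haveI := hPqc k
    have : CompactSpace ↥(pullback (D.map k.hom) f₀') :=
      @QuasiCompact.compactSpace_of_compactSpace _ _ (pullback.fst (D.map k.hom) f₀') (hPqc k) (hcpt k.left)
    exact this
  haveI hBq : ∀ k, QuasiSeparatedSpace (B.obj k) := fun k => by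
    haveI := hnoe k.left
    haveI := hPlfp k
    haveI : IsLocallyNoetherian (pullback (D.map k.hom) f₀') :=
      LocallyOfFiniteType.isLocallyNoetherian (pullback.fst (D.map k.hom) f₀')
    exact (inferInstance : QuasiSeparatedSpace ↥(pullback (D.map k.hom) f₀'))
  let e : Z ≅ bc.pt := sq'.flip.isoPullback
  obtain ⟨k₁, t₁, ht₁⟩ := exists_appTop_π_eq_of_isLimit B bc
    (Groth.L19.Limit.isLimitBcCone f₀' hc) (e.inv.appTop.hom h)
  let tt : Over.forget i ⋙ D ⟶ (Functor.const (Over i)).obj (D.obj i) :=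
    { app := fun k => D.map k.hom
      naturality := fun k l m => by
        dsimp
        rw [← D.map_comp, Over.w m, Category.comp_id] }
  haveI : ∀ {k l : Over i} (m : k ⟶ l), IsAffineHom ((Over.forget i ⋙ D).map m) := fun m =>
    inferInstanceAs (IsAffineHom (D.map m.left))
  haveI : ∀ k, CompactSpace ((Over.forget i ⋙ D).obj k) := fun k => hcpt k.left
  haveI : ∀ k, QuasiSeparatedSpace ((Over.forget i ⋙ D).obj k) := fun k => hqs k.left
  obtain ⟨k₂, s₂₀, hs₂₀, hs₂₀'⟩ := Scheme.exists_π_app_comp_eq_of_locallyOfFinitePresentation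
    (Over.forget i ⋙ D) tt f₀' (c.whisker (Over.forget i))
    ((Functor.Initial.isLimitWhiskerEquiv (Over.forget i) c).symm hc) (σ ≫ g) (by
      ext k : 2
      show c.π.app k.left ≫ D.map k.hom = (σ ≫ g) ≫ f₀'
      rw [c.w, Category.assoc, sq'.w, ← Category.assoc]
      exact (congrArg (· ≫ c.π.app i) hσ).trans (Category.id_comp _) |>.symm)
  let s₂ : D.obj k₂.left ⟶ Z₀ := s₂₀
  have hs₂ : c.π.app k₂.left ≫ s₂ = σ ≫ g := hs₂₀
  have hs₂' : s₂ ≫ f₀' = D.map k₂.hom := hs₂₀'
  let k := IsCofiltered.min k₁ k₂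
  let m₁ : k ⟶ k₁ := IsCofiltered.minToLeft k₁ k₂
  let m₂ : k ⟶ k₂ := IsCofiltered.minToRight k₁ k₂
  let P := pullback (D.map k.hom) f₀'
  let ξ : P ⟶ D.obj k.left := pullback.fst (D.map k.hom) f₀'
  let σk : D.obj k.left ⟶ P := pullback.lift (𝟙 _) (D.map m₂.left ≫ s₂) (by
    rw [Category.id_comp, Category.assoc, hs₂', ← D.map_comp,
      Over.w m₂])
  have hσk : σk ≫ ξ = 𝟙 _ := pullback.lift_fst _ _ _
  let q : Z ⟶ P := e.hom ≫ bc.π.app k
  let π : Spec (CommRingCat.of A) ⟶ D.obj k.left := c.π.app k.left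
  have he : e.hom ≫ pullback.fst (c.π.app i) f₀' = ζ := sq'.flip.isoPullback_hom_fst
  have hsq : IsPullback q ζ ξ π := by
    have hb : IsPullback (bc.π.app k) (pullback.fst (c.π.app i) f₀') ξ π :=
      Groth.L19.Limit.isPullback_bcCone D c f₀' k
    refine hb.of_iso e.symm (Iso.refl _) (Iso.refl _) (Iso.refl _) ?_ ?_ ?_ ?_
    · exact (Category.comp_id _).trans (e.inv_hom_id_assoc _).symm
    · refine (Category.comp_id _).trans ((e.inv_hom_id_assoc _).symm.trans ?_)
      exact congrArg (e.inv ≫ ·) he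
    · exact (Category.comp_id _).trans (Category.id_comp _).symm
    · exact (Category.comp_id _).trans (Category.id_comp _).symm
  have hqs : q ≫ pullback.snd (D.map k.hom) f₀' = g := by
    show (e.hom ≫ bc.π.app k) ≫ _ = _
    rw [Category.assoc]
    refine Eq.trans ?_ sq'.flip.isoPullback_hom_snd
    congr 1
    show pullback.map (c.π.app i) f₀' (D.map k.hom) f₀' (c.π.app k.left) (𝟙 _) (𝟙 _)
      (by rw [Category.comp_id, c.w]) (by simp) ≫ pullback.snd (D.map k.hom) f₀' = _
    exact (pullback.lift_snd _ _ _).trans (Category.comp_id _)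
  have hsec : π ≫ σk = σ ≫ q := by
    apply pullback.hom_ext
    · rw [Category.assoc, pullback.lift_fst, Category.comp_id, Category.assoc,
        show q ≫ pullback.fst (D.map k.hom) f₀' = ζ ≫ π from hsq.w]
      exact ((Category.assoc _ _ _).symm.trans ((congrArg (· ≫ π) hσ).trans (Category.id_comp π))).symm
    · rw [Category.assoc, pullback.lift_snd, Category.assoc, hqs, ← hs₂]
      exact (Category.assoc _ _ _).symm.trans (congrArg (· ≫ s₂) (c.w m₂.left))
  haveI := hnoe k.left
  haveI : LocallyOfFinitePresentation ξ := MorphismProperty.pullback_fst _ _ ‹LocallyOfFinitePresentation f₀'›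
  haveI : QuasiCompact ξ := MorphismProperty.pullback_fst _ _ ‹QuasiCompact f₀'›
  haveI : Flat ξ := MorphismProperty.pullback_fst _ _ ‹Flat f₀'›
  haveI : IsLocallyNoetherian P := LocallyOfFiniteType.isLocallyNoetherian ξ
  haveI : QuasiSeparated ξ := .of_comp ξ (terminal.from _)
  have key : q ≫ P.toSpecΓ = q ≫ ξ ≫ σk ≫ P.toSpecΓ := by
    have hloc : ∀ z : Z, ∃ U : P.Opens, q z ∈ U ∧ U.ι ≫ P.toSpecΓ = U.ι ≫ ξ ≫ σk ≫ P.toSpecΓ := by
      intro z
      refine exists_nhd_eq_comp_section_affine ξ σk hσk (q z) ?_ P.toSpecΓ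
      have := fibConst_of_isPullback hsq (ζ z) (hfib _)
      have hw : π (ζ z) = ξ (q z) := congrArg (fun φ => φ z) hsq.w.symm
      rwa [hw] at this
    choose U hU heU using hloc
    refine Scheme.Cover.hom_ext (Z.openCoverOfIsOpenCover (fun z : Z => q ⁻¹ᵁ U z)
      (eq_top_iff.2 fun z _ => Opens.mem_iSup.2 ⟨z, hU z⟩)) _ _ fun z => ?_
    show (q ⁻¹ᵁ U z).ι ≫ _ = (q ⁻¹ᵁ U z).ι ≫ _
    rw [← morphismRestrict_ι_assoc, ← morphismRestrict_ι_assoc]
    exact congrArg _ (heU z)
  let t : Γ(P, ⊤) := (B.map m₁).appTop.hom t₁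
  have hq : q.appTop.hom t = h := by
    have e1 : q ≫ B.map m₁ = e.hom ≫ bc.π.app k₁ := by
      show (e.hom ≫ bc.π.app k) ≫ B.map m₁ = _
      exact (Category.assoc _ _ _).trans (congrArg (e.hom ≫ ·) (bc.w m₁))
    have e2 := congrArg (fun φ : Z ⟶ B.obj k₁ => φ.appTop.hom t₁) e1
    simp only [Scheme.Hom.comp_appTop, CommRingCat.hom_comp, RingHom.comp_apply] at e2
    refine e2.trans ?_
    rw [← ht₁]
    have e3 := congrArg (fun φ : Z ⟶ Z => φ.appTop.hom h) e.hom_inv_id
    simp only [Scheme.Hom.comp_appTop, CommRingCat.hom_comp, RingHom.comp_apply, Scheme.Hom.id_appTop,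
      CommRingCat.hom_id, RingHom.id_apply] at e3
    exact e3
  have key2 : q.appTop.hom t = q.appTop.hom (ξ.appTop.hom (σk.appTop.hom t)) := by
    have := congrArg (fun φ : Z ⟶ Spec Γ(P, ⊤) =>
      φ.appTop.hom ((Scheme.ΓSpecIso _).inv.hom t)) key
    simp only [Scheme.Hom.comp_appTop, CommRingCat.hom_comp, RingHom.comp_apply] at this
    have e4 : ∀ s, P.toSpecΓ.appTop.hom ((Scheme.ΓSpecIso _).inv.hom s) = s := fun s => by
      rw [Scheme.toSpecΓ_appTop]
      exact Iso.inv_hom_id_apply _ _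
    rwa [e4] at this
  have e5 : ∀ u : Γ(P, ⊤), q.appTop.hom (ξ.appTop.hom (σk.appTop.hom u)) =
      ζ.appTop.hom (σ.appTop.hom (q.appTop.hom u)) := fun u => by
    have e6 : q ≫ ξ ≫ σk = ζ ≫ σ ≫ q := by rw [hsq.w_assoc, hsec]
    have := congrArg (fun φ : Z ⟶ P => φ.appTop.hom u) e6
    simp only [Scheme.Hom.comp_appTop, CommRingCat.hom_comp, RingHom.comp_apply] at this
    exact this
  rw [e5, hq] at key2
  exact key2.symm

/-- Maps to affine schemes are constant, in the presence of a section over an affine base. -/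
theorem comp_section_comp_eq {U Z Y : Scheme.{u}} [IsAffine U] [IsAffine Y] (ζ : Z ⟶ U) [Flat ζ]
    [LocallyOfFinitePresentation ζ] [IsProper ζ] [GeometricallyConnected ζ] [GeometricallyReduced ζ]
    (σ : U ⟶ Z) (hσ : σ ≫ ζ = 𝟙 U) (f : Z ⟶ Y) : ζ ≫ σ ≫ f = f := by
  let ζ' := ζ ≫ U.isoSpec.hom
  let σ' := U.isoSpec.inv ≫ σ
  have hσ' : σ' ≫ ζ' = 𝟙 _ := by
    simp only [σ', ζ', Category.assoc, reassoc_of% hσ, Iso.inv_hom_id]
  haveI : GeometricallyConnected ζ' :=
    (MorphismProperty.cancel_right_of_respectsIso (P := @GeometricallyConnected) ζ _).mpr ‹_›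
  haveI : GeometricallyReduced ζ' :=
    (MorphismProperty.cancel_right_of_respectsIso (P := @GeometricallyReduced) ζ _).mpr ‹_›
  refine ext_of_isAffine ?_
  ext y
  have := appTop_section_eq ζ' σ' hσ' (fun t => fibConst_of_geometrically ζ' t) (f.appTop.hom y)
  simp only [ζ', σ', Scheme.Hom.comp_appTop, CommRingCat.hom_comp, RingHom.comp_apply] at this ⊢
  refine Eq.trans ?_ this
  have h2 : U.isoSpec.hom.appTop.hom (U.isoSpec.inv.appTop.hom (σ.appTop.hom (f.appTop.hom y))) =
      σ.appTop.hom (f.appTop.hom y) := by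
    rw [← RingHom.comp_apply, ← CommRingCat.hom_comp, ← Scheme.Hom.comp_appTop, Iso.hom_inv_id,
      Scheme.Hom.id_appTop]
    rfl
  rw [h2]

end Groth.Agent.AV
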