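/-
Relative rigidity: the collapsed locus is clopen and the map factors over it.
-/
import Groth.Agent.L26.AV.FibConst

open CategoryTheory CategoryTheory.Limits AlgebraicGeometry TopologicalSpace Opposite

universe u

namespace Groth.Agent.AV

variable {X Y S : Scheme.{u}}

/-- The points over which `f` collapses the fibre to a point. -/
def collapsed (ξ : X ⟶ S) (f : X ⟶ Y) : Set S :=
  {s | ∀ x x', ξ x = s → ξ x' = s → f x = f x'}

theorem collapsed_eq_setOf (ξ : X ⟶ S) [Surjective ξ] (f : X ⟶ Y) :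
    collapsed ξ f = {s : S | ∃ y : Y, ∀ x : X, ξ x = s → f x = y} := by
  ext s
  refine ⟨fun h => ?_, fun ⟨y, hy⟩ x x' hx hx' => (hy x hx).trans (hy x' hx').symm⟩
  obtain ⟨x₀, hx₀⟩ := ξ.surjective s
  exact ⟨f x₀, fun x hx => h x x₀ hx hx₀⟩

theorem surjective_of_bijective (ξ : X ⟶ S)
    (h : ∀ s, Function.Bijective (pullback.snd ξ (S.fromSpecResidueField s)).appTop.hom) :
    Surjective ξ := ⟨fun s => by
  by_contra hs
  have : IsEmpty ↥(pullback ξ (S.fromSpecResidueField s)) := ⟨fun z => hs ⟨pullback.fst ξ _ z, by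
    show (pullback.fst ξ (S.fromSpecResidueField s) ≫ ξ) z = s
    rw [pullback.condition, Scheme.Hom.comp_apply, Scheme.fromSpecResidueField_apply]⟩⟩
  have : Subsingleton Γ(pullback ξ (S.fromSpecResidueField s), ⊤) := inferInstance
  have hn : Nontrivial Γ(Spec (S.residueField s), ⊤) :=
    (ConcreteCategory.bijective_of_isIso (Scheme.ΓSpecIso (S.residueField s)).inv).1.nontrivial
  exact not_subsingleton _ (h s).1.subsingleton⟩

theorem isOpen_collapsed_and_eq [IsLocallyNoetherian S] (ξ : X ⟶ S) [IsProper ξ] [Flat ξ]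
    (h : ∀ s, FibConst ξ s) (f : X ⟶ Y) :
    ∃ U : S.Opens, (U : Set S) = collapsed ξ f ∧
      ((pullback.fst ξ ξ ≫ ξ) ⁻¹ᵁ U).ι ≫ pullback.fst ξ ξ ≫ f =
        ((pullback.fst ξ ξ ≫ ξ) ⁻¹ᵁ U).ι ≫ pullback.snd ξ ξ ≫ f := by
  have key := fun s (hs : s ∈ collapsed ξ f) => exists_nhd_pr_eq ξ s (h s) f hs
  choose W hW heq using key
  refine ⟨⨆ (s) (hs : s ∈ collapsed ξ f), W s hs, ?_, ?_⟩
  · ext t
    refine ⟨fun ht => ?_, fun ht => Opens.mem_iSup.2 ⟨t, Opens.mem_iSup.2 ⟨ht, hW t ht⟩⟩⟩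
    obtain ⟨s, ht⟩ := Opens.mem_iSup.1 ht
    obtain ⟨hs, ht⟩ := Opens.mem_iSup.1 ht
    intro x x' hx hx'
    exact apply_eq_of_pr_eq ξ f _ (heq s hs) (hx ▸ ht) (hx.trans hx'.symm)
  · refine opens_ι_comp_eq _ _ _ fun z hz => ?_
    obtain ⟨s, hz⟩ := Opens.mem_iSup.1 (show (pullback.fst ξ ξ ≫ ξ) z ∈ _ from hz)
    obtain ⟨hs, hz⟩ := Opens.mem_iSup.1 hz
    exact ⟨_, hz, heq s hs⟩

/-- The collapsed locus is clopen. -/
theorem isClopen_collapsed [IsLocallyNoetherian S] (ξ : X ⟶ S) [IsProper ξ] [Flat ξ]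
    (h : ∀ s, FibConst ξ s) (v : Y ⟶ S) [IsSeparated v] (f : X ⟶ Y) (hf : f ≫ v = ξ) :
    IsClopen (collapsed ξ f) := by
  obtain ⟨U, hU, heq⟩ := isOpen_collapsed_and_eq ξ h f
  refine ⟨closure_subset_iff_isClosed.1 ?_, hU ▸ U.2⟩
  intro s hs x x' hx hx'
  obtain ⟨p, hp, hp'⟩ := Scheme.Pullback.exists_preimage_pullback (f := ξ) (g := ξ) x x' (hx.trans hx'.symm)
  have := apply_eq_of_mem_closure (pullback.fst ξ ξ ≫ ξ) v (pullback.fst ξ ξ ≫ f) (pullback.snd ξ ξ ≫ f)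
    (by rw [Category.assoc, hf]) (by rw [Category.assoc, hf, pullback.condition]) U heq
    (p := p) (by rw [Scheme.Hom.comp_apply, hp, hx, hU]; exact hs)
  rwa [Scheme.Hom.comp_apply, Scheme.Hom.comp_apply, hp, hp'] at this

/-- Over an open where the two pullbacks to the fibre square agree, `f` descends. -/
theorem exists_desc (ξ : X ⟶ S) [QuasiCompact ξ] [Flat ξ] [Surjective ξ] (f : X ⟶ Y) (U : S.Opens)
    (h : ((pullback.fst ξ ξ ≫ ξ) ⁻¹ᵁ U).ι ≫ pullback.fst ξ ξ ≫ f =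
      ((pullback.fst ξ ξ ≫ ξ) ⁻¹ᵁ U).ι ≫ pullback.snd ξ ξ ≫ f) :
    ∃ k : (U : Scheme.{u}) ⟶ Y, (ξ ⁻¹ᵁ U).ι ≫ f = (ξ ∣_ U) ≫ k := by
  have hp := (isPullback_morphismRestrict ξ U).flip
  have : Surjective (ξ ∣_ U) := MorphismProperty.of_isPullback hp ‹Surjective ξ›
  have : QuasiCompact (ξ ∣_ U) := MorphismProperty.of_isPullback hp ‹QuasiCompact ξ›
  have : Flat (ξ ∣_ U) := MorphismProperty.of_isPullback hp ‹Flat ξ›
  refine ⟨EffectiveEpi.desc (ξ ∣_ U) ((ξ ⁻¹ᵁ U).ι ≫ f) fun {Z} g₁ g₂ hg => ?_,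
    (EffectiveEpi.fac _ _ _).symm⟩
  have w : (g₁ ≫ (ξ ⁻¹ᵁ U).ι) ≫ ξ = (g₂ ≫ (ξ ⁻¹ᵁ U).ι) ≫ ξ := by
    rw [Category.assoc, Category.assoc, ← morphismRestrict_ι, reassoc_of% hg]
  let m := pullback.lift (g₁ ≫ (ξ ⁻¹ᵁ U).ι) (g₂ ≫ (ξ ⁻¹ᵁ U).ι) w
  have hm : Set.range m ⊆ Set.range ((pullback.fst ξ ξ ≫ ξ) ⁻¹ᵁ U).ι := by
    rw [Scheme.Opens.range_ι]
    rintro _ ⟨z, rfl⟩
    show (m ≫ pullback.fst ξ ξ ≫ ξ) z ∈ U
    rw [pullback.lift_fst_assoc, Category.assoc, ← morphismRestrict_ι]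
    exact ((g₁ ≫ ξ ∣_ U) z).2
  have := congrArg (IsOpenImmersion.lift _ m hm ≫ ·) h
  simp only [IsOpenImmersion.lift_fac_assoc, m, pullback.lift_fst_assoc, pullback.lift_snd_assoc,
    Category.assoc] at this
  exact this

/-- A map collapsing every fibre factors through the base. -/
theorem exists_section_of_collapsed_univ [IsLocallyNoetherian S] (ξ : X ⟶ S) [IsProper ξ] [Flat ξ]
    [Surjective ξ] (h : ∀ s, FibConst ξ s) (v : Y ⟶ S) (f : X ⟶ Y) (hf : f ≫ v = ξ)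
    (huniv : collapsed ξ f = Set.univ) :
    ∃ t : S ⟶ Y, t ≫ v = 𝟙 S ∧ f = ξ ≫ t := by
  obtain ⟨U, hU, heq⟩ := isOpen_collapsed_and_eq ξ h f
  have : U = ⊤ := Opens.ext (hU.trans huniv)
  subst this
  obtain ⟨k, hk⟩ := exists_desc ξ f ⊤ heq
  have : IsIso (ξ ⁻¹ᵁ ⊤).ι := inferInstanceAs (IsIso X.topIso.hom)
  have e1 : f = ξ ≫ S.topIso.inv ≫ k := by
    rw [← cancel_epi (ξ ⁻¹ᵁ ⊤).ι, hk, ← morphismRestrict_ι_assoc]
    exact congrArg _ (S.topIso.hom_inv_id_assoc k).symm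
  refine ⟨S.topIso.inv ≫ k, ?_, e1⟩
  rw [← cancel_epi ξ, ← Category.assoc, ← e1, hf, Category.comp_id]

/-- Rigidity over a connected base. -/
theorem exists_section_of_collapsed [IsLocallyNoetherian S] [ConnectedSpace S] (ξ : X ⟶ S)
    [IsProper ξ] [Flat ξ] [Surjective ξ] (h : ∀ s, FibConst ξ s) (v : Y ⟶ S) [IsSeparated v]
    (f : X ⟶ Y) (hf : f ≫ v = ξ) (s : S) (hs : s ∈ collapsed ξ f) :
    ∃ t : S ⟶ Y, t ≫ v = 𝟙 S ∧ f = ξ ≫ t :=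
  exists_section_of_collapsed_univ ξ h v f hf
    (IsClopen.eq_univ (isClopen_collapsed ξ h v f hf) ⟨s, hs⟩)

/-- Rigidity for closed flat maps with a section. -/
theorem eq_comp_section_of_collapsed [IsLocallyNoetherian S] [IsLocallyNoetherian X]
    [ConnectedSpace S] (ξ : X ⟶ S) [Flat ξ] (hcl : IsClosedMap ξ) (σ : S ⟶ X) (hσ : σ ≫ ξ = 𝟙 S)
    (h : ∀ s, FibConst ξ s) (v : Y ⟶ S) [IsSeparated v] (f : X ⟶ Y) (hf : f ≫ v = ξ)
    (s : S) (hs : s ∈ collapsed ξ f) : f = ξ ≫ σ ≫ f := by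
  have hσs : ∀ t, ξ (σ t) = t := fun t => by
    show (σ ≫ ξ) t = t
    rw [hσ]
    rfl
  let C : Set S := {t | ∀ x, ξ x = t → f x = f (σ t)}
  have hsC : s ∈ C := fun x hx => hs x _ hx (hσs s)
  have key := fun t (ht : t ∈ C) => exists_nhd_eq_comp_section ξ hcl σ hσ t (h t) f ht
  choose W hW heq using key
  let U : S.Opens := ⨆ (t) (ht : t ∈ C), W t ht
  have hUeq : (ξ ⁻¹ᵁ U).ι ≫ f = (ξ ⁻¹ᵁ U).ι ≫ ξ ≫ σ ≫ f := by
    refine opens_ι_comp_eq _ _ _ fun z hz => ?_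
    obtain ⟨t, hz⟩ := Opens.mem_iSup.1 (show ξ z ∈ U from hz)
    obtain ⟨ht, hz⟩ := Opens.mem_iSup.1 hz
    exact ⟨_, hz, heq t ht⟩
  have hUC : closure (U : Set S) ⊆ C := fun t ht x hx => by
    have := apply_eq_of_mem_closure ξ v f (ξ ≫ σ ≫ f) hf
      (by rw [Category.assoc, Category.assoc, hf, hσ, Category.comp_id]) U hUeq (p := x) (hx ▸ ht)
    rw [this, Scheme.Hom.comp_apply, Scheme.Hom.comp_apply, hx]
  have hCU : C ⊆ (U : Set S) := fun t ht => Opens.mem_iSup.2 ⟨t, Opens.mem_iSup.2 ⟨ht, hW t ht⟩⟩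
  have huniv : (U : Set S) = Set.univ :=
    IsClopen.eq_univ ⟨closure_subset_iff_isClosed.1 (hUC.trans hCU), U.2⟩ ⟨s, hCU hsC⟩
  have : U = ⊤ := Opens.ext huniv
  rw [this] at hUeq
  have : IsIso (ξ ⁻¹ᵁ ⊤).ι := inferInstanceAs (IsIso X.topIso.hom)
  exact (cancel_epi (ξ ⁻¹ᵁ ⊤).ι).1 hUeq

end Groth.Agent.AV
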