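/-
The rigidity lemma over an arbitrary base.
-/
import Groth.Agent.L26.AV.NonNoethConst
import Groth.Agent.L26.AV.RelMain

set_option autoImplicit false
set_option linter.style.haveILetI false
set_option backward.isDefEq.respectTransparency.types false

open CategoryTheory CategoryTheory.Limits AlgebraicGeometry TopologicalSpace Opposite Topology

universe u

namespace Groth.Agent.AV

variable {S T X Y : Scheme.{u}} (g : X ⟶ T) [IsProper g] [Flat g] [LocallyOfFinitePresentation g]
  [GeometricallyConnected g] [GeometricallyReduced g]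

/-- If the preimage of an open lands in an affine open, the two pullbacks to the fibre square agree. -/
theorem pr_eq_of_preimage_le (f : X ⟶ Y) (W : T.Opens) {V : Y.Opens} (hV : IsAffineOpen V)
    (hW : g ⁻¹ᵁ W ≤ f ⁻¹ᵁ V) :
    ((pullback.fst g g ≫ g) ⁻¹ᵁ W).ι ≫ pullback.fst g g ≫ f =
      ((pullback.fst g g ≫ g) ⁻¹ᵁ W).ι ≫ pullback.snd g g ≫ f := by
  refine opens_ι_comp_eq _ _ _ fun p hp => ?_
  have h2 : pullback.snd g g p ∈ g ⁻¹ᵁ W := by
    have : (pullback.fst g g ≫ g) p ∈ W := hp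
    rw [pullback.condition] at this
    exact this
  obtain ⟨_, ⟨U₀, hU, rfl⟩, hxU, hUW⟩ := X.isBasis_affineOpens.exists_subset_of_mem_open h2 (g ⁻¹ᵁ W).2
  let U : X.Opens := U₀
  refine ⟨pullback.snd g g ⁻¹ᵁ U, hxU, ?_⟩
  haveI : IsAffine U.toScheme := hU
  haveI : IsAffine V.toScheme := hV
  let ζ := pullback.snd g g ∣_ U
  haveI : IsProper ζ := MorphismProperty.of_isPullback (isPullback_morphismRestrict _ U).flip inferInstance
  haveI : Flat ζ := MorphismProperty.of_isPullback (isPullback_morphismRestrict _ U).flip inferInstance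
  haveI : LocallyOfFinitePresentation ζ :=
    MorphismProperty.of_isPullback (isPullback_morphismRestrict _ U).flip inferInstance
  haveI : GeometricallyConnected ζ :=
    MorphismProperty.of_isPullback (isPullback_morphismRestrict _ U).flip inferInstance
  haveI : GeometricallyReduced ζ :=
    MorphismProperty.of_isPullback (isPullback_morphismRestrict _ U).flip inferInstance
  have hr : Set.range (U.ι ≫ pullback.diagonal g) ⊆ Set.range (pullback.snd g g ⁻¹ᵁ U).ι := by
    rw [Scheme.Opens.range_ι]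
    rintro _ ⟨y, rfl⟩
    show ((U.ι ≫ pullback.diagonal g) ≫ pullback.snd g g) y ∈ U
    rw [Category.assoc, pullback.diagonal_snd, Category.comp_id]
    exact y.2
  let σ := IsOpenImmersion.lift (pullback.snd g g ⁻¹ᵁ U).ι (U.ι ≫ pullback.diagonal g) hr
  have hσι : σ ≫ (pullback.snd g g ⁻¹ᵁ U).ι = U.ι ≫ pullback.diagonal g :=
    IsOpenImmersion.lift_fac _ _ _
  have hσ : σ ≫ ζ = 𝟙 _ := by
    rw [← cancel_mono U.ι, Category.assoc, morphismRestrict_ι, reassoc_of% hσι,
      pullback.diagonal_snd, Category.comp_id, Category.id_comp]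
  have hV1 : Set.range ((pullback.snd g g ⁻¹ᵁ U).ι ≫ pullback.fst g g ≫ f) ⊆ Set.range V.ι := by
    rw [Scheme.Opens.range_ι]
    rintro _ ⟨z, rfl⟩
    refine hW ?_
    show (pullback.fst g g ≫ g) z.1 ∈ W
    rw [pullback.condition]
    exact hUW z.2
  let F := IsOpenImmersion.lift V.ι _ hV1
  have hF : F ≫ V.ι = (pullback.snd g g ⁻¹ᵁ U).ι ≫ pullback.fst g g ≫ f :=
    IsOpenImmersion.lift_fac _ _ _
  rw [← hF, ← comp_section_comp_eq ζ σ hσ F, Category.assoc, Category.assoc, hF, reassoc_of% hσι,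
    pullback.diagonal_fst_assoc, morphismRestrict_ι_assoc]

/-- The collapsed locus is open, and the two pullbacks to the fibre square agree over it. -/
theorem exists_collapsed_open (f : X ⟶ Y) :
    ∃ C : T.Opens, (C : Set T) = collapsed g f ∧
      ((pullback.fst g g ≫ g) ⁻¹ᵁ C).ι ≫ pullback.fst g g ≫ f =
        ((pullback.fst g g ≫ g) ⁻¹ᵁ C).ι ≫ pullback.snd g g ≫ f := by
  have key : ∀ t ∈ collapsed g f, ∃ W : T.Opens, t ∈ W ∧
      ((pullback.fst g g ≫ g) ⁻¹ᵁ W).ι ≫ pullback.fst g g ≫ f =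
        ((pullback.fst g g ≫ g) ⁻¹ᵁ W).ι ≫ pullback.snd g g ≫ f := by
    intro t ht
    obtain ⟨x₀, hx₀⟩ := g.surjective t
    obtain ⟨_, ⟨V, hV, rfl⟩, hyV, -⟩ := Y.isBasis_affineOpens.exists_subset_of_mem_open
      (Set.mem_univ (f x₀)) isOpen_univ
    refine ⟨⟨_, (g.isClosedMap _ (f ⁻¹ᵁ V).2.isClosed_compl).isOpen_compl⟩, ?_,
      pr_eq_of_preimage_le g f _ hV fun x hx => not_not.1 fun h => hx ⟨x, h, rfl⟩⟩
    rintro ⟨x, hx, hxt⟩
    exact hx (show f x ∈ V from (ht x x₀ hxt hx₀).symm ▸ hyV)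
  choose W hW heq using key
  refine ⟨⨆ (t) (ht : t ∈ collapsed g f), W t ht, ?_, ?_⟩
  · ext t
    refine ⟨fun ht => ?_, fun ht => Opens.mem_iSup.2 ⟨t, Opens.mem_iSup.2 ⟨ht, hW t ht⟩⟩⟩
    obtain ⟨s, ht⟩ := Opens.mem_iSup.1 ht
    obtain ⟨hs, ht⟩ := Opens.mem_iSup.1 ht
    intro x x' hx hx'
    exact apply_eq_of_pr_eq g f _ (heq s hs) (hx ▸ ht) (hx.trans hx'.symm)
  · refine opens_ι_comp_eq _ _ _ fun z hz => ?_
    obtain ⟨s, hz⟩ := Opens.mem_iSup.1 (show (pullback.fst g g ≫ g) z ∈ _ from hz)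
    obtain ⟨hs, hz⟩ := Opens.mem_iSup.1 hz
    exact ⟨_, hz, heq s hs⟩

/-- The collapsed locus of a map to a separated scheme is closed. -/
theorem isClosed_collapsed (v : Y ⟶ S) [IsSeparated v] (p : T ⟶ S) (f : X ⟶ Y) (hf : f ≫ v = g ≫ p) :
    IsClosed (collapsed g f) := by
  obtain ⟨C, hC, heq⟩ := exists_collapsed_open g f
  let π := pullback.fst g g ≫ g
  let a := pullback.fst g g ≫ f
  let b := pullback.snd g g ≫ f
  have hab : a ≫ v = b ≫ v := by
    simp only [a, b, Category.assoc, hf, pullback.condition_assoc]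
  let e := pullback.fst (pullback.lift a b hab) (pullback.diagonal v)
  have hcl : IsClosed (Set.range e) := e.isClosedMap.isClosed_range
  have he : ∀ q ∈ Set.range e, a q = b q := by
    rintro _ ⟨w, rfl⟩
    show (e ≫ a) w = (e ≫ b) w
    have ea : e ≫ a = pullback.snd _ _ := by
      have := congrArg (· ≫ pullback.fst v v) (pullback.condition
        (f := pullback.lift a b hab) (g := pullback.diagonal v))
      simp only [Category.assoc, pullback.lift_fst, pullback.diagonal_fst, Category.comp_id] at this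
      exact this
    have eb : e ≫ b = pullback.snd _ _ := by
      have := congrArg (· ≫ pullback.snd v v) (pullback.condition
        (f := pullback.lift a b hab) (g := pullback.diagonal v))
      simp only [Category.assoc, pullback.lift_snd, pullback.diagonal_snd, Category.comp_id] at this
      exact this
    rw [ea, eb]
  haveI : UniversallyOpen π := UniversallyOpen.of_flat π
  have key : collapsed g f = (π '' (Set.range e)ᶜ)ᶜ := by
    ext t
    constructor
    · rintro ht ⟨q, hq, rfl⟩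
      rw [← hC] at ht
      let w : ((π ⁻¹ᵁ C : (pullback g g).Opens) : Scheme.{u}) ⟶ pullback (pullback.lift a b hab)
          (pullback.diagonal v) :=
        pullback.lift (π ⁻¹ᵁ C).ι ((π ⁻¹ᵁ C).ι ≫ a) (by
          apply pullback.hom_ext
          · simp only [Category.assoc, pullback.lift_fst, pullback.diagonal_fst, Category.comp_id]
          · simp only [Category.assoc, pullback.lift_snd, pullback.diagonal_snd, Category.comp_id]
            exact heq.symm)
      refine hq ⟨w ⟨q, ht⟩, ?_⟩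
      show (w ≫ e) ⟨q, ht⟩ = q
      rw [pullback.lift_fst]
      rfl
    · intro ht x x' hx hx'
      obtain ⟨q, hq, hq'⟩ := Scheme.Pullback.exists_preimage_pullback (f := g) (g := g) x x'
        (hx.trans hx'.symm)
      have hqt : π q = t := by
        show g (pullback.fst g g q) = t
        rw [hq, hx]
      have := he q (not_not.1 fun h => ht ⟨q, h, hqt⟩)
      simp only [a, b, Scheme.Hom.comp_apply, hq, hq'] at this
      exact this
  rw [key]
  exact (π.isOpenMap _ hcl.isOpen_compl).isClosed_compl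

/-- **Rigidity over an arbitrary base.** -/
theorem exists_clopen_factor (v : Y ⟶ S) [IsSeparated v] (p : T ⟶ S) (f : X ⟶ Y)
    (hf : f ≫ v = g ≫ p) :
    ∃ W : T.Opens, (W : Set T) = collapsed g f ∧ IsClosed (W : Set T) ∧
      ∃ k : (W : Scheme.{u}) ⟶ Y, (g ⁻¹ᵁ W).ι ≫ f = (g ∣_ W) ≫ k := by
  obtain ⟨C, hC, heq⟩ := exists_collapsed_open g f
  exact ⟨C, hC, hC ▸ isClosed_collapsed g v p f hf, exists_desc g f C heq⟩

/-- If the collapsed locus is everything, the map factors through the base. -/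
theorem exists_factor_of_collapsed_univ (f : X ⟶ Y) (huniv : collapsed g f = Set.univ) :
    ∃ k : T ⟶ Y, f = g ≫ k := by
  obtain ⟨U, hU, heq⟩ := exists_collapsed_open g f
  have : U = ⊤ := Opens.ext (hU.trans huniv)
  subst this
  obtain ⟨k, hk⟩ := exists_desc g f ⊤ heq
  have : IsIso (g ⁻¹ᵁ ⊤).ι := inferInstanceAs (IsIso X.topIso.hom)
  refine ⟨T.topIso.inv ≫ k, ?_⟩
  rw [← cancel_epi (g ⁻¹ᵁ ⊤).ι, hk, ← morphismRestrict_ι_assoc]
  exact congrArg _ (T.topIso.hom_inv_id_assoc k).symm

/-- A map collapsing the fibres over one point of each fibre of `p` factors through the base. -/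
theorem exists_factor_of_collapsed_section (p : T ⟶ S) [GeometricallyConnected p] (e : S ⟶ T)
    (he : e ≫ p = 𝟙 S) (v : Y ⟶ S) [IsSeparated v] (f : X ⟶ Y) (hf : f ≫ v = g ≫ p)
    (hs : ∀ s : S, e s ∈ collapsed g f) :
    ∃ k : T ⟶ Y, f = g ≫ k := by
  obtain ⟨C, hC, hcl, -⟩ := exists_clopen_factor g v p f hf
  refine exists_factor_of_collapsed_univ g f (Set.eq_univ_of_forall fun t => ?_)
  rw [← hC]
  have hmem : e (p t) ∈ (C : Set T) := hC ▸ hs (p t)
  have hps : p (e (p t)) = p t := by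
    show (e ≫ p) _ = _
    rw [he]
    rfl
  obtain ⟨z, hz⟩ : t ∈ Set.range (p.fiberι (p t)) := by rw [Scheme.Hom.range_fiberι]; rfl
  obtain ⟨z', hz'⟩ : e (p t) ∈ Set.range (p.fiberι (p t)) := by rw [Scheme.Hom.range_fiberι]; exact hps
  have huniv : (p.fiberι (p t)) ⁻¹' (C : Set T) = Set.univ :=
    IsClopen.eq_univ ⟨hcl.preimage (p.fiberι (p t)).continuous, C.2.preimage (p.fiberι (p t)).continuous⟩
      ⟨z', show p.fiberι (p t) z' ∈ (C : Set T) from hz'.symm ▸ hmem⟩
  rw [← hz]
  exact Set.eq_univ_iff_forall.1 huniv z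

end Groth.Agent.AV
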