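/-
Morphisms of abelian schemes over an arbitrary base.
-/
import Groth.Agent.L26.AV.NonNoethRigidity
import Mathlib.CategoryTheory.Monoidal.Cartesian.Grp

set_option autoImplicit false
set_option linter.style.haveILetI false
set_option backward.isDefEq.respectTransparency.types false

open CategoryTheory CategoryTheory.Limits MonoidalCategory CartesianMonoidalCategory MonObj GrpObj
  AlgebraicGeometry

universe u

namespace Groth.Agent.AV

variable {S : Scheme.{u}} (A T G : Over S) [GrpObj A] [GrpObj G] [IsProper A.hom] [Flat A.hom]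
  [LocallyOfFinitePresentation A.hom] [GeometricallyConnected A.hom] [GeometricallyReduced A.hom]
  [IsSeparated G.hom]

/-- A map on a product which is trivial on the first factor only depends on the second. -/
theorem eq_snd_comp_of_fst_trivial [GeometricallyConnected T.hom] (e : 𝟙_ (Over S) ⟶ T)
    (φ : A ⊗ T ⟶ G) (hφ : lift (𝟙 A) (toUnit A ≫ e) ≫ φ = 1) :
    φ = snd A T ≫ lift (toUnit T ≫ η[A]) (𝟙 T) ≫ φ := by
  let j : A ⟶ A ⊗ T := lift (𝟙 A) (toUnit A ≫ e)
  have hP : IsPullback j.left A.hom (snd A T).left e.left := by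
    refine IsPullback.of_right (h₁₂ := (fst A T).left) ?_ ?_ (IsPullback.of_hasPullback A.hom T.hom)
    · rw [← Over.comp_left, lift_fst, Over.w e, Over.id_left]
      exact IsPullback.of_id_fst
    · rw [← Over.comp_left, lift_snd, Over.comp_left, Over.toUnit_left]
  have : IsProper (snd A T).left := inferInstanceAs (IsProper (Limits.pullback.snd A.hom T.hom))
  have : Flat (snd A T).left := inferInstanceAs (Flat (Limits.pullback.snd A.hom T.hom))
  have : LocallyOfFinitePresentation (snd A T).left :=
    MorphismProperty.pullback_snd A.hom T.hom ‹LocallyOfFinitePresentation A.hom›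
  have : GeometricallyConnected (snd A T).left :=
    inferInstanceAs (GeometricallyConnected (Limits.pullback.snd A.hom T.hom))
  have : GeometricallyReduced (snd A T).left :=
    MorphismProperty.pullback_snd A.hom T.hom ‹GeometricallyReduced A.hom›
  have key : ∀ s : S, ∀ p : (A ⊗ T).left, (snd A T).left p = e.left s →
      φ.left p = (η[G]).left s := by
    intro s p hp
    obtain ⟨z, hz, hz'⟩ := Scheme.Pullback.exists_preimage_pullback p s hp
    let x := hP.isoPullback.inv z
    have hx : j.left x = p := by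
      rw [← hz]
      exact congrArg (fun φ => φ z) hP.isoPullback_inv_fst
    have hx' : A.hom x = s := by
      rw [← hz']
      exact congrArg (fun φ => φ z) hP.isoPullback_inv_snd
    have h1 := congrArg (fun ψ : A ⟶ G => ψ.left x) hφ
    simp only [Over.comp_left, Scheme.Hom.comp_apply, Hom.one_def, Over.toUnit_left] at h1
    rw [hx'] at h1
    rw [← hx]
    exact h1
  obtain ⟨k, hk⟩ := exists_factor_of_collapsed_section (snd A T).left T.hom e.left (Over.w e)
    G.hom φ.left ((Over.w φ).trans (Over.w (snd A T)).symm)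
    (fun s x x' hx hx' => (key s x hx).trans (key s x' hx').symm)
  have hs : lift (toUnit T ≫ η[A]) (𝟙 T) ≫ snd A T = 𝟙 T := lift_snd _ _
  ext1
  show φ.left = (snd A T).left ≫ (lift (toUnit T ≫ η[A]) (𝟙 T)).left ≫ φ.left
  have hs' : (lift (toUnit T ≫ η[A]) (𝟙 T)).left ≫ (snd A T).left = 𝟙 T.left := by
    rw [← Over.comp_left, hs]
    rfl
  conv_lhs => rw [hk]
  rw [hk, reassoc_of% hs']

/-- A pointed morphism from a proper flat group with geometrically connected and reduced fibres to a
separated group is a homomorphism. -/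
theorem isMonHom_of_one_base (f : A ⟶ G) (hf : η[A] ≫ f = η[G]) : IsMonHom f := by
  let d := (μ[A] ≫ f) * ((fst A A ≫ f) * (snd A A ≫ f))⁻¹
  have hone : ∀ T : Over S, toUnit T ≫ η[A] ≫ f = (1 : T ⟶ G) := fun T => by
    rw [hf]; rfl
  have h1f : ∀ T : Over S, (1 : T ⟶ A) ≫ f = 1 := fun T => by
    rw [Hom.one_def, Category.assoc, hone]
  have hl : lift (𝟙 A) (toUnit A ≫ η[A]) ≫ μ[A] = 𝟙 A := by
    rw [← Hom.mul_def, ← Hom.one_def, _root_.mul_one]
  have hr : lift (toUnit A ≫ η[A]) (𝟙 A) ≫ μ[A] = 𝟙 A := by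
    rw [← Hom.mul_def, ← Hom.one_def, _root_.one_mul]
  have hd : lift (𝟙 A) (toUnit A ≫ η[A]) ≫ d = 1 := by
    simp only [d, MonObj.comp_mul, GrpObj.comp_inv, ← Category.assoc, hl, lift_fst, lift_snd]
    simp [h1f, ← Hom.one_def]
  have hd' : lift (toUnit A ≫ η[A]) (𝟙 A) ≫ d = 1 := by
    simp only [d, MonObj.comp_mul, GrpObj.comp_inv, ← Category.assoc, hr, lift_fst, lift_snd]
    simp [h1f, ← Hom.one_def]
  have hd1 : d = 1 := by
    rw [eq_snd_comp_of_fst_trivial A A G η[A] d hd, hd', MonObj.comp_one]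
  refine ⟨hf, ?_⟩
  rw [mul_inv_eq_one.1 hd1, Hom.mul_def]
  congr 1

/-- Such a group is commutative. -/
theorem isCommMonObj_base : IsCommMonObj A := by
  have hι : IsMonHom ι[A] := isMonHom_of_one_base A A ι[A] GrpObj.one_inv
  refine ⟨?_⟩
  have hc : ∀ {X : Over S} (a b : X ⟶ A), a * b = b * a := by
    intro X a b
    have h := MonObj.mul_comp a b ι[A]
    rw [← Hom.inv_def, ← Hom.inv_def, ← Hom.inv_def, ← _root_.mul_inv_rev] at h
    exact (inv_inj.1 h)
  have e1 : μ[A] = fst A A * snd A A := by rw [Hom.mul_def, lift_fst_snd, Category.id_comp]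
  rw [e1, MonObj.comp_mul, braiding_hom_fst, braiding_hom_snd]
  exact hc _ _

end Groth.Agent.AV
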