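/-
Formal properties used for Albanese maps.
-/
import Groth.Agent.L26.AV.Hom
import Groth.Prelude.Def_Coh

open CategoryTheory MonoidalCategory CartesianMonoidalCategory MonObj AlgebraicGeometry Opposite Limits

universe u

namespace Groth.Agent.AV

variable {k : Type u} [Field k]

/-- `H⁰` one-dimensional means the constants are the global functions. -/
theorem bijective_toGlobal (X : Scheme.{u}) [X.Over (Spec (CommRingCat.of k))] [Nonempty X]
    (h0 : Module.finrank k (Coh.HH X (Coh.structureModule X) 0) = 1) :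
    Function.Bijective (Coh.toGlobal (X ↘ Spec (CommRingCat.of k))) := by
  let hT : IsTerminal (⊤ : TopologicalSpace.Opens X) := IsTerminal.ofUniqueHom (fun U => homOfLE le_top) (fun _ _ => rfl)
  let F := Coh.toAb (Coh.structureModule X)
  let e : Coh.HH X (Coh.structureModule X) 0 ≃+ Coh.Γtop X := Sheaf.H.equiv₀ F hT
  have he : ∀ (c : k) x, e (c • x) = Coh.toGlobal (X ↘ Spec (CommRingCat.of k)) c * e x := fun c x => by
    show Sheaf.H.equiv₀ F hT (Sheaf.H.map (Coh.smulAb (Coh.structureModule X) _) 0 x) = _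
    rw [← Sheaf.H.equiv₀_naturality]
    refine (Coh.smulAb_app (Coh.structureModule X) _ (op ⊤) _).trans ?_
    show Coh.resTop X (op ⊤) _ * _ = _
    congr 1
    simp [Coh.resTop]
  have : Nonempty ((⊤ : X.Opens) : Scheme.{u}) := ⟨⟨Classical.arbitrary X, trivial⟩⟩
  have : Nontrivial (Coh.Γtop X) := inferInstanceAs (Nontrivial Γ(X, ⊤))
  refine ⟨(Coh.toGlobal (X ↘ Spec (CommRingCat.of k))).injective, fun y => ?_⟩
  obtain ⟨v, -, hv⟩ := finrank_eq_one_iff'.1 h0
  obtain ⟨c, hc⟩ := hv (e.symm 1)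
  obtain ⟨d, hd⟩ := hv (e.symm y)
  have h1 : Coh.toGlobal (X ↘ Spec (CommRingCat.of k)) c * e v = 1 := by
    rw [← he, hc, AddEquiv.apply_symm_apply]
  have h2 : Coh.toGlobal (X ↘ Spec (CommRingCat.of k)) d * e v = y := by
    rw [← he, hd, AddEquiv.apply_symm_apply]
  have hc0 : c ≠ 0 := fun h => by rw [h, map_zero, zero_mul] at h1; exact zero_ne_one h1
  refine ⟨d * c⁻¹, ?_⟩
  rw [map_mul, ← h2]
  congr 1
  calc Coh.toGlobal (X ↘ Spec (CommRingCat.of k)) c⁻¹
      = Coh.toGlobal (X ↘ Spec (CommRingCat.of k)) c⁻¹ * (Coh.toGlobal (X ↘ Spec (CommRingCat.of k)) c * e v) := by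
        rw [h1, _root_.mul_one]
    _ = e v := by rw [← _root_.mul_assoc, ← map_mul, inv_mul_cancel₀ hc0, map_one, _root_.one_mul]

/-- A map with one-point image from a scheme with only constant functions is constant. -/
theorem eq_const_of_singleton {X A : Over (Spec (CommRingCat.of k))}
    (hX : Function.Bijective X.hom.appTop.hom) (x₀ : 𝟙_ _ ⟶ X) (f : X ⟶ A)
    (hf : (Set.range f.left).Subsingleton) : f = toUnit X ≫ x₀ ≫ f := by
  let a := f.left (x₀.left (IsLocalRing.closedPoint k))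
  obtain ⟨_, ⟨U₀, hU, rfl⟩, haU, -⟩ := A.left.isBasis_affineOpens.exists_subset_of_mem_open
    (Set.mem_univ a) isOpen_univ
  let U : A.left.Opens := U₀
  have : IsAffine U := hU
  have hsub : Set.range f.left ⊆ Set.range U.ι := by
    rintro z hz
    rw [Scheme.Opens.range_ι, hf hz ⟨_, rfl⟩]
    exact haU
  let g := IsOpenImmersion.lift U.ι f.left hsub
  have hg : g ≫ U.ι = f.left := IsOpenImmersion.lift_fac _ _ _
  have key : g = X.hom ≫ x₀.left ≫ g := by
    refine ext_of_isAffine ?_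
    have hx : X.hom.appTop ≫ x₀.left.appTop = 𝟙 _ := by
      rw [← Scheme.Hom.comp_appTop, Over.w x₀]; rfl
    have hiso : IsIso X.hom.appTop := (ConcreteCategory.isIso_iff_bijective _).2 hX
    have hxi : x₀.left.appTop = inv X.hom.appTop := (IsIso.eq_inv_of_hom_inv_id hx)
    rw [Scheme.Hom.comp_appTop, Scheme.Hom.comp_appTop, hxi, Category.assoc, IsIso.inv_hom_id,
      Category.comp_id]
  ext1
  rw [← hg]
  conv_lhs => rw [key]
  simp [hg]

/-- A surjective map with `O_Y = r_* O_X` is an epimorphism. -/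
theorem epi_of_app_iso {X Y : Scheme.{u}} (r : X ⟶ Y) [UniversallyClosed r] (hr : ∀ U : Y.Opens, IsIso (r.app U)) :
    Epi r := by
  have hs : Function.Surjective r := by
    intro y
    by_contra hy
    have hy' : y ∈ (Set.range r)ᶜ := fun ⟨x, hx⟩ => hy ⟨x, hx⟩
    let U : Y.Opens := ⟨_, r.isClosedMap.isClosed_range.isOpen_compl⟩
    have : Nonempty (U : Scheme.{u}) := ⟨⟨y, hy'⟩⟩
    have : Nontrivial Γ(Y, U) := inferInstance
    have he : r ⁻¹ᵁ U = ⊥ := by
      ext x
      simp [U]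
    have : Subsingleton Γ(X, r ⁻¹ᵁ U) := by rw [he]; infer_instance
    have := hr U
    exact not_subsingleton Γ(Y, U) ((ConcreteCategory.bijective_of_isIso (r.app U)).1.subsingleton)
  refine ⟨fun {Z} g₁ g₂ h => ?_⟩
  have hb : g₁.base = g₂.base := by
    ext y
    obtain ⟨x, rfl⟩ := hs y
    exact congrArg (fun φ : X ⟶ Z => φ x) h
  refine Scheme.Hom.ext hb fun V => ?_
  have h2 := Scheme.Hom.congr_app h V
  simp only [Scheme.Hom.comp_app, Category.assoc] at h2
  have := hr (g₂ ⁻¹ᵁ V)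
  rw [← cancel_mono (r.app (g₂ ⁻¹ᵁ V)), Category.assoc, Scheme.Hom.naturality, ← Category.assoc]
  erw [h2]
  erw [Category.assoc, Category.assoc, ← X.presheaf.map_comp]
  conv_rhs => rw [← Category.comp_id (r.app _), ← X.presheaf.map_id]
  rfl

end Groth.Agent.AV
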