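/-
Factorisation over the collapsed locus for maps with `O_S = ξ_* O_X`.
-/
import Groth.Agent.L26.AV.RelMain
import Groth.Agent.L26.AV.Albanese

open CategoryTheory CategoryTheory.Limits AlgebraicGeometry TopologicalSpace Opposite

universe u

namespace Groth.Agent.AV

variable {X Y S : Scheme.{u}}

theorem isIso_app_restrict (ξ : X ⟶ S) (h0 : ∀ U : S.Opens, IsIso (ξ.app U)) (W : S.Opens)
    (V : (W : Scheme.{u}).Opens) : IsIso ((ξ ∣_ W).app V) := by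
  rw [morphismRestrict_app]
  exact IsIso.comp_isIso' (h0 _) (Functor.map_isIso _ _)

theorem exists_isOpen_collapsed_desc (ξ : X ⟶ S) [UniversallyClosed ξ] [Surjective ξ]
    (h0 : ∀ U : S.Opens, IsIso (ξ.app U)) (f : X ⟶ Y) :
    ∃ (U : S.Opens) (k : (U : Scheme.{u}) ⟶ Y), (U : Set S) = collapsed ξ f ∧
      (ξ ⁻¹ᵁ U).ι ≫ f = (ξ ∣_ U) ≫ k := by
  have key : ∀ s ∈ collapsed ξ f, ∃ (W : S.Opens) (r : (W : Scheme.{u}) ⟶ Y),
      s ∈ W ∧ (ξ ⁻¹ᵁ W).ι ≫ f = (ξ ∣_ W) ≫ r := by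
    intro s hs
    obtain ⟨x₀, hx₀⟩ := ξ.surjective s
    obtain ⟨_, ⟨(V : Y.Opens), hV, rfl⟩, hyV, -⟩ := Y.isBasis_affineOpens.exists_subset_of_mem_open
      (Set.mem_univ (f x₀)) isOpen_univ
    let B : S.Opens := ⟨_, (ξ.isClosedMap _ (f ⁻¹ᵁ V).2.isClosed_compl).isOpen_compl⟩
    have hsB : s ∈ B := by
      rintro ⟨x, hx, hxs⟩
      exact hx (show f x ∈ V from hs x₀ x hx₀ hxs ▸ hyV)
    obtain ⟨_, ⟨(W : S.Opens), hW, rfl⟩, hsW, hWB⟩ := S.isBasis_affineOpens.exists_subset_of_mem_open hsB B.2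
    have hle : ξ ⁻¹ᵁ W ≤ f ⁻¹ᵁ V := fun x hx => not_not.1 fun h => hWB hx ⟨x, h, rfl⟩
    let g := f.resLE V (ξ ⁻¹ᵁ W) hle
    have : IsAffine W := hW
    have : IsAffine V := hV
    have := isIso_app_restrict ξ h0 W ⊤
    have : IsIso (ξ ∣_ W).appTop := this
    refine ⟨W, W.toScheme.isoSpec.hom ≫ Spec.map (g.appTop ≫ inv (ξ ∣_ W).appTop) ≫
      V.toScheme.isoSpec.inv ≫ V.ι, hsW, ?_⟩
    have hg : g = (ξ ∣_ W) ≫ W.toScheme.isoSpec.hom ≫ Spec.map (g.appTop ≫ inv (ξ ∣_ W).appTop) ≫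
        V.toScheme.isoSpec.inv := by
      rw [← cancel_mono V.toScheme.isoSpec.hom]
      simp only [Category.assoc, Iso.inv_hom_id, Category.comp_id, Scheme.isoSpec, asIso_hom]
      rw [Scheme.toSpecΓ_naturality_assoc, ← Spec.map_comp_assoc]
      simp only [Category.assoc, asIso_inv, IsIso.inv_hom_id, Category.comp_id]
      exact Scheme.toSpecΓ_naturality g
    have := congrArg (· ≫ V.ι) hg
    simp only [g, Scheme.Hom.resLE_comp_ι, Category.assoc] at this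
    exact this
  choose W r hsW hr using key
  let ι' := {s // s ∈ collapsed ξ f}
  let WW : ι' → S.Opens := fun s => W s.1 s.2
  have hcompat : ∀ i j : ι', S.homOfLE inf_le_left ≫ r i.1 i.2 =
      S.homOfLE (inf_le_right : WW i ⊓ WW j ≤ WW j) ≫ r j.1 j.2 := by
    intro i j
    let O := WW i ⊓ WW j
    have : UniversallyClosed (ξ ∣_ O) :=
      MorphismProperty.of_isPullback (isPullback_morphismRestrict ξ O).flip ‹UniversallyClosed ξ›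
    have : Epi (ξ ∣_ O) := epi_of_app_iso _ (isIso_app_restrict ξ h0 O)
    rw [← cancel_epi (ξ ∣_ O)]
    have e : ∀ (A : S.Opens) (hA : O ≤ A) (r : (A : Scheme.{u}) ⟶ Y),
        (ξ ⁻¹ᵁ A).ι ≫ f = (ξ ∣_ A) ≫ r → (ξ ∣_ O) ≫ S.homOfLE hA ≫ r = (ξ ⁻¹ᵁ O).ι ≫ f := by
      intro A hA r hr
      have hw : (ξ ∣_ O) ≫ S.homOfLE hA = X.homOfLE (ξ.preimage_mono hA) ≫ (ξ ∣_ A) := by
        rw [← cancel_mono A.ι]
        simp
      rw [← Category.assoc, hw, Category.assoc, ← hr, Scheme.homOfLE_ι_assoc]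
    rw [e _ _ _ (hr i.1 i.2), e _ _ _ (hr j.1 j.2)]
  let U : S.Opens := iSup WW
  let 𝒰 := Scheme.Opens.iSupOpenCover WW
  let k : (U : Scheme.{u}) ⟶ Y := 𝒰.glueMorphisms (fun i => r i.1 i.2) (by
    intro i j
    have H : IsPullback (S.homOfLE inf_le_left) (S.homOfLE inf_le_right)
        (S.homOfLE (le_iSup WW i)) (S.homOfLE (le_iSup WW j)) := isPullback_opens_inf_le _ _
    show pullback.fst (S.homOfLE (le_iSup WW i)) (S.homOfLE (le_iSup WW j)) ≫ _ =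
      pullback.snd (S.homOfLE (le_iSup WW i)) (S.homOfLE (le_iSup WW j)) ≫ _
    rw [← cancel_epi H.isoPullback.hom, IsPullback.isoPullback_hom_fst_assoc,
      IsPullback.isoPullback_hom_snd_assoc]
    exact hcompat i j)
  have hk : ∀ i, S.homOfLE (le_iSup WW i) ≫ k = r i.1 i.2 := fun i =>
    Scheme.Cover.ι_glueMorphisms 𝒰 _ _ i
  refine ⟨U, k, ?_, ?_⟩
  · ext t
    refine ⟨fun ht => ?_, fun ht => Opens.mem_iSup.2 ⟨⟨t, ht⟩, hsW t ht⟩⟩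
    obtain ⟨i, ht⟩ := Opens.mem_iSup.1 ht
    intro x x' hx hx'
    have h1 : x ∈ ξ ⁻¹ᵁ WW i := show ξ x ∈ WW i from hx ▸ ht
    have h2 : x' ∈ ξ ⁻¹ᵁ WW i := show ξ x' ∈ WW i from hx' ▸ ht
    have e1 := congrArg (fun φ => φ (⟨x, h1⟩ : ↥(ξ ⁻¹ᵁ WW i))) (hr i.1 i.2)
    have e2 := congrArg (fun φ => φ (⟨x', h2⟩ : ↥(ξ ⁻¹ᵁ WW i))) (hr i.1 i.2)
    simp only [Scheme.Hom.comp_apply] at e1 e2
    refine e1.trans (Eq.trans ?_ e2.symm)
    have ep : (ξ ∣_ WW i) ⟨x, h1⟩ = (ξ ∣_ WW i) ⟨x', h2⟩ := by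
      apply (WW i).ι.isOpenEmbedding.injective
      have h3 : ∀ z : ↥(ξ ⁻¹ᵁ WW i), (WW i).ι ((ξ ∣_ WW i) z) = ξ ((ξ ⁻¹ᵁ WW i).ι z) := fun z =>
        congrArg (fun φ => φ z) (morphismRestrict_ι ξ (WW i))
      exact (h3 ⟨x, h1⟩).trans ((hx.trans hx'.symm).trans (h3 ⟨x', h2⟩).symm)
    exact congrArg (r i.1 i.2) ep
  · have eU : ξ ⁻¹ᵁ U = ⨆ i, ξ ⁻¹ᵁ WW i := ξ.preimage_iSup _
    rw [← cancel_epi (X.isoOfEq eU).inv]
    refine (Scheme.Opens.iSupOpenCover fun i => ξ ⁻¹ᵁ WW i).hom_ext _ _ fun i => ?_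
    show X.homOfLE (le_iSup (fun i => ξ ⁻¹ᵁ WW i) i) ≫ (X.isoOfEq eU).inv ≫ _ =
      X.homOfLE (le_iSup (fun i => ξ ⁻¹ᵁ WW i) i) ≫ (X.isoOfEq eU).inv ≫ _
    have e : X.homOfLE (le_iSup (fun i => ξ ⁻¹ᵁ WW i) i) ≫ (X.isoOfEq eU).inv =
        X.homOfLE (ξ.preimage_mono (le_iSup WW i)) := by
      rw [← cancel_mono (ξ ⁻¹ᵁ U).ι]
      simp [Scheme.isoOfEq_inv]
      exact (X.homOfLE_ι _).symm
    rw [reassoc_of% e, reassoc_of% e, Scheme.homOfLE_ι_assoc, hr i.1 i.2, ← hk i, ← Category.assoc,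
      ← Category.assoc]
    congr 1
    rw [← cancel_mono U.ι]
    simp only [Category.assoc, morphismRestrict_ι]
    rw [Scheme.homOfLE_ι, morphismRestrict_ι, Scheme.homOfLE_ι_assoc]

end Groth.Agent.AV
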