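/-
Group schemes over a field are separated; schemes with a field of global functions are connected.
-/
import Mathlib.AlgebraicGeometry.Group.Abelian
import Mathlib.AlgebraicGeometry.Morphisms.Separated
import Mathlib.AlgebraicGeometry.Properties

open CategoryTheory CategoryTheory.Limits MonoidalCategory CartesianMonoidalCategory MonObj GrpObj
open AlgebraicGeometry TopologicalSpace

universe u

namespace Groth.Agent.AV

variable {k : Type u} [Field k]

theorem isSeparated_of_grpObj (G : Over (Spec (CommRingCat.of k))) [GrpObj G] : IsSeparated G.hom := by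
  let m : G ⊗ G ⟶ G := (fst G G)⁻¹ * snd G G
  let P : Over (Spec (CommRingCat.of k)) := Over.mk (pullback.fst m.left η[G].left ≫ (G ⊗ G).hom)
  let i : P ⟶ G ⊗ G := Over.homMk (pullback.fst m.left η[G].left) rfl
  have him : i ≫ m = toUnit P ≫ η[G] := by
    ext1
    show pullback.fst m.left η[G].left ≫ m.left = (toUnit P).left ≫ η[G].left
    rw [pullback.condition]
    congr 1
    show _ = pullback.fst m.left η[G].left ≫ (G ⊗ G).hom
    rw [← Over.w m, pullback.condition_assoc, Over.w η[G]]
    exact (Category.comp_id _).symm
  have heq : i ≫ snd G G = i ≫ fst G G := by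
    rw [← Hom.one_def, MonObj.comp_mul, GrpObj.comp_inv, inv_mul_eq_one] at him
    exact him.symm
  let δ : G ⟶ G ⊗ G := lift (𝟙 G) (𝟙 G)
  have hδm : δ ≫ m = toUnit G ≫ η[G] := by
    rw [MonObj.comp_mul, GrpObj.comp_inv, lift_fst, lift_snd, inv_mul_cancel, Hom.one_def]
  let l : G.left ⟶ pullback m.left η[G].left :=
    pullback.lift δ.left (toUnit G).left (by rw [← Over.comp_left, hδm, Over.comp_left])
  have hl : l ≫ pullback.fst _ _ = δ.left := pullback.lift_fst _ _ _
  have hiso : IsIso l := by
    refine ⟨(i ≫ fst G G).left, ?_, ?_⟩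
    · show l ≫ pullback.fst _ _ ≫ (fst G G).left = _
      rw [reassoc_of% hl, ← Over.comp_left, lift_fst, Over.id_left]
    · have h1 : (i ≫ fst G G) ≫ δ = i := by
        apply CartesianMonoidalCategory.hom_ext
        · simp [δ]
        · simp [δ, heq]
      apply pullback.hom_ext
      · rw [Category.assoc, hl, ← Over.comp_left, h1, Category.id_comp]
        rfl
      · rw [Category.id_comp, ← cancel_mono η[G].left, Category.assoc, Category.assoc, ← pullback.condition,
          reassoc_of% hl, ← Over.comp_left, ← Over.comp_left, ← Category.assoc, h1, him]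
        exact (congrArg (fun φ => φ.left) him).symm
  have hc : IsClosedImmersion δ.left := by
    rw [← hl]
    infer_instance
  refine ⟨?_⟩
  have : pullback.diagonal G.hom = δ.left := by
    apply pullback.hom_ext
    · rw [pullback.diagonal_fst]
      exact (congrArg (fun φ => φ.left) (lift_fst (𝟙 G) (𝟙 G))).symm
    · rw [pullback.diagonal_snd]
      exact (congrArg (fun φ => φ.left) (lift_snd (𝟙 G) (𝟙 G))).symm
  rw [this]
  exact hc

/-- A nonempty scheme whose global functions have no idempotents is connected. -/
theorem connectedSpace_of_surjective_appTop {X : Scheme.{u}} [Nonempty X]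
    (f : X ⟶ Spec (CommRingCat.of k)) (hf : Function.Surjective f.appTop.hom) : ConnectedSpace X := by
  have hpre : PreconnectedSpace X := by
    rw [preconnectedSpace_iff_clopen]
    intro C hC
    by_contra hcon
    push Not at hcon
    obtain ⟨hne, hne'⟩ := hcon
    let U : Bool → X.Opens := fun b => if b then ⟨C, hC.2⟩ else ⟨Cᶜ, hC.1.isOpen_compl⟩
    let s : ∀ b, Γ(X, U b) := fun b => if b then 1 else 0
    have hcomp : TopCat.Presheaf.IsCompatible X.presheaf U s := by
      intro a b
      rcases a with _ | _ <;> rcases b with _ | _ <;> first | rfl |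
        exact (by
          refine @Subsingleton.elim _ ?_ _ _
          have he : (⟨Cᶜ, hC.1.isOpen_compl⟩ : X.Opens) ⊓ ⟨C, hC.2⟩ = ⊥ := by ext x; simp
          first
            | (show Subsingleton Γ(X, _); rw [show U false ⊓ U true = ⊥ from he]; infer_instance)
            | (show Subsingleton Γ(X, _); rw [show U true ⊓ U false = ⊥ from (inf_comm _ _).trans he]; infer_instance))
    obtain ⟨g, hg, -⟩ := TopCat.Sheaf.existsUnique_gluing' X.sheaf U ⊤ (fun b => homOfLE le_top)
      (fun x _ => Opens.mem_iSup.2 (by
        by_cases hx : x ∈ C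
        · exact ⟨true, hx⟩
        · exact ⟨false, hx⟩)) s hcomp
    obtain ⟨q, rfl⟩ := hf g
    obtain ⟨c, rfl⟩ := (ConcreteCategory.bijective_of_isIso (Scheme.ΓSpecIso (CommRingCat.of k)).inv).2 q
    obtain ⟨x, hx⟩ := hne
    obtain ⟨y, hy⟩ := Set.nonempty_compl.2 hne'
    rcases eq_or_ne c 0 with rfl | hc
    · have h1 := hg true
      simp only [map_zero, s, if_true] at h1
      have : Nontrivial Γ(X, U true) := by
        have : Nonempty ((U true : X.Opens) : Scheme.{u}) := ⟨⟨x, hx⟩⟩
        infer_instance
      exact zero_ne_one (α := Γ(X, U true)) ((map_zero _).symm.trans h1)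
    · have h1 := hg false
      have hu := (((isUnit_iff_ne_zero.2 hc).map (Scheme.ΓSpecIso (CommRingCat.of k)).inv.hom).map
        f.appTop.hom).map (X.sheaf.obj.map (homOfLE le_top : U false ⟶ ⊤).op).hom
      have : Nontrivial Γ(X, U false) := by
        have : Nonempty ((U false : X.Opens) : Scheme.{u}) := ⟨⟨y, hy⟩⟩
        infer_instance
      erw [h1] at hu
      exact not_isUnit_zero (M₀ := Γ(X, U false)) hu
  exact { toNonempty := inferInstance }

end Groth.Agent.AV
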