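/-
Smooth schemes over fields are reduced.
-/
import Groth.Agent.S9407
import Mathlib.AlgebraicGeometry.Morphisms.Smooth
import Mathlib.AlgebraicGeometry.Properties
import Mathlib.AlgebraicGeometry.Geometrically.Reduced

open CategoryTheory CategoryTheory.Limits AlgebraicGeometry

universe u

namespace Groth.Agent.AV

theorem isReduced_spec_of_smooth {k : Type u} [Field k] (R : CommRingCat.{u})
    (g : Spec R ⟶ Spec (CommRingCat.of k)) [Smooth g] : IsReduced (Spec R) := by
  obtain ⟨φ, rfl⟩ := Spec.map_surjective g
  have h := (HasRingHomProperty.Spec_iff (P := @Smooth)).1 ‹Smooth (Spec.map φ)›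
  let := φ.hom.toAlgebra
  have : Algebra.Smooth k R := h
  have : _root_.IsReduced R := Groth.Agent.S9407.isReduced_of_field k R
  infer_instance

theorem isReduced_of_smooth_field {k : Type u} [Field k] {Z : Scheme.{u}}
    (j : Z ⟶ Spec (CommRingCat.of k)) [Smooth j] : IsReduced Z := by
  apply +allowSynthFailures @IsReduced.of_openCover (𝒰 := Z.affineCover)
  intro i
  have : Smooth (Z.affineCover.f i ≫ j) := IsZariskiLocalAtSource.comp (P := @Smooth) ‹Smooth j› _
  exact @isReduced_spec_of_smooth k _ _ (Z.affineCover.f i ≫ j) this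

/-- Smooth morphisms are geometrically reduced. -/
theorem geometricallyReduced_of_smooth {X S : Scheme.{u}} (f : X ⟶ S) [Smooth f] :
    GeometricallyReduced f :=
  ⟨geometrically_iff_of_isClosedUnderIsomorphisms.mpr
    fun K _ y => isReduced_of_smooth_field (k := K) (pullback.snd f y)⟩

end Groth.Agent.AV
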