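/-
Multiplication by an invertible integer on an abelian variety: points with values in an
algebraically closed field, factorisation of homomorphisms killing the torsion.
-/
import Groth.Agent.L08.AbSchMul
import Groth.Agent.L15.KerFlat.Basic
import Groth.Agent.L26.AV.Hom
import Groth.Agent.L26.AV.SmoothField
import Groth.Prelude.Def_AbDual
import Groth.Prelude.Def_EndRing
import Mathlib.AlgebraicGeometry.AlgClosed.Basic

set_option autoImplicit false
set_option linter.style.haveILetI false

universe u

open CategoryTheory CategoryTheory.Limits MonoidalCategory CartesianMonoidalCategory MonObj GrpObj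
  AlgebraicGeometry

namespace Groth.Agent.AV.Isogeny

variable {k : Type u} [Field k] {K : Type u} [Field K] [Algebra k K] [IsAlgClosed K]

variable (k K) in
/-- The algebraically closed point. -/
noncomputable abbrev geomPt : Over (Spec (CommRingCat.of k)) :=
  Over.mk (Spec.map (CommRingCat.ofHom (algebraMap k K)))

set_option backward.isDefEq.respectTransparency.types false in
variable (K) in
/-- Every closed point of a scheme locally of finite type over `k` carries a `K`-point. -/
theorem exists_point_closed {X : Over (Spec (CommRingCat.of k))} [LocallyOfFiniteType X.hom]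
    (x : X.left) (hx : IsClosed ({x} : Set X.left)) :
    ∃ (j : CommRingCat.of (X.left.residueField x) ⟶ CommRingCat.of K) (P : geomPt k K ⟶ X),
      P.left = Spec.map j ≫ X.left.fromSpecResidueField x := by
  let ψ := Spec.preimage (X.left.fromSpecResidueField x ≫ X.hom)
  have hfin : IsFinite (X.left.fromSpecResidueField x ≫ X.hom) := by
    rw [isClosed_singleton_iff_isClosedImmersion] at hx
    rw [isFinite_iff_locallyOfFiniteType_of_jacobsonSpace]
    infer_instance
  have hψ : ψ.hom.Finite := by
    rw [← IsFinite.SpecMap_iff, Spec.map_preimage]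
    exact hfin
  letI := ψ.hom.toAlgebra
  haveI : Module.Finite k (X.left.residueField x) := hψ
  haveI : Algebra.IsAlgebraic k (X.left.residueField x) := Algebra.IsAlgebraic.of_finite k _
  let e : (X.left.residueField x : Type u) →ₐ[k] K := IsAlgClosed.lift
  refine ⟨CommRingCat.ofHom e.toRingHom,
    Over.homMk (Spec.map (CommRingCat.ofHom e.toRingHom) ≫ X.left.fromSpecResidueField x) ?_, rfl⟩
  show (_ ≫ _) ≫ X.hom = Spec.map _
  rw [Category.assoc, ← Spec.map_preimage (X.left.fromSpecResidueField x ≫ X.hom), ← Spec.map_comp]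
  congr 1
  exact CommRingCat.hom_ext e.comp_algebraMap

variable (K) in
/-- Morphisms from a reduced scheme agreeing on all `K`-points are equal. -/
theorem ext_of_points {X Y : Over (Spec (CommRingCat.of k))} [LocallyOfFiniteType X.hom]
    [IsReduced X.left] [IsSeparated Y.hom] (f g : X ⟶ Y)
    (h : ∀ P : geomPt k K ⟶ X, P ≫ f = P ≫ g) : f = g := by
  ext1
  haveI : JacobsonSpace ↥X.left := LocallyOfFiniteType.jacobsonSpace X.hom
  refine ext_of_fromSpecResidueField_eq f.left g.left Y.hom (closedPoints X.left) ?_ (fun x hx => ?_)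
    ((Over.w f).trans (Over.w g).symm)
  · rw [dense_iff_closure_eq, closure_closedPoints]
  · obtain ⟨j, P, hP⟩ := exists_point_closed K x hx
    haveI : Flat (Spec.map j) := Flat.SpecMap_iff.mpr <| by
      letI := j.hom.toAlgebra
      exact inferInstanceAs (Module.Flat (X.left.residueField x) K)
    haveI : Surjective (Spec.map j) := ⟨fun y => ⟨IsLocalRing.closedPoint K, Subsingleton.elim _ _⟩⟩
    haveI : Epi (Spec.map j) := Flat.epi_of_flat_of_surjective _
    rw [← cancel_epi (Spec.map j)]
    have := congrArg CommaMorphism.left (h P)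
    change P.left ≫ f.left = P.left ≫ g.left at this
    rw [hP, Category.assoc, Category.assoc] at this
    exact this

set_option backward.isDefEq.respectTransparency.types false in
/-- `K`-points lift along surjective morphisms locally of finite type. -/
theorem exists_lift_point {X Y : Over (Spec (CommRingCat.of k))} (φ : X ⟶ Y) [Surjective φ.left]
    [LocallyOfFiniteType φ.left] (Q : geomPt k K ⟶ Y) : ∃ P : geomPt k K ⟶ X, P ≫ φ = Q := by
  let q : Spec (CommRingCat.of K) ⟶ Y.left := Q.left
  haveI : JacobsonSpace ↥(pullback φ.left q) :=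
    LocallyOfFiniteType.jacobsonSpace (pullback.snd φ.left q)
  have hne : (Set.univ : Set ↥(pullback φ.left q)).Nonempty := by
    obtain ⟨z, -⟩ := (pullback.snd φ.left q).surjective (IsLocalRing.closedPoint K)
    exact ⟨z, trivial⟩
  obtain ⟨z, -, hz⟩ := nonempty_inter_closedPoints hne isClosed_univ.isLocallyClosed
  obtain ⟨a, ha⟩ := (pointEquivClosedPoint (pullback.snd φ.left q)).symm ⟨z, hz⟩
  refine ⟨Over.homMk (a ≫ pullback.fst φ.left q) ?_, ?_⟩
  · rw [← Over.w φ, Category.assoc, pullback.condition_assoc, reassoc_of% ha, Over.w Q]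
  · ext1
    show (a ≫ _) ≫ φ.left = Q.left
    rw [Category.assoc, pullback.condition, reassoc_of% ha]

variable {A B : Over (Spec (CommRingCat.of k))}

theorem isMonHom_pow [GrpObj A] [IsCommMonObj A] (N : ℕ) : IsMonHom (𝟙 A ^ N) := by
  have h := EndAV.Hom.isMonHom_toHom (N • EndAV.Hom.of (𝟙 A))
  rwa [EndAV.Hom.toHom_nsmul, EndAV.Hom.toHom_of] at h

theorem geometricallyConnected {X S : Scheme.{u}} (f : X ⟶ S) [GeometricallyIntegral f] :
    GeometricallyConnected f :=
  ⟨fun F _ y T fst snd h =>
    have : IsIntegral T := GeometricallyIntegral.geometrically_isIntegral y fst snd h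
    inferInstance⟩

/-- Multiplication by an invertible integer on an abelian variety. -/
theorem finite_etale_surjective [GrpObj A] [IsProper A.hom] [GeometricallyIntegral A.hom]
    (N : ℕ) (hN : (N : k) ≠ 0) :
    IsFinite (𝟙 A ^ N).left ∧ Etale (𝟙 A ^ N).left ∧ Surjective (𝟙 A ^ N).left := by
  have hu : IsUnit ((N : ℤ) : Γ(Spec (CommRingCat.of k), ⊤)) := by
    have h := (isUnit_iff_ne_zero.2 hN).map (Scheme.ΓSpecIso (CommRingCat.of k)).inv.hom
    rw [map_natCast] at h
    rwa [Int.cast_natCast]
  haveI : GeometricallyConnected A.hom := geometricallyConnected A.hom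
  rw [← zpow_natCast]
  exact ⟨Groth.L08.AbSchMul.isFinite_pow A _ hu, Groth.L08.AbSchMul.etale_pow A _ hu,
    Groth.L08.AbSchMul.surjective_pow A _ hu⟩

/-- Every `K`-point is divisible by an invertible integer. -/
theorem exists_pow_eq [GrpObj A] [IsProper A.hom] [GeometricallyIntegral A.hom]
    (N : ℕ) (hN : (N : k) ≠ 0) (Q : geomPt k K ⟶ A) :
    ∃ P : geomPt k K ⟶ A, P ^ N = Q := by
  obtain ⟨_, _, _⟩ := finite_etale_surjective (A := A) N hN
  obtain ⟨P, hP⟩ := exists_lift_point (𝟙 A ^ N) Q
  exact ⟨P, by rw [← hP, MonObj.comp_pow, Category.comp_id]⟩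

variable (K) in
/-- A homomorphism killing the `K`-points of the kernel of an etale isogeny factors through it. -/
theorem exists_desc {A' : Over (Spec (CommRingCat.of k))} [GrpObj A] [GrpObj A'] [GrpObj B]
    [IsSeparated B.hom] (φ : A ⟶ A') [IsMonHom φ] [Etale φ.left] [Surjective φ.left]
    [QuasiCompact φ.left] (ψ : A ⟶ B) [IsMonHom ψ]
    (hker : ∀ P : geomPt k K ⟶ A, P ≫ φ = 1 → P ≫ ψ = 1) :
    ∃ ρ : A' ⟶ B, φ ≫ ρ = ψ := by
  let N := pullback φ η[A']
  let i : N ⟶ A := pullback.fst φ η[A']
  have hN : IsPullback i (toUnit N) φ η[A'] := by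
    rw [toUnit_unique (toUnit N) (pullback.snd φ η[A'])]
    exact IsPullback.of_hasPullback _ _
  have hNl := hN.map (Over.forget _)
  haveI : IsIso (𝟙_ (Over (Spec (CommRingCat.of k)))).hom := inferInstanceAs (IsIso (𝟙 _))
  haveI : Etale N.hom := by
    rw [← Over.w (toUnit N)]
    exact (MorphismProperty.cancel_right_of_respectsIso @Etale _ (𝟙_ (Over (Spec (CommRingCat.of k)))).hom).2
      (MorphismProperty.of_isPullback hNl ‹Etale φ.left›)
  haveI : IsReduced N.left := Groth.Agent.AV.isReduced_of_smooth_field N.hom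
  have hi : i ≫ ψ = 1 := by
    refine ext_of_points K _ _ fun P => ?_
    rw [MonObj.comp_one, ← Category.assoc]
    refine hker _ ?_
    rw [Category.assoc, hN.w, ← Category.assoc, Hom.one_def, toUnit_unique (P ≫ toUnit N) (toUnit _)]
  have hpairl : IsPullback (fst A N).left (fst A N * (snd A N ≫ i)).left φ.left φ.left :=
    (Groth.L15.KerFlat.isPullback_kernelPair hN).map (Over.forget _)
  have hcond : fst A N ≫ ψ = (fst A N * (snd A N ≫ i)) ≫ ψ := by
    rw [MonObj.mul_comp, Category.assoc, hi, MonObj.comp_one, _root_.mul_one]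
  haveI : Flat φ.left := inferInstance
  let r : A'.left ⟶ B.left := EffectiveEpi.desc φ.left ψ.left fun {W} g₁ g₂ hg => by
    rw [← hpairl.lift_fst g₁ g₂ hg, Category.assoc]
    conv_rhs => rw [← hpairl.lift_snd g₁ g₂ hg, Category.assoc]
    exact congrArg (_ ≫ ·) (congrArg CommaMorphism.left hcond)
  have hr : φ.left ≫ r = ψ.left := EffectiveEpi.fac _ _ _
  have hrw : r ≫ B.hom = A'.hom := by
    rw [← cancel_epi φ.left, reassoc_of% hr, Over.w ψ, Over.w φ]
  exact ⟨Over.homMk r hrw, Over.OverMorphism.ext hr⟩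

variable (K) in
/-- A homomorphism killing the `N`-torsion is divisible by `N`. -/
theorem exists_eq_pow_comp [GrpObj A] [IsCommMonObj A] [IsProper A.hom] [GeometricallyIntegral A.hom]
    [GrpObj B] [IsProper B.hom] [GeometricallyIntegral B.hom] (N : ℕ) (hN : (N : k) ≠ 0)
    (φ : A ⟶ B) [IsMonHom φ]
    (h : ∀ P : geomPt k K ⟶ A, P ^ N = 1 → P ≫ φ = 1) :
    ∃ ψ : A ⟶ B, IsMonHom ψ ∧ φ = (𝟙 A ^ N) ≫ ψ := by
  obtain ⟨_, _, _⟩ := finite_etale_surjective (A := A) N hN
  haveI : IsMonHom (𝟙 A ^ N) := isMonHom_pow N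
  obtain ⟨ψ, hψ⟩ := exists_desc K (𝟙 A ^ N) φ fun P hP => h P (by
    rwa [MonObj.comp_pow, Category.comp_id] at hP)
  refine ⟨ψ, Groth.Agent.AV.isMonHom_of_one ψ ?_, hψ.symm⟩
  have h1 : η[A] ≫ φ = η[B] := IsMonHom.one_hom φ
  rwa [← hψ, ← Category.assoc, IsMonHom.one_hom (𝟙 A ^ N)] at h1

end Groth.Agent.AV.Isogeny
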