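/-
The rigidity lemma for morphisms into separated schemes (no finiteness on the target).
-/
import Groth.Agent.L26.AV.Rigidity
import Groth.Agent.L26.AV.FibConst

set_option autoImplicit false
set_option backward.defeqAttrib.useBackward true
set_option backward.isDefEq.respectTransparency false

open CategoryTheory Limits MonoidalCategory CartesianMonoidalCategory AlgebraicGeometry

universe u

namespace Groth.Agent.AV

variable {K : Type u} [Field K]

/-- A morphism to an affine scheme from a scheme with constant global functions is constant. -/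
theorem eq_const_of_affine {W U : Scheme.{u}} [IsAffine U] {w : W ⟶ Spec (CommRingCat.of K)}
    (hw : Function.Surjective w.appTop.hom) (s : Spec (CommRingCat.of K) ⟶ W) (hs : s ≫ w = 𝟙 _)
    (g : W ⟶ U) : g = w ≫ s ≫ g := by
  refine ext_of_isAffine ?_
  ext r
  obtain ⟨c, hc⟩ := hw (g.appTop.hom r)
  simp only [Scheme.Hom.comp_appTop, CommRingCat.comp_apply]
  rw [← hc]
  congr 1
  rw [← CommRingCat.comp_apply, ← Scheme.Hom.comp_appTop, hs]
  rfl

/-- Rigidity over an algebraically closed field, the target being only separated. -/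
theorem rigidity_sep [IsAlgClosed K] {W X Z : Over (Spec (CommRingCat.of K))}
    [IsProper W.hom] [IsIntegral W.left] [LocallyOfFiniteType X.hom]
    [IsSeparated Z.hom] [IsIntegral (W ⊗ X).left]
    (ψ : W ⊗ X ⟶ Z) (w₀ : 𝟙_ _ ⟶ W) (x₀ : 𝟙_ _ ⟶ X) (z₀ : 𝟙_ _ ⟶ Z)
    (h : lift (𝟙 W) (toUnit W ≫ x₀) ≫ ψ = toUnit W ≫ z₀) :
    ψ = snd W X ≫ lift (toUnit X ≫ w₀) (𝟙 X) ≫ ψ := by
  let S := Spec (CommRingCat.of K)
  obtain ⟨_, ⟨U₀, hU₀, rfl⟩, hz₀, -⟩ :=
    Z.left.isBasis_affineOpens.exists_subset_of_mem_open (Set.mem_univ (ptImage z₀)) isOpen_univ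
  let U : Z.left.Opens := U₀
  have : IsProper (snd W X).left := by dsimp; infer_instance
  have : LocallyOfFiniteType (W ⊗ X).hom := by dsimp; infer_instance
  have : JacobsonSpace (W ⊗ X).left := LocallyOfFiniteType.jacobsonSpace (W ⊗ X).hom
  let C : Set X.left := (snd W X).left '' (ψ.left ⁻¹' (U : Set Z.left)ᶜ)
  have hC : IsClosed C :=
    (snd W X).left.isClosedMap _ (U.isOpen.isClosed_compl.preimage ψ.left.continuous)
  have hsec : ∀ (c : 𝟙_ (Over S) ⟶ W ⊗ X),
      c = (c ≫ fst W X) ≫ lift (𝟙 W) (toUnit W ≫ c ≫ snd W X) := fun c => by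
    apply CartesianMonoidalCategory.hom_ext <;> simp
  have hpt : ∀ (p : (W ⊗ X).left) (hp : IsClosed {p}),
      ∃ c : 𝟙_ (Over S) ⟶ W ⊗ X, c.left = pointOfClosedPoint (W ⊗ X).hom p hp ∧ ptImage c = p :=
    fun p hp => ⟨Over.homMk (pointOfClosedPoint (W ⊗ X).hom p hp) (pointOfClosedPoint_comp _ _ hp),
      rfl, pointOfClosedPoint_apply _ _ hp _⟩
  have hx₀ : ptImage x₀ ∉ C := by
    rintro ⟨p₀, hp₀, hp₀'⟩
    have hcl : IsClosed ({ptImage x₀} : Set X.left) :=
      ((pointEquivClosedPoint X.hom) ⟨x₀.left, Over.w x₀⟩).2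
    obtain ⟨p, ⟨hp1, hp2⟩, hp3⟩ := nonempty_inter_closedPoints
      (Z := ψ.left ⁻¹' (U : Set Z.left)ᶜ ∩ (snd W X).left ⁻¹' {ptImage x₀}) ⟨p₀, hp₀, hp₀'⟩
      ((U.isOpen.isClosed_compl.preimage ψ.left.continuous).inter
        (hcl.preimage (snd W X).left.continuous)).isLocallyClosed
    obtain ⟨c, -, hc⟩ := hpt p hp3
    have hsndc : c ≫ snd W X = x₀ := by
      ext1
      refine ext_of_apply_closedPoint_eq X.hom (Over.w (c ≫ snd W X)) (Over.w x₀) ?_
      show (snd W X).left (ptImage c) = _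
      rw [hc]; exact hp2
    apply hp1
    rw [← hc]
    show (c ≫ ψ).left (IsLocalRing.closedPoint K) ∈ U
    rw [hsec c, Category.assoc, hsndc, h, ← Category.assoc, toUnit_unique (_ ≫ toUnit W) (𝟙 _),
      Category.id_comp]
    exact hz₀
  have hdense : Dense ((snd W X).left ⁻¹' Cᶜ) := by
    refine (hC.isOpen_compl.preimage (snd W X).left.continuous).dense ?_
    refine ⟨ptImage (lift w₀ x₀), ?_⟩
    show (lift w₀ x₀ ≫ snd W X).left (IsLocalRing.closedPoint K) ∉ C
    rwa [lift_snd]
  ext1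
  refine ext_of_fromSpecResidueField_eq ψ.left _ Z.hom
    ((snd W X).left ⁻¹' Cᶜ ∩ closedPoints (W ⊗ X).left) ?_ ?_ ((Over.w ψ).trans (Over.w _).symm)
  · rwa [dense_iff_closure_eq, JacobsonSpace.closure_inter_closedPoints_eq_closure
      (hC.isOpen_compl.preimage (snd W X).left.continuous).isLocallyClosed, ← dense_iff_closure_eq]
  · rintro p ⟨hpC, hp⟩
    obtain ⟨c, hc, hcp⟩ := hpt p hp
    rw [← cancel_epi (Spec.map (residueFieldIsoBase (W ⊗ X).hom p hp).hom),
      ← Category.assoc, ← Category.assoc]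
    change pointOfClosedPoint (W ⊗ X).hom p hp ≫ ψ.left = pointOfClosedPoint (W ⊗ X).hom p hp ≫ _
    rw [← hc, ← Over.comp_left, ← Over.comp_left]
    let α : W ⟶ W ⊗ X := lift (𝟙 W) (toUnit W ≫ c ≫ snd W X)
    let β := α ≫ ψ
    have hrange : Set.range β.left ⊆ Set.range U.ι := by
      rintro _ ⟨w, rfl⟩
      rw [Scheme.Opens.range_ι]
      by_contra hnot
      apply hpC
      refine ⟨α.left w, hnot, ?_⟩
      show (α ≫ snd W X).left w = _
      rw [lift_snd, ← hcp]
      show (c ≫ snd W X).left ((toUnit W).left w) = (snd W X).left (c.left _)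
      rw [Subsingleton.elim (α := (Spec (CommRingCat.of K) : Scheme)) ((toUnit W).left w)
        (IsLocalRing.closedPoint K)]
      rfl
    have : IsAffine (U : Scheme) := hU₀
    let β₀ := IsOpenImmersion.lift U.ι β.left hrange
    have hsurj : Function.Surjective W.hom.appTop.hom := surjective_appTop_algClosed W.hom
    have hconst : β = toUnit W ≫ w₀ ≫ β := by
      ext1
      show β.left = W.hom ≫ w₀.left ≫ β.left
      rw [← IsOpenImmersion.lift_fac U.ι β.left hrange]
      simp only [← Category.assoc]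
      congr 1
      simp only [Category.assoc]
      exact eq_const_of_affine hsurj w₀.left (Over.w w₀) β₀
    congr 1
    calc c ≫ ψ = (c ≫ fst W X) ≫ β := by
          show c ≫ ψ = (c ≫ fst W X) ≫ α ≫ ψ
          rw [← Category.assoc (c ≫ fst W X) α, ← hsec c]
      _ = w₀ ≫ β := by
        conv_lhs => rw [hconst, ← Category.assoc, toUnit_unique (_ ≫ toUnit W) (𝟙 _), Category.id_comp]
      _ = _ := by
        simp only [β, α, ← Category.assoc]
        congr 1
        apply CartesianMonoidalCategory.hom_ext <;> simp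

end Groth.Agent.AV
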