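import Groth.Agent.L08.Cube.MulSurj
import Groth.Agent.L08.Cube.AmpleDiv
import Groth.Agent.L08.FlatHom
import Groth.Agent.L22.Inter.Top
import Groth.Agent.L22.Inter.Push
import Groth.Agent.L22.CurveDeg.PushStalk
import Groth.Agent.L22.Cyc.FiniteDeg
import Groth.Agent.L03.Euler.Lead
import Groth.Agent.L26.AV.Isogeny
import Mathlib.AlgebraicGeometry.Group.Abelian

/-!
# The degree of multiplication by `n` on an abelian variety

An endomorphism `φ` of a `g`-dimensional projective variety with `φ^*L ≅ L^N` for an ample `L` has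
degree `N^g`, by comparing leading coefficients of Hilbert polynomials; on an abelian variety this
applies to `[n]` with `N = n^2` and a symmetric ample `L`.
-/

set_option autoImplicit false
set_option linter.style.haveILetI false
set_option backward.isDefEq.respectTransparency false

universe u

open CategoryTheory CategoryTheory.Limits MonoidalCategory CartesianMonoidalCategory AlgebraicGeometry

open scoped MonObj

noncomputable section

namespace Groth.Agent.AV.Degree

open Groth.L03.Euler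

attribute [local instance] Groth.L08.Cube.clMonoid

theorem len_structure_eq_one {X : Scheme.{u}} [IsIntegral X] :
    Groth.L16.CohSupport.len (genericPoint X) (Coh.structureModule X) = 1 := by
  letI : Field (X.presheaf.stalk (genericPoint X)) := inferInstanceAs (Field X.functionField)
  let e : X.presheaf.stalk (genericPoint X) ≃ₗ[X.presheaf.stalk (genericPoint X)]
      (Coh.structureModule X).presheaf.stalk (genericPoint X) :=
    LinearEquiv.ofBijective (LinearMap.toSpanSingleton _ _ (Groth.L21.RR.one X (genericPoint X)))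
      (Groth.L21.RR.bijective_smul_one (genericPoint X))
  show Module.length _ _ = 1
  rw [← e.length_eq, Module.length_eq_finrank, Module.finrank_self]
  rfl

theorem support_structure {X : Scheme.{u}} : CohB1.support (Coh.structureModule X) = Set.univ := by
  refine Set.eq_univ_of_forall fun x h => ?_
  have hs : Subsingleton ((Coh.structureModule X).presheaf.stalk x) := h
  exact one_ne_zero ((Groth.L21.RR.bijective_smul_one x).1 (Subsingleton.elim
    ((1 : X.presheaf.stalk x) • Groth.L21.RR.one X x) ((0 : X.presheaf.stalk x) • Groth.L21.RR.one X x)))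

/-- The degree of a finite flat endomorphism multiplying an ample class by `N` is `N ^ dim`. -/
theorem finrank_eq_pow {k : Type u} [Field k] {X : Scheme.{u}} [X.Over (Spec (CommRingCat.of k))]
    [IsProper (X ↘ Spec (CommRingCat.of k))] [IsIntegral X] {g : ℕ}
    (hg : topologicalKrullDim X = g) (φ : X ⟶ X) [IsFinite φ] [Flat φ] [Surjective φ]
    (hφ : φ ≫ (X ↘ Spec (CommRingCat.of k)) = X ↘ Spec (CommRingCat.of k))
    (L : X.Modules) (hL : CohB1.IsAmple L) (N : ℕ)
    (hN : Nonempty ((Scheme.Modules.pullback φ).obj L ≅ CohB1.tensorPow L N)) :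
    φ.finrank (genericPoint X) = N ^ g := by
  haveI : IsLocallyNoetherian X := LocallyOfFiniteType.isLocallyNoetherian (X ↘ Spec (CommRingCat.of k))
  haveI : CompactSpace X := QuasiCompact.compactSpace_of_compactSpace (X ↘ Spec (CommRingCat.of k))
  haveI : X.IsSeparated := ⟨by rw [← terminal.comp_from (X ↘ Spec (CommRingCat.of k))]; infer_instance⟩
  let O := Coh.structureModule X
  let F := (Scheme.Modules.pushforward φ).obj O
  let ξ := genericPoint X
  have hO : Coh.IsCoh O := Groth.L16.CohClosedPush.isCoh_structure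
  have hF : Coh.IsCoh F := Groth.L16.Exist.isCoh_pushforward φ hO
  -- the generic point is the whole fibre over itself
  have hξ : φ ξ = ξ := by
    obtain ⟨x₀, hx₀⟩ := φ.surjective ξ
    have h : φ ξ ⤳ φ x₀ := ((genericPoint_spec X).specializes trivial).map φ.continuous
    rw [hx₀] at h
    exact (h.antisymm ((genericPoint_spec X).specializes trivial)).eq
  have huniq : ∀ x' : X, φ x' = ξ → x' = ξ := fun x' hx' =>
    (Groth.L19.eq_of_specializes_of_isIntegralHom φ
      ((genericPoint_spec X).specializes (trivial : x' ∈ (⊤ : Set X))) (hξ.trans hx'.symm)).symm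
  have hlen : (Groth.L16.CohSupport.len ξ F).toNat = φ.finrank ξ := by
    rw [Groth.L22.CurveDeg.len_push_structure_eq_residueDegree φ φ.isClosedMap hξ huniq,
      Groth.L22.Cyc.finrank_eq_sum φ ξ, finsum_mem_eq_of_bijOn (fun x => x) (s := ({ξ} : Set X))
        (f := fun x => φ.residueDegree x * (Groth.L22.Cyc.mult φ x).toNat) ?_ (fun _ _ => rfl) |>.symm,
      finsum_mem_singleton]
    · have hm : Groth.L22.Cyc.mult φ ξ = 1 := by
        letI : Field (X.presheaf.stalk ξ) := inferInstanceAs (Field X.functionField)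
        rw [Groth.L22.Cyc.mult, Module.length_eq_one_iff, isSimpleModule_iff_isCoatom, ← Ideal.isMaximal_def]
        have hne : Groth.L22.Cyc.fibIdeal φ ξ ≠ ⊤ := ne_top_of_le_ne_top
          (IsLocalRing.maximalIdeal.isMaximal _).ne_top (IsLocalRing.map_maximalIdeal_le _)
        rw [(Ideal.eq_bot_or_top (Groth.L22.Cyc.fibIdeal φ ξ)).resolve_right hne]
        exact Ideal.bot_isMaximal
      rw [hm]
      simp [ξ]
    · exact ⟨fun x hx => by rw [Set.mem_singleton_iff.1 hx]; exact hξ, Function.injective_id.injOn,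
        fun x hx => ⟨x, huniq x hx, rfl⟩⟩
  have hd : topologicalKrullDim (CohB1.support O) = g := by
    rw [support_structure, ← hg]
    exact IsHomeomorph.topologicalKrullDim_eq _ (Homeomorph.Set.univ X).isHomeomorph
  obtain ⟨P, -, hP⟩ := exists_isHilbPoly (k := k) hL.1 hO hd.le
  obtain ⟨hPg, hc⟩ := natDegree_eq_and_coeff_pos hL hO hd hP
  -- twisted Euler characteristics in one variable
  let Ls : Fin 1 → X.Modules := fun _ => L
  have hv : ∀ (M : X.Modules) (m : ℕ),
      twEuler k Ls M (fun _ => m) = (Curv2.euler k X (ShStab.twist X L M m) : ℚ) := fun M m =>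
    congrArg (Int.cast : ℤ → ℚ) (euler_iso (Groth.L00.Tensor.tensorIso (Iso.refl M)
      (Groth.L00.Tensor.tensorUnitLeft _)))
  have hpush : ∀ m : ℕ, twEuler k Ls F (fun _ => m) = P.eval ((N : ℚ) * m) := fun m => by
    rw [Groth.L22.Inter.twEuler_push k φ hφ (fun _ => hL.1) O hO.1]
    obtain ⟨e⟩ := hN
    obtain ⟨e'⟩ : Nonempty (CohB1.tensorPow (CohB1.tensorPow L N) m ≅ CohB1.tensorPow L (N * m)) :=
      (PicGrp.cl_eq_cl_iff _ _).1 (by
        rw [Groth.L08.Cube.cl_tensorPow, Groth.L08.Cube.cl_tensorPow, Groth.L08.Cube.cl_tensorPow,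
          pow_mul])
    obtain ⟨e''⟩ : Nonempty (CohB1.tensorPow ((Scheme.Modules.pullback φ).obj L) m ≅
        CohB1.tensorPow L (N * m)) := by
      refine (PicGrp.cl_eq_cl_iff _ _).1 ?_
      rw [Groth.L08.Cube.cl_tensorPow, (PicGrp.cl_eq_cl_iff _ _).2 ⟨e⟩, ← Groth.L08.Cube.cl_tensorPow,
        (PicGrp.cl_eq_cl_iff _ _).2 ⟨e'⟩]
    rw [show (N : ℚ) * m = ((N * m : ℕ) : ℚ) by push_cast; rfl, ← hP (N * m)]
    exact congrArg (Int.cast : ℤ → ℚ) (euler_iso (Groth.L00.Tensor.tensorIso (Iso.refl O)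
      (Groth.L00.Tensor.tensorUnitLeft _ ≪≫ e'')))
  have hdim : topologicalKrullDim (Set.univ : Set X) ≤ g := by
    rw [← hg]
    exact (IsHomeomorph.topologicalKrullDim_eq _ (Homeomorph.Set.univ X).isHomeomorph).le
  have hS : ∀ x, x ∈ ({ξ} : Finset X) ↔
      x ∈ (Set.univ : Set X) ∧ topologicalKrullDim (closure ({x} : Set X)) = (g : WithBot ℕ∞) := by
    intro x
    have hξ : topologicalKrullDim (closure ({ξ} : Set X)) = (g : WithBot ℕ∞) := by
      rw [(genericPoint_spec X).def, ← hg]
      exact IsHomeomorph.topologicalKrullDim_eq _ (Homeomorph.Set.univ X).isHomeomorph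
    refine ⟨fun h => ?_, fun ⟨_, h⟩ => ?_⟩
    · rw [Finset.mem_singleton.1 h]
      exact ⟨trivial, hξ⟩
    · exact Finset.mem_singleton.2 (Groth.L22.Inter.eq_of_specializes_top isClosed_univ hdim h
        trivial ((genericPoint_spec X).specializes trivial)).symm
  have key := Groth.L22.Inter.twEuler_sub_sum_mem k (L := Ls) (fun _ => hL.1) isClosed_univ hdim {ξ} hS
    (fun _ => O) (fun y hy => by
      rw [Finset.mem_singleton.1 hy]
      exact ⟨hO, fun x _ => ((genericPoint_spec X).specializes trivial).mem_closure, len_structure_eq_one⟩)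
    hF (Set.subset_univ _)
  rw [Finset.sum_singleton, hlen] at key
  obtain ⟨R, hR, hR'⟩ : ∃ R : Polynomial ℚ, R.coeff g = 0 ∧ ∀ m : ℕ,
      (twEuler k Ls F - ((φ.finrank ξ : ℕ) : ℚ) • twEuler k Ls O) (fun _ => m) = R.eval (m : ℚ) := by
    rcases Nat.eq_zero_or_pos g with h0 | h0
    · subst h0
      have hzero : polyFun 1 0 = ⊥ := by
        rw [eq_bot_iff, polyFun, Submodule.span_le]
        rintro _ ⟨a, ha, rfl⟩
        exact absurd ha (Nat.not_lt_zero _)
      rw [hzero, Submodule.mem_bot] at key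
      exact ⟨0, by simp, fun m => by rw [key]; simp⟩
    · obtain ⟨e, rfl⟩ : ∃ e, g = e + 1 := ⟨g - 1, by omega⟩
      obtain ⟨R, hR, hR'⟩ := exists_polynomial key
      exact ⟨R, Polynomial.coeff_eq_zero_of_natDegree_lt (by omega), hR'⟩
  have hpoly : P.comp (Polynomial.C (N : ℚ) * Polynomial.X) - Polynomial.C ((φ.finrank ξ : ℕ) : ℚ) * P = R :=
    eq_of_eventually_eval_eq 0 fun m _ => by
      rw [← hR', Pi.sub_apply, Pi.smul_apply, smul_eq_mul, hpush, hv, hP m]
      simp [Polynomial.eval_comp]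
  have hcoeff := congrArg (fun p : Polynomial ℚ => p.coeff g) hpoly
  simp only [Polynomial.coeff_sub, Polynomial.comp_C_mul_X_coeff, Polynomial.coeff_C_mul, hR] at hcoeff
  have h1 : ((N : ℚ) ^ g) = (φ.finrank ξ : ℕ) := by
    have := hc.ne'
    have h2 : P.coeff g * ((N : ℚ) ^ g - (φ.finrank ξ : ℕ)) = 0 := by linear_combination hcoeff
    rcases mul_eq_zero.1 h2 with h | h
    · exact absurd h this
    · linarith
  exact_mod_cast h1.symm

section

variable {k : Type u} [Field k] {A : Over (Spec (CommRingCat.of k))} [GrpObj A] [IsProper A.hom]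
  [GeometricallyIntegral A.hom]

variable (A) in
/-- An abelian variety has an ample invertible sheaf. -/
theorem exists_isAmple : ∃ L : A.left.Modules, CohB1.IsAmple L := by
  haveI : Smooth A.hom :=
    haveI : GrpObj (Over.mk A.hom) := inferInstanceAs (GrpObj A)
    smooth_of_grpObj A.hom
  haveI : IsIntegral A.left := GeometricallyIntegral.isIntegral_of_subsingleton A.hom
  haveI : A.left.IsSeparated := ⟨by rw [← Limits.terminal.comp_from A.hom]; infer_instance⟩
  haveI : IsLocallyNoetherian A.left := LocallyOfFiniteType.isLocallyNoetherian A.hom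
  haveI : CompactSpace A.left := QuasiCompact.compactSpace_of_compactSpace A.hom
  haveI : IsNoetherian A.left := {}
  obtain ⟨U, hU, haU, -⟩ := exists_isAffineOpen_mem_and_subset (x := genericPoint A.left)
    (U := (⊤ : A.left.Opens)) trivial
  haveI := Groth.L22.Div.isAffineHom_ι_of_inf (fun V W hV hW => hV.inf hW) hU
  obtain ⟨D, hD, hDs⟩ := Groth.L22.Div.exists_effCartier_compl U (U.2.dense ⟨_, haU⟩) fun x _ => by
    haveI := Groth.L08.Cube.isRegularLocalRing_of_smooth A.hom x
    exact ⟨Groth.L01.isDomain_of_regular _, Groth.L10.RegUFD.isUFD _⟩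
  obtain ⟨L, s, hL, -, hs⟩ := Groth.L08.Cube.exists_section_of_effCartier D hD
  have hgl : CohB1.genLocus L s = U := SetLike.coe_injective (by rw [hs, hDs, compl_compl])
  exact ⟨L, Groth.L08.Cube.isAmple_of_affine_genLocus L hL s (by rw [hgl]; exact hU)
    ⟨_, by rw [hgl]; exact haU⟩⟩

variable (A) in
/-- An abelian variety has an ample invertible sheaf isomorphic to its pullback under inversion. -/
theorem exists_isAmple_symmetric : ∃ L : A.left.Modules, CohB1.IsAmple L ∧
    Groth.L08.Cube.pc L (𝟙 A)⁻¹ = Groth.L08.Cube.pc L (𝟙 A) := by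
  obtain ⟨L, hL⟩ := exists_isAmple A
  have hι : (𝟙 A)⁻¹ ≫ (𝟙 A)⁻¹ = 𝟙 A := by simp [GrpObj.comp_inv]
  haveI : IsIso (𝟙 A)⁻¹ := ⟨⟨(𝟙 A)⁻¹, hι, hι⟩⟩
  haveI : IsIso ((𝟙 A)⁻¹ : A ⟶ A).left := inferInstanceAs (IsIso ((Over.forget _).map (𝟙 A)⁻¹))
  refine ⟨CohB1.tensorMod L ((Scheme.Modules.pullback ((𝟙 A)⁻¹ : A ⟶ A).left).obj L),
    Groth.L18.Ample.isAmple_tensor hL (Groth.L18.Ample.isAmple_pullback_of_isAffineHom ((𝟙 A)⁻¹ : A ⟶ A).left hL), ?_⟩
  have hc : PicF.cl (CohB1.tensorMod L ((Scheme.Modules.pullback ((𝟙 A)⁻¹ : A ⟶ A).left).obj L)) =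
      Groth.L08.Cube.pc L (𝟙 A) * Groth.L08.Cube.pc L (𝟙 A)⁻¹ := by
    show _ = PicF.pullCl (𝟙 A.left) (PicF.cl L) * _
    rw [PicLoc.pullCl_id]
    rfl
  simp only [Groth.L08.Cube.pc] at hc ⊢
  rw [hc, Groth.L08.Cube.pullCl_mul, Groth.L08.Cube.pullCl_mul, ← PicLoc.pullCl_comp,
    ← PicLoc.pullCl_comp, ← PicLoc.pullCl_comp, ← PicLoc.pullCl_comp]
  simp only [← Over.comp_left, hι, Category.comp_id, Category.id_comp]
  rw [mul_comm]

variable {n : ℕ} (hn : 1 ≤ n)
include hn

/-- Multiplication by `n` on an abelian variety is finite, flat, surjective and of finite presentation. -/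
theorem isogeny_pow : IsFinite (𝟙 A ^ n).left ∧ Flat (𝟙 A ^ n).left ∧ Surjective (𝟙 A ^ n).left ∧
    LocallyOfFinitePresentation (𝟙 A ^ n).left := by
  haveI : IsCommMonObj A := isCommMonObj_of_isProper_of_geometricallyIntegral A
  haveI : IsMonHom (𝟙 A ^ n) := Isogeny.isMonHom_pow n
  haveI : IsProper ((𝟙 A ^ n).left ≫ A.hom) := by rw [Over.w]; infer_instance
  haveI : IsProper (𝟙 A ^ n).left := IsProper.of_comp _ A.hom
  haveI := Groth.L08.Cube.locallyQuasiFinite_pow (A := A) hn
  haveI := Groth.L08.Cube.surjective_pow (A := A) hn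
  haveI : IsIntegral A.left := GeometricallyIntegral.isIntegral_of_subsingleton A.hom
  haveI : IsLocallyNoetherian A.left := LocallyOfFiniteType.isLocallyNoetherian A.hom
  haveI : Flat (𝟙 A ^ n).left := Groth.L08.FlatHom.flat_of_surjective A A (𝟙 A ^ n)
  haveI : IsFinite (𝟙 A ^ n).left := IsFinite.of_isProper_of_locallyQuasiFinite _
  exact ⟨inferInstance, inferInstance, inferInstance,
    LocallyOfFinitePresentation.iff_locallyOfFiniteType.2 inferInstance⟩

/-- Multiplication by `n` has degree `n ^ (2 dim)` everywhere. -/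
theorem finrank_pow {g : ℕ} (hg : topologicalKrullDim A.left = g) (x : A.left) :
    (𝟙 A ^ n).left.finrank x = n ^ (2 * g) := by
  obtain ⟨_, _, _, _⟩ := isogeny_pow (A := A) hn
  haveI : IsIntegral A.left := GeometricallyIntegral.isIntegral_of_subsingleton A.hom
  letI : A.left.Over (Spec (CommRingCat.of k)) := ⟨A.hom⟩
  haveI : IsProper (A.left ↘ Spec (CommRingCat.of k)) := inferInstanceAs (IsProper A.hom)
  obtain ⟨L, hL, hsym⟩ := exists_isAmple_symmetric A
  have hN : Nonempty ((Scheme.Modules.pullback (𝟙 A ^ n).left).obj L ≅ CohB1.tensorPow L (n ^ 2)) := by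
    refine (PicGrp.cl_eq_cl_iff _ _).1 ?_
    have h := Groth.L08.Cube.pc_pow L hL.1 n hn
    rw [hsym, ← pow_add, show n * (n + 1) / 2 + n * (n - 1) / 2 = n ^ 2 by
      obtain ⟨m, rfl⟩ : ∃ m, n = m + 1 := ⟨n - 1, by omega⟩
      obtain ⟨a, ha⟩ := Nat.even_mul_succ_self m
      have e1 : (m + 1) * (m + 1 + 1) = 2 * (a + (m + 1)) := by linarith
      have e2 : (m + 1) * (m + 1 - 1) = 2 * a := by rw [Nat.add_sub_cancel]; linarith
      have e3 : (m + 1) ^ 2 = a + a + (m + 1) := by linarith
      omega] at h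
    rw [Groth.L08.Cube.cl_tensorPow]
    refine (show PicF.cl _ = Groth.L08.Cube.pc L (𝟙 A ^ n) from rfl).trans (h.trans ?_)
    exact congrArg (· ^ (n ^ 2)) (PicLoc.pullCl_id _)
  rw [(Scheme.Hom.isLocallyConstant_finrank (𝟙 A ^ n).left).apply_eq_of_preconnectedSpace x (genericPoint A.left),
    pow_mul]
  exact finrank_eq_pow hg (𝟙 A ^ n).left (Over.w _) L hL (n ^ 2) hN

end

end Groth.Agent.AV.Degree
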