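import Groth.Agent.L26.AV.Subgroup
import Groth.Agent.L08.MulEtaleBC
import Mathlib.AlgebraicGeometry.Morphisms.FlatMono

/-!
# A homomorphism killing prime power torsion is trivial
-/

set_option autoImplicit false
set_option linter.style.haveILetI false
set_option backward.isDefEq.respectTransparency.types false

universe u

open CategoryTheory CategoryTheory.Limits MonoidalCategory CartesianMonoidalCategory MonObj AlgebraicGeometry

noncomputable section

namespace Groth.Agent.AV.TorsKill

variable {k : Type u} [Field k] {A B : Over (Spec (CommRingCat.of k))}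
  [GrpObj A] [IsCommMonObj A] [IsProper A.hom] [GeometricallyIntegral A.hom]
  [GrpObj B] [IsSeparated B.hom]

/-- A homomorphism killing all `l`-power torsion is trivial, over an algebraically closed field. -/
theorem eq_one_of_kills [IsAlgClosed k] (φ : A ⟶ B) [IsMonHom φ] {l : ℕ} [Fact l.Prime] (hl : (l : k) ≠ 0)
    (h : ∀ (n : ℕ) (a : TorsPts.ptk k ⟶ A), a ^ (l ^ n) = 1 → a ≫ φ = 1) : φ = 1 := by
  let K := pullback φ η[B]
  let i : K ⟶ A := pullback.fst φ η[B]
  have hi : i ≫ φ = 1 := by
    rw [Hom.one_def, toUnit_unique (toUnit K) (pullback.snd φ η[B])]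
    exact pullback.condition
  have hlift : ∀ {T : Over (Spec (CommRingCat.of k))} (f : T ⟶ A), f ≫ φ = 1 → ∃ z : T ⟶ K, z ≫ i = f :=
    fun {T} f hf => ⟨pullback.lift f (toUnit T) (by rw [hf, Hom.one_def]), pullback.lift_fst _ _ _⟩
  haveI : Mono η[B] := (IsSplitMono.mk' ⟨toUnit B, toUnit_unique _ _⟩).mono
  haveI : Mono i := inferInstance
  haveI hη : IsClosedImmersion η[B].left :=
    isClosedImmersion_of_comp_eq_id (Y := Spec (CommRingCat.of k)) B.hom η[B].left (Over.w η[B])
  haveI : IsClosedImmersion i.left :=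
    MorphismProperty.of_isPullback ((IsPullback.of_hasPullback φ η[B]).map (Over.forget _)).flip hη
  obtain ⟨gK, hiK⟩ := Groth.L08.exists_grpObj_of_mono i
    (hlift η[A] (IsMonHom.one_hom φ |>.trans (by rw [Hom.one_def, toUnit_unique (toUnit _) (𝟙 _), Category.id_comp])))
    (hlift _ (by rw [MonObj.mul_comp, Category.assoc, Category.assoc, hi, MonObj.comp_one, MonObj.comp_one,
      _root_.one_mul]))
    (hlift _ (by rw [GrpObj.inv_comp, hi, inv_one]))
  letI := gK
  haveI : IsIso i := Subgroup.isIso_of_torsion_factors i hl fun n a ha => hlift a (h n a ha)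
  rw [← cancel_epi i, hi, MonObj.comp_one]

/-- A homomorphism killing all `l`-power torsion with values in an algebraically closed field is trivial. -/
theorem eq_one_of_kills_geom {K : Type u} [Field K] [Algebra k K] [IsAlgClosed K] (φ : A ⟶ B) [IsMonHom φ]
    {l : ℕ} [Fact l.Prime] (hl : (l : k) ≠ 0)
    (h : ∀ (n : ℕ) (P : Isogeny.geomPt k K ⟶ A), P ^ (l ^ n) = 1 → P ≫ φ = 1) : φ = 1 := by
  let t := Spec.map (CommRingCat.ofHom (algebraMap k K))
  let F := Over.pullback t
  letI : GrpObj (F.obj A) := Functor.grpObjObj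
  letI : GrpObj (F.obj B) := Functor.grpObjObj
  haveI : IsCommMonObj (F.obj A) := inferInstanceAs (IsCommMonObj ((Over.pullback t).obj A))
  haveI : IsMonHom (F.map φ) := inferInstanceAs (IsMonHom ((Over.pullback t).map φ))
  haveI : IsProper (F.obj A).hom := inferInstanceAs (IsProper (pullback.snd A.hom t))
  haveI : GeometricallyIntegral (F.obj A).hom := inferInstanceAs (GeometricallyIntegral (pullback.snd A.hom t))
  haveI : IsSeparated (F.obj B).hom := inferInstanceAs (IsSeparated (pullback.snd B.hom t))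
  have hlK : (l : K) ≠ 0 := by
    rw [← map_natCast (algebraMap k K)]
    exact (map_ne_zero _).2 hl
  let d : TorsPts.ptk K ⟶ F.obj (Isogeny.geomPt k K) :=
    Over.homMk (pullback.lift (𝟙 _) (𝟙 _) (by rfl)) (pullback.lift_snd _ _ _)
  have hd : ∀ (X : Over (Spec (CommRingCat.of k))) (P : Isogeny.geomPt k K ⟶ X),
      (d ≫ F.map P).left ≫ pullback.fst X.hom t = P.left := by
    intro X P
    show (pullback.lift (𝟙 _) (𝟙 _) _ ≫ _) ≫ _ = _
    rw [Category.assoc]
    erw [pullback.lift_fst]
    rw [pullback.lift_fst_assoc, Category.id_comp]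
  have hφ : F.map φ = 1 := by
    refine eq_one_of_kills (F.map φ) hlK fun n a ha => ?_
    let P : Isogeny.geomPt k K ⟶ A := Over.homMk (a.left ≫ pullback.fst A.hom t) (by
      have := Over.w a
      change a.left ≫ pullback.snd A.hom t = 𝟙 _ at this
      rw [Category.assoc, pullback.condition, reassoc_of% this]
      rfl)
    have haP : d ≫ F.map P = a := by
      refine Over.OverMorphism.ext (pullback.hom_ext (hd A P) ?_)
      exact (Over.w (d ≫ F.map P)).trans (Over.w a).symm
    have hP : P ^ (l ^ n) = 1 := by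
      have h1 : d ≫ F.map (P ^ (l ^ n)) = d ≫ F.map (1 : Isogeny.geomPt k K ⟶ A) := by
        show d ≫ F.homMonoidHom (P ^ (l ^ n)) = d ≫ F.homMonoidHom 1
        rw [map_pow, map_one, MonObj.comp_pow, MonObj.comp_one]
        exact (congrArg (· ^ (l ^ n)) haP).trans ha
      refine Over.OverMorphism.ext ?_
      rw [← hd A, ← hd A (1 : Isogeny.geomPt k K ⟶ A), h1]
    rw [← haP, Category.assoc, ← F.map_comp, h n P hP]
    show d ≫ F.homMonoidHom 1 = 1
    rw [map_one, MonObj.comp_one]
  haveI : Surjective t := ⟨fun x => ⟨IsLocalRing.closedPoint K, Subsingleton.elim (α := PrimeSpectrum k) _ _⟩⟩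
  haveI : Surjective (pullback.fst A.hom t) := inferInstance
  haveI : Flat t := Flat.SpecMap_iff.mpr <| by
    exact RingHom.flat_algebraMap_iff.2 inferInstance
  haveI : Epi (pullback.fst A.hom t) := Flat.epi_of_flat_of_surjective _
  refine Over.OverMorphism.ext ((cancel_epi (pullback.fst A.hom t)).1 ?_)
  have h1 : F.map φ = F.map 1 := hφ.trans (map_one F.homMonoidHom).symm
  rw [← (Groth.L08.MulEtale.isPullback_map t φ).w, ← (Groth.L08.MulEtale.isPullback_map t (1 : A ⟶ B)).w]
  exact congrArg (fun f => f.left ≫ pullback.fst B.hom t) h1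

end Groth.Agent.AV.TorsKill
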