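import Groth.Agent.L08.MulEtaleBC
import Groth.Agent.L26.AV.TorsKill
import Groth.Prelude.Def_EndTate

/-!
# Tate modules and base change of the ground field
-/

set_option autoImplicit false
set_option linter.style.haveILetI false
set_option linter.unusedSectionVars false
set_option backward.isDefEq.respectTransparency.types false

universe u

open CategoryTheory CategoryTheory.Limits MonoidalCategory CartesianMonoidalCategory MonObj AlgebraicGeometry

noncomputable section

namespace Groth.Agent.AV.TateBaseChange

variable {k : Type u} [Field k] (K : Type u) [Field K] [Algebra k K]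

/-- The structure map. -/
abbrev st : Spec (CommRingCat.of K) ⟶ Spec (CommRingCat.of k) := Spec.map (CommRingCat.ofHom (algebraMap k K))

/-- The base change of an object. -/
abbrev bc (A : Over (Spec (CommRingCat.of k))) : Over (Spec (CommRingCat.of K)) := (Over.pullback (st (k := k) K)).obj A

variable {A : Over (Spec (CommRingCat.of k))}

instance [GrpObj A] : GrpObj (bc K A) := Functor.grpObjObj

instance [GrpObj A] [IsCommMonObj A] : IsCommMonObj (bc K A) :=
  inferInstanceAs (IsCommMonObj ((Over.pullback (st (k := k) K)).obj A))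

instance [IsProper A.hom] : IsProper (bc K A).hom := inferInstanceAs (IsProper (pullback.snd A.hom (st (k := k) K)))

instance [GeometricallyIntegral A.hom] : GeometricallyIntegral (bc K A).hom :=
  inferInstanceAs (GeometricallyIntegral (pullback.snd A.hom (st (k := k) K)))

variable {B : Over (Spec (CommRingCat.of k))}

instance isMonHom_map [GrpObj A] [GrpObj B] (f : A ⟶ B) [IsMonHom f] :
    IsMonHom (M := bc K A) (N := bc K B) ((Over.pullback (st (k := k) K)).map f) :=
  inferInstanceAs (IsMonHom ((Over.pullback (st (k := k) K)).map f))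

/-- The diagonal point. -/
def diag : TorsPts.ptk K ⟶ bc K (Isogeny.geomPt k K) :=
  Over.homMk (pullback.lift (𝟙 _) (𝟙 _) (by rfl)) (pullback.lift_snd _ _ _)

theorem diag_map_fst (X : Over (Spec (CommRingCat.of k))) (P : Isogeny.geomPt k K ⟶ X) :
    (diag K ≫ (Over.pullback (st (k := k) K)).map P).left ≫ pullback.fst X.hom (st (k := k) K) = P.left := by
  show (pullback.lift (𝟙 _) (𝟙 _) _ ≫ _) ≫ _ = _
  rw [Category.assoc]
  erw [pullback.lift_fst]
  rw [pullback.lift_fst_assoc, Category.id_comp]

variable (A) in
/-- Points with values in `K` are the rational points of the base change. -/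
def ptsEquiv [GrpObj A] : (Isogeny.geomPt k K ⟶ A) ≃* (TorsPts.ptk K ⟶ bc K A) where
  toFun P := diag K ≫ (Over.pullback (st (k := k) K)).map P
  invFun a := Over.homMk (a.left ≫ pullback.fst A.hom (st (k := k) K)) (by
    have := Over.w a
    change a.left ≫ pullback.snd A.hom (st (k := k) K) = 𝟙 _ at this
    rw [Category.assoc, pullback.condition, reassoc_of% this]
    rfl)
  left_inv P := Over.OverMorphism.ext (diag_map_fst K A P)
  right_inv a := Over.OverMorphism.ext (pullback.hom_ext (diag_map_fst K A _)
    ((Over.w (diag K ≫ (Over.pullback (st (k := k) K)).map _)).trans (Over.w a).symm))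
  map_mul' P Q := by
    show diag K ≫ (Over.pullback (st (k := k) K)).homMonoidHom (P * Q) = _
    rw [map_mul, MonObj.comp_mul]
    rfl

theorem ptsEquiv_comp [GrpObj A] [GrpObj B] (P : Isogeny.geomPt k K ⟶ A) (f : A ⟶ B) :
    ptsEquiv K B (P ≫ f) = ptsEquiv K A P ≫ (Over.pullback (st (k := k) K)).map f := by
  show diag K ≫ _ = (diag K ≫ _) ≫ _
  rw [Functor.map_comp, Category.assoc]

variable [GrpObj A] [IsCommMonObj A] [GrpObj B] [IsCommMonObj B] (l : ℕ) [Fact l.Prime]

variable (A) in
/-- The Tate module of the base change. -/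
def tateEquiv : AbDual.TateMod A l (Isogeny.geomPt k K) ≃ₗ[ℤ_[l]] AbDual.TateMod (bc K A) l (TorsPts.ptk K) where
  toFun x := ⟨fun n => (ptsEquiv K A).toAdditive ((x : ℕ → Additive (Isogeny.geomPt k K ⟶ A)) n),
    ⟨fun n => by rw [← map_nsmul, x.torsion n, map_zero], fun n => by rw [← map_nsmul, x.compat n]⟩⟩
  invFun y := ⟨fun n => (ptsEquiv K A).toAdditive.symm ((y : ℕ → Additive (TorsPts.ptk K ⟶ bc K A)) n),
    ⟨fun n => by rw [← map_nsmul, y.torsion n, map_zero], fun n => by rw [← map_nsmul, y.compat n]⟩⟩
  map_add' x y := AbDual.TateMod.ext fun n => map_add (ptsEquiv K A).toAdditive _ _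
  map_smul' a x := AbDual.TateMod.ext fun n => map_nsmul (ptsEquiv K A).toAdditive (a.appr n) _
  left_inv x := AbDual.TateMod.ext fun n => (ptsEquiv K A).toAdditive.symm_apply_apply _
  right_inv y := AbDual.TateMod.ext fun n => (ptsEquiv K A).toAdditive.apply_symm_apply _

theorem tateEquiv_comp (f : A ⟶ B) [IsMonHom f] :
    (tateEquiv K B l).toLinearMap.comp (AbDual.tateMapₗ (l := l) (T := Isogeny.geomPt k K) f) =
      (AbDual.tateMapₗ (l := l) (T := TorsPts.ptk K)
        ((Over.pullback (st (k := k) K)).map f : bc K A ⟶ bc K B)).comp (tateEquiv K A l).toLinearMap :=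
  LinearMap.ext fun x => AbDual.TateMod.ext fun n => congrArg Additive.ofMul (ptsEquiv_comp K _ f)

theorem conj_tateMap (f : A ⟶ A) [IsMonHom f] :
    (tateEquiv K A l).conj (AbDual.tateMapₗ (l := l) (T := Isogeny.geomPt k K) f) =
      AbDual.tateMapₗ (l := l) (T := TorsPts.ptk K) ((Over.pullback (st (k := k) K)).map f : bc K A ⟶ bc K A) := by
  rw [LinearEquiv.conj_apply, tateEquiv_comp, LinearMap.comp_assoc]
  simp

omit [IsCommMonObj A] [IsCommMonObj B] [GrpObj A] [GrpObj B] in
/-- Finiteness of a morphism of proper objects descends. -/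
theorem isFinite_of_map [IsProper A.hom] [IsSeparated B.hom] (f : A ⟶ B)
    (hf : IsFinite ((Over.pullback (st (k := k) K)).map f).left) : IsFinite f.left := by
  haveI := hf
  haveI : IsProper (f.left ≫ B.hom) := by rw [Over.w]; infer_instance
  haveI : IsProper f.left := IsProper.of_comp f.left B.hom
  haveI : Surjective (st (k := k) K) :=
    ⟨fun x => ⟨IsLocalRing.closedPoint K, Subsingleton.elim (α := PrimeSpectrum k) _ _⟩⟩
  haveI : Surjective (pullback.fst B.hom (st (k := k) K)) := inferInstance
  haveI : LocallyQuasiFinite f.left := LocallyQuasiFinite.of_finite_preimage_singleton _ fun y => by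
    obtain ⟨y', rfl⟩ := (pullback.fst B.hom (st (k := k) K)).surjective y
    have hP := Groth.L08.MulEtale.isPullback_map (st (k := k) K) f
    refine ((((Over.pullback (st (k := k) K)).map f).left.finite_preimage_singleton y').image
      (pullback.fst A.hom (st (k := k) K))).subset ?_
    intro x hx
    obtain ⟨w, hw1, hw2⟩ := Scheme.Pullback.exists_preimage_pullback (f := pullback.fst B.hom (st (k := k) K))
      (g := f.left) y' x (show f.left x = _ from hx).symm
    refine ⟨hP.isoPullback.inv w, ?_, ?_⟩
    · exact (congrArg (fun φ => φ w) hP.isoPullback_inv_fst).trans hw1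
    · exact (congrArg (fun φ => φ w) hP.isoPullback_inv_snd).trans hw2
  exact IsFinite.of_isProper_of_locallyQuasiFinite _

omit [IsCommMonObj A] [IsCommMonObj B] [GrpObj A] [GrpObj B] in
theorem isFinite_map (f : A ⟶ B) [IsFinite f.left] : IsFinite ((Over.pullback (st (k := k) K)).map f).left :=
  MorphismProperty.of_isPullback (Groth.L08.MulEtale.isPullback_map (st (k := k) K) f).flip inferInstance

omit [IsCommMonObj A] [IsCommMonObj B] [GrpObj A] [GrpObj B] in
theorem finrank_map (f : A ⟶ B) [IsFinite f.left] [Flat f.left] (y' : (bc K B).left) :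
    ((Over.pullback (st (k := k) K)).map f).left.finrank y' =
      f.left.finrank (pullback.fst B.hom (st (k := k) K) y') :=
  Scheme.Hom.finrank_of_isPullback _ _ _ _ (Groth.L08.MulEtale.isPullback_map (st (k := k) K) f).flip y'

end Groth.Agent.AV.TateBaseChange
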