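import Groth.Agent.L26.AV.CharTate
import Groth.Agent.L26.AV.TateBaseChange

/-!
# The characteristic polynomial over an arbitrary ground field
-/

set_option autoImplicit false
set_option linter.style.haveILetI false
set_option linter.unusedSectionVars false
set_option backward.isDefEq.respectTransparency.types false

universe u

open CategoryTheory CategoryTheory.Limits MonoidalCategory CartesianMonoidalCategory MonObj AlgebraicGeometry

noncomputable section

namespace Groth.Agent.AV.CharTateExt

open TateBaseChange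

variable {k : Type u} [Field k] (K : Type u) [Field K] [Algebra k K] [IsAlgClosed K]
  {A : Over (Spec (CommRingCat.of k))} [GrpObj A] [IsCommMonObj A] [IsProper A.hom] [GeometricallyIntegral A.hom]

/-- The characteristic polynomial of an endomorphism. -/
theorem exists_char (f : A ⟶ A) [IsMonHom f] : ∃ P : Polynomial ℤ, P.Monic ∧
    (∀ n : ℤ, (IsFinite (f * 𝟙 A ^ (-n)).left → ∀ a : A.left,
        ((f * 𝟙 A ^ (-n)).left.finrank a : ℤ) = P.eval n) ∧
      (¬ IsFinite (f * 𝟙 A ^ (-n)).left → P.eval n = 0)) ∧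
    (∀ (l : ℕ) [Fact l.Prime], (l : k) ≠ 0 →
      ∀ [Module.Free ℤ_[l] (AbDual.TateMod A l (Isogeny.geomPt k K))]
        [Module.Finite ℤ_[l] (AbDual.TateMod A l (Isogeny.geomPt k K))],
      (AbDual.tateMapₗ (l := l) (T := Isogeny.geomPt k K) f).charpoly = P.map (Int.castRingHom ℤ_[l]) ∧
        (∀ G : Polynomial ℤ, P ∣ G → Polynomial.aeval (AbDual.tateMapₗ (l := l) (T := Isogeny.geomPt k K) f) G = 0)) ∧
    Even P.natDegree := by
  obtain ⟨g, -, hg⟩ := Groth.L08.GrpDim.exists_dim (bc K A)
  obtain ⟨s⟩ := DegreeNorm.nonempty_setup (bc K A) hg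
  let f' : bc K A ⟶ bc K A := (Over.pullback (st (k := k) K)).map f
  obtain ⟨P, hm, hd, hv, -⟩ := DegreeNorm.exists_char s (EndAV.End.of f')
  refine ⟨P, hm, fun n => ?_, fun l _ hl _ _ => ?_, hd ▸ even_two_mul g⟩
  · haveI : IsCommMonObj A := ‹_›
    haveI : IsMonHom (f * 𝟙 A ^ (-n)) := by
      have h : (EndAV.End.of f - (n : EndAV.End A)).toHom = f * 𝟙 A ^ (-n) := DegreeNorm.toHom_sub_intCast _ n
      rw [← h]
      infer_instance
    have e : (EndAV.End.of f' - (n : EndAV.End (bc K A))).toHom =
        (Over.pullback (st (k := k) K)).map (f * 𝟙 A ^ (-n)) := by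
      rw [DegreeNorm.toHom_sub_intCast]
      show f' * 𝟙 (bc K A) ^ (-n) = (Over.pullback (st (k := k) K)).homMonoidHom (f * 𝟙 A ^ (-n))
      rw [map_mul, map_zpow]
      congr 2
      exact ((Over.pullback (st (k := k) K)).map_id A).symm
    refine ⟨fun h a => ?_, fun h => ?_⟩
    · haveI := h
      haveI : IsIntegral A.left := GeometricallyIntegral.isIntegral_of_subsingleton A.hom
      haveI : Surjective (f * 𝟙 A ^ (-n)).left := surjective_of_isFinite_of_dim_eq A A _ rfl
      haveI : Flat (f * 𝟙 A ^ (-n)).left := Groth.L08.FlatHom.flat_of_surjective A A _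
      haveI : Surjective (st (k := k) K) :=
        ⟨fun x => ⟨IsLocalRing.closedPoint K, Subsingleton.elim (α := PrimeSpectrum k) _ _⟩⟩
      obtain ⟨y, hy⟩ := (inferInstance : Surjective (pullback.fst A.hom (st (k := k) K))).surj a
      have h1 := DegreeNorm.D_isFinite s (EndAV.End.of f' - (n : EndAV.End (bc K A)))
        (by rw [e]; exact isFinite_map K _) y
      rw [hv n, e, finrank_map K _ y, hy] at h1
      exact_mod_cast h1
    · have h1 := DegreeNorm.D_not_isFinite s (EndAV.End.of f' - (n : EndAV.End (bc K A)))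
        (by rw [e]; exact fun h' => h (isFinite_of_map K _ h'))
      rw [hv n] at h1
      exact_mod_cast h1
  · have hlK : (l : K) ≠ 0 := by
      rw [← map_natCast (algebraMap k K)]
      exact (map_ne_zero _).2 hl
    obtain ⟨b⟩ := CharTate.nonempty_basis l hlK (A := bc K A) hg
    haveI : Module.Free ℤ_[l] (AbDual.TateMod (bc K A) l (TorsPts.ptk K)) := Module.Free.of_basis b
    haveI : Module.Finite ℤ_[l] (AbDual.TateMod (bc K A) l (TorsPts.ptk K)) := Module.Finite.of_basis b
    have h := CharTate.charpoly_eq l hlK s (EndAV.End.of f') P hv b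
    rw [EndAV.End.tateRep_apply, LinearMap.charpoly_toMatrix] at h
    change (AbDual.tateMapₗ (l := l) (T := TorsPts.ptk K) f').charpoly = _ at h
    have h2 : (AbDual.tateMapₗ (l := l) (T := Isogeny.geomPt k K) f).charpoly = P.map (Int.castRingHom ℤ_[l]) := by
      rw [← LinearEquiv.charpoly_conj (tateEquiv K A l), conj_tateMap]
      exact h
    refine ⟨h2, fun G hG => ?_⟩
    obtain ⟨R, rfl⟩ := hG
    rw [map_mul, ← Polynomial.aeval_map_algebraMap (A := ℤ_[l]) (p := P),
      show P.map (algebraMap ℤ ℤ_[l]) = P.map (Int.castRingHom ℤ_[l]) from rfl, ← h2,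
      LinearMap.aeval_self_charpoly, zero_mul]

end Groth.Agent.AV.CharTateExt
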