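import Groth.Agent.L16.FrameIso
import Groth.Agent.L18.Ample
import Groth.Agent.L08.Cube.NPull

/-!
# The pullback of an invertible module by an absolute Frobenius is its power
-/

set_option autoImplicit false
set_option backward.isDefEq.respectTransparency false

universe u

open CategoryTheory AlgebraicGeometry TopologicalSpace Opposite

noncomputable section

namespace Groth.Agent.AV.FrobPullback

open Groth.L18.Frame (rs ro rs_rs rs_self rs_smul ro_ro IsFrame pull pull_rs pull_smul exists_frame)
open Groth.L18.GenLoc (tens tens_rs tens_smul_left tens_smul_right)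
open Groth.L18.Ample (tw fr isFrame_fr tw_unit)

variable {X : Scheme.{u}}

/-- The unit section. -/
def unit (W : X.Opens) : Γ(Coh.structureModule X, W) := (1 : Γ(X, W))

theorem rs_unit {W V : X.Opens} (h : V ≤ W) : rs (Coh.structureModule X) h (unit W) = unit V :=
  map_one (X.presheaf.map (homOfLE h).op).hom

theorem isFrame_unit (W : X.Opens) : IsFrame (Coh.structureModule X) W (unit W) := by
  intro V h
  rw [rs_unit h]
  show Function.Bijective fun a : Γ(X, V) => a * 1
  simp only [mul_one]
  exact Function.bijective_id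

theorem rs_fr {N L : X.Modules} {W V : X.Opens} (h : V ≤ W) (e : Γ(N, W)) (ε : Γ(L, W)) :
    ∀ n : ℕ, rs (tw N L n) h (fr e ε n) = fr (rs N h e) (rs L h ε) n
  | 0 => rfl
  | n + 1 => by
    show rs (CohB1.tensorMod (tw N L n) L) h (tens _ L W (fr e ε n) ε) = tens _ L V _ _
    rw [tens_rs, rs_fr h e ε n]

theorem fr_smul {N L : X.Modules} {W : X.Opens} (e : Γ(N, W)) (c : Γ(X, W)) (ε : Γ(L, W)) :
    ∀ n : ℕ, fr e (c • ε) n = c ^ n • fr e ε n
  | 0 => by rw [pow_zero, one_smul]; rfl
  | n + 1 => by
    show tens _ L W (fr e (c • ε) n) (c • ε) = c ^ (n + 1) • tens _ L W (fr e ε n) ε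
    rw [fr_smul e c ε n, tens_smul_left, tens_smul_right, ← mul_smul, pow_succ]

variable (f : X ⟶ X) (hle : ∀ U : X.Opens, U ≤ f ⁻¹ᵁ U) (q : ℕ)
  (happ : ∀ (U : X.Opens) (s : Γ(X, U)), (f.appLE U U (hle U)).hom s = s ^ q)

include happ in
/-- Pullback by an absolute `q`-Frobenius is the `q`-th tensor power. -/
theorem nonempty_iso {L : X.Modules} (hL : PicF.IsInvertible L) :
    Nonempty ((Scheme.Modules.pullback f).obj L ≅ CohB1.tensorPow L q) := by
  rw [← tw_unit]
  let M₁ := (Scheme.Modules.pullback f).obj L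
  choose W e hx he using fun x : X => exists_frame hL x
  choose c hc using fun i j : X =>
    (he j).exists_coeff (inf_le_right : W i ⊓ W j ≤ W j) (rs L inf_le_left (e i))
  let e₁ : ∀ i : X, Γ(M₁, W i) := fun i => rs M₁ (hle (W i)) (pull f L (W i) (e i))
  have key : ∀ (i : X) (V : X.Opens) (h : V ≤ W i),
      rs M₁ h (e₁ i) = rs M₁ (hle V) (pull f L V (rs L h (e i))) := fun i V h => by
    rw [← pull_rs, rs_rs, rs_rs]
  refine Groth.L16.FrameIso.nonempty_iso W e₁ (fun i => ((he i).pullback f L).mono (hle (W i)))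
    (fun x => ⟨x, hx x⟩) (fun i j => c i j ^ q) (fun i j => ?_)
    (fun i => fr (unit (W i)) (e i) q) (fun i => isFrame_fr (isFrame_unit _) (he i) q) (fun i j => ?_)
  · rw [key i _ inf_le_left, key j _ inf_le_right, ← hc i j, pull_smul, rs_smul]
    congr 1
    exact happ _ _
  · rw [rs_fr, rs_fr, rs_unit, rs_unit, ← hc i j, fr_smul]

attribute [local instance] Groth.L08.Cube.clMonoid

include happ in
/-- Pullback by an absolute `q`-Frobenius on classes. -/
theorem pullCl_eq {L : X.Modules} (hL : PicF.IsInvertible L) :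
    PicF.pullCl f (PicF.cl L) = PicF.cl L ^ q := by
  obtain ⟨i⟩ := nonempty_iso f hle q happ hL
  rw [← Groth.L08.Cube.cl_tensorPow]
  exact Quot.sound ⟨i⟩

end Groth.Agent.AV.FrobPullback
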