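import Groth.Agent.L26.AV.HomFin
import Groth.Agent.L26.AV.FrobPullback
import Groth.Agent.L26.AV.CharTateExt
import Groth.Agent.L26.Misc.Similitude

/-!
# The Riemann hypothesis for abelian varieties over finite fields
-/

set_option autoImplicit false
set_option linter.style.haveILetI false
set_option linter.unusedSectionVars false
set_option backward.isDefEq.respectTransparency false
set_option backward.isDefEq.respectTransparency.types false

universe u

open CategoryTheory CategoryTheory.Limits MonoidalCategory CartesianMonoidalCategory MonObj AlgebraicGeometry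

noncomputable section

namespace Groth.Agent.AV.FrobRH

open Groth.L22.Inter InterPic DegreeForm

attribute [local instance] Groth.L08.Cube.clMonoid InterPic.picLaw

variable {k : Type u} [Field k] {X : Over (Spec (CommRingCat.of k))}
  [GrpObj X] [IsCommMonObj X] [IsProper X.hom] [GeometricallyIntegral X.hom]
  (π : X ⟶ X) [IsMonHom π] (q : ℕ)

local instance overX : X.left.Over (Spec (CommRingCat.of k)) := ⟨X.hom⟩
local instance : IsProper (X.left ↘ Spec (CommRingCat.of k)) := inferInstanceAs (IsProper X.hom)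

/-- Pulling back by `π` multiplies classes of invertible modules by `q`. -/
def PullPow : Prop := ∀ (L : X.left.Modules), PicF.IsInvertible L → PicF.pullCl π.left (PicF.cl L) = PicF.cl L ^ q

variable {π q}

omit [IsMonHom π] [IsCommMonObj X] [GeometricallyIntegral X.hom] in
theorem pullPic_eq (hq : PullPow π q) (a : PicLoc.PicSet X.left) : pullPic π.left a = a ^ q := by
  refine Subtype.ext ?_
  rw [pullPic_val]
  obtain ⟨M, hM, hMi⟩ := a.2
  rw [← hM, hq M hMi, hM]
  clear hq
  induction q with
  | zero => rw [pow_zero, pow_zero]; rfl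
  | succ n ih => rw [pow_succ, pow_succ, ih]; rfl

variable (L : X.left.Modules) (hL : PicF.IsInvertible L)

omit [IsMonHom π] [IsCommMonObj X] in
theorem F_comp (hq : PullPow π q) (x : X ⟶ X) : F L hL (π ≫ x) = q • F L hL x := by
  refine Eq.trans ?_ ((congrArg Additive.ofMul (pullPic_eq hq (F L hL x).toMul)).trans (ofMul_pow _ _))
  refine congrArg Additive.ofMul (Subtype.ext ?_)
  show PicF.pullCl (π ≫ x).left (PicF.cl L) = PicF.pullCl π.left (PicF.pullCl x.left (PicF.cl L))
  rw [← PicLoc.pullCl_comp, Over.comp_left]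

theorem Bil_comp (hq : PullPow π q) (x y : X ⟶ X) :
    Bil L hL (Additive.ofMul (π ≫ x)) (Additive.ofMul (π ≫ y)) =
      q • Bil L hL (Additive.ofMul x) (Additive.ofMul y) := by
  show F L hL ((π ≫ x) * (π ≫ y)) - F L hL (π ≫ x) - F L hL (π ≫ y) =
    q • (F L hL (x * y) - F L hL x - F L hL y)
  rw [← MonObj.comp_mul, F_comp L hL hq, F_comp L hL hq, F_comp L hL hq, nsmul_sub, nsmul_sub]

variable (π q)

/-- An endomorphism multiplying ample classes by `q` is killed by an integral polynomial with simple roots of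
absolute value `√q`. -/
theorem exists_mu (hq : PullPow π q) (hq0 : 0 < q) :
    ∃ ν : Polynomial ℤ, ν.Monic ∧ Polynomial.aeval (EndAV.End.of π) ν = 0 ∧
      Squarefree (ν.map (Int.castRingHom ℚ)) ∧
      ∀ α ∈ (ν.map (Int.castRingHom ℂ)).roots, ‖α‖ = Real.sqrt q := by
  obtain ⟨g, -, hg⟩ := Groth.L08.GrpDim.exists_dim X
  obtain ⟨hfree, hfin, hrank⟩ := HomFin.finite_free k X X hg hg
  haveI : Module.Free ℤ (EndAV.End X) := hfree
  haveI : Module.Finite ℤ (EndAV.End X) := hfin
  rcases Nat.eq_zero_or_pos g with rfl | hpos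
  · refine ⟨1, Polynomial.monic_one, ?_, by rw [Polynomial.map_one]; exact squarefree_one, by simp⟩
    have hr0 : Module.finrank ℤ (EndAV.Hom X X) = 0 := by simpa using hrank
    haveI : Subsingleton (EndAV.End X) := (Module.finBasisOfFinrankEq ℤ (EndAV.Hom X X) hr0).repr.toEquiv.subsingleton
    exact Subsingleton.elim _ _
  obtain ⟨r, rfl⟩ : ∃ r, g = r + 1 := ⟨g - 1, by omega⟩
  obtain ⟨L, hampL, hsym⟩ := Degree.exists_isAmple_symmetric X
  obtain ⟨H, hampH, -⟩ := Degree.exists_isAmple_symmetric X
  let b : EndAV.End X →+ EndAV.End X →+ ℚ := HomFin.form hg L hampL.1 H hampH.1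
  let p : EndAV.End X := EndAV.End.of π
  let f : Module.End ℤ (EndAV.End X) := (AddMonoidHom.mulRight p).toIntLinearMap
  have hf : ∀ x y, b (f x) (f y) = (q : ℚ) * b x y := by
    intro x y
    show HomFin.cap hg H hampH.1 (Bil L hampL.1 (Additive.ofMul (π ≫ x.toHom)) (Additive.ofMul (π ≫ y.toHom))) = _
    rw [Bil_comp L hampL.1 hq, map_nsmul, nsmul_eq_mul]
    rfl
  have hbs : ∀ x y, b x y = b y x := fun x y => by
    refine congrArg (HomFin.cap hg H hampH.1) ?_
    show F L hampL.1 (x.toHom * y.toHom) - _ - _ = F L hampL.1 (y.toHom * x.toHom) - _ - _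
    rw [mul_comm x.toHom, sub_right_comm]
  obtain ⟨ν, hm, h0, hsq, hroots⟩ := Similitude.exists_poly b hbs
    (HomFin.form_self_pos hg L hampL.1 H hampH.1 hsym hampL hampH) f q (by exact_mod_cast hq0) hf
  refine ⟨ν, hm, ?_, hsq, fun α hα => by simpa using hroots α hα⟩
  have key : ∀ (G : Polynomial ℤ) (x : EndAV.End X), Polynomial.aeval f G x = x * Polynomial.aeval p G := by
    intro G
    induction G using Polynomial.induction_on' with
    | add a b ha hb => intro x; rw [map_add, map_add, LinearMap.add_apply, ha, hb, mul_add]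
    | monomial n a =>
      intro x
      rw [Polynomial.aeval_monomial, Polynomial.aeval_monomial]
      have h1 : ∀ x, (f ^ n) x = x * p ^ n := by
        induction n with
        | zero => intro x; simp
        | succ n ih =>
          intro x
          rw [pow_succ, Module.End.mul_apply, ih]
          show x * p * p ^ n = _
          rw [_root_.mul_assoc, ← pow_succ']
      rw [Module.End.mul_apply, h1, eq_intCast, eq_intCast, ← zsmul_one, ← zsmul_one, LinearMap.smul_apply,
        Module.End.one_apply, smul_mul_assoc, _root_.one_mul, mul_smul_comm]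
  exact ((key ν 1).trans (_root_.one_mul _)).symm.trans (by rw [h0]; rfl)

end Groth.Agent.AV.FrobRH

namespace Groth.Agent.AV.FrobRH

variable {k : Type u} [Field k] {X : Over (Spec (CommRingCat.of k))}
  (π : X ⟶ X) (q : ℕ) (hle : ∀ U : X.left.Opens, U ≤ π.left ⁻¹ᵁ U)
  (happ : ∀ (U : X.left.Opens) (s : Γ(X.left, U)), (π.left.appLE U U (hle U)).hom s = s ^ q)

include happ in
theorem pullPow_of_frobenius : PullPow π q := fun _ hL => FrobPullback.pullCl_eq π.left hle q happ hL

end Groth.Agent.AV.FrobRH

namespace Groth.Agent.AV.FrobRH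

open Polynomial

/-- If a linear map over `ℤ_l` is killed by `ν`, every root of its characteristic polynomial is a root of `ν`. -/
theorem roots_charpoly_subset {l : ℕ} [Fact l.Prime] {M : Type*} [AddCommGroup M] [Module ℤ_[l] M]
    [Module.Free ℤ_[l] M] [Module.Finite ℤ_[l] M] (T : Module.End ℤ_[l] M) (ν P : ℤ[X])
    (hν : aeval T ν = 0) (hP : T.charpoly = P.map (Int.castRingHom ℤ_[l])) (hPm : P.Monic) (α : ℂ)
    (hα : α ∈ (P.map (Int.castRingHom ℂ)).roots) : aeval α ν = 0 := by
  classical
  let L := PadicAlgCl l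
  let e := Module.Free.chooseBasis ℤ_[l] M
  let N := (LinearMap.toMatrix e e T).map (algebraMap ℤ_[l] L)
  have hN : N.charpoly = P.map (algebraMap ℤ L) := by
    rw [Matrix.charpoly_map, LinearMap.charpoly_toMatrix, hP, Polynomial.map_map]
    exact congrArg (fun φ => P.map φ) (RingHom.ext_int _ _)
  have hNν : aeval N ν = 0 := by
    let ψ : Module.End ℤ_[l] M →+* Matrix _ _ L :=
      (algebraMap ℤ_[l] L).mapMatrix.comp (LinearMap.toMatrixAlgEquiv e).toAlgHom.toRingHom
    show aeval (ψ.toIntAlgHom T) ν = 0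
    rw [aeval_algHom_apply, hν, map_zero]
  have hint : IsIntegral ℤ α := ⟨P, hPm, by
    rw [← mem_roots'.1 hα |>.2, Polynomial.eval_map]
    rfl⟩
  have hdvd : minpoly ℤ α ∣ P := minpoly.isIntegrallyClosed_dvd hint (by
    rw [aeval_def, ← Polynomial.eval_map]
    exact (mem_roots'.1 hα).2)
  have hdeg : ((minpoly ℤ α).map (algebraMap ℤ L)).degree ≠ 0 := by
    rw [(minpoly.monic hint).degree_map]
    exact (minpoly.degree_pos hint).ne'
  obtain ⟨β, hβ⟩ := IsAlgClosed.exists_root _ hdeg
  have hroot : N.charpoly.IsRoot β := by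
    rw [hN]
    exact hβ.dvd (Polynomial.map_dvd _ hdvd)
  rw [Polynomial.IsRoot, Matrix.eval_charpoly] at hroot
  obtain ⟨v, hv0, hv⟩ := Matrix.exists_mulVec_eq_zero_iff.2 hroot
  have heig : Module.End.HasEigenvector (Matrix.toLinAlgEquiv' N) β v := by
    refine Module.End.hasEigenvector_iff.2 ⟨Module.End.mem_eigenspace_iff.2 ?_, hv0⟩
    rw [Matrix.sub_mulVec, sub_eq_zero] at hv
    rw [Matrix.toLinAlgEquiv'_apply, ← hv]
    funext i
    simp [Matrix.scalar_apply, Matrix.mulVec_diagonal]
  have h1 := Module.End.aeval_apply_of_hasEigenvector (p := ν.map (algebraMap ℤ L)) heig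
  rw [aeval_algHom_apply, aeval_map_algebraMap, hNν, map_zero, LinearMap.zero_apply, eq_comm, smul_eq_zero] at h1
  have h2 : aeval β ν = 0 := by
    rw [aeval_def, ← Polynomial.eval_map]
    exact h1.resolve_right hv0
  have hβint : IsIntegral ℤ β := ⟨minpoly ℤ α, minpoly.monic hint, by rw [← Polynomial.eval_map]; exact hβ⟩
  have heq : minpoly ℤ α = minpoly ℤ β := eq_of_monic_of_associated (minpoly.monic hint) (minpoly.monic hβint)
    (((minpoly.irreducible hβint).associated_of_dvd (minpoly.irreducible hint)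
      (minpoly.isIntegrallyClosed_dvd hβint (by rw [aeval_def, ← Polynomial.eval_map]; exact hβ))).symm)
  have h3 : minpoly ℤ α ∣ ν := heq ▸ minpoly.isIntegrallyClosed_dvd hβint h2
  obtain ⟨c, hc⟩ := h3
  rw [hc, map_mul, minpoly.aeval, zero_mul]

end Groth.Agent.AV.FrobRH

namespace Groth.Agent.AV.FrobRH

open Polynomial

/-- Ring homomorphisms commute with the evaluation of integral polynomials, whatever the algebra structures. -/
theorem aeval_ringHom {R S : Type*} [Ring R] [Algebra ℤ R] [Ring S] [Algebra ℤ S] (f : R →+* S) (x : R)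
    (G : ℤ[X]) : aeval (f x) G = f (aeval x G) := by
  rw [aeval_def, aeval_def, hom_eval₂]
  exact congrArg (fun φ => eval₂ φ _ G) (RingHom.ext_int _ _)

/-- The roots of the characteristic polynomial on a Tate module are roots of any killing polynomial. -/
theorem aeval_root_eq_zero {k : Type u} [Field k] {X : Over (Spec (CommRingCat.of k))} [GrpObj X] [IsCommMonObj X]
    (f : X ⟶ X) [IsMonHom f] (l : ℕ) [Fact l.Prime] (T : Over (Spec (CommRingCat.of k)))
    [Module.Free ℤ_[l] (AbDual.TateMod X l T)] [Module.Finite ℤ_[l] (AbDual.TateMod X l T)]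
    (P ν : ℤ[X]) (hP : (AbDual.tateMapₗ (l := l) (T := T) f).charpoly = P.map (Int.castRingHom ℤ_[l]))
    (hν : aeval (EndAV.End.of f) ν = 0) (α : ℂ) (hα : α ∈ (P.map (Int.castRingHom ℂ)).roots) : aeval α ν = 0 := by
  refine roots_charpoly_subset (AbDual.tateMapₗ (l := l) (T := T) f) ν P ?_ hP
    (Polynomial.monic_of_injective (f := Int.castRingHom ℤ_[l]) Int.cast_injective (hP ▸ LinearMap.charpoly_monic _)) α hα
  show aeval (EndAV.End.tateRep l T (EndAV.End.of f)) ν = 0
  rw [aeval_ringHom, hν, map_zero]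

end Groth.Agent.AV.FrobRH
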