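import Groth.Agent.L08.DeligneScheme

/-!
# Multiplication by `p` on a finite commutative group lands in `p`-th powers
-/

set_option autoImplicit false
set_option linter.style.haveILetI false

universe u

open CategoryTheory MonoidalCategory CartesianMonoidalCategory AlgebraicGeometry TensorProduct WithConv
open scoped MonObj

noncomputable section

namespace Groth.Agent.AV.HopfFrobenius

variable {k : Type u} [Field k] {H : Type u} [CommRing H] [HopfAlgebra k H] [Coalgebra.IsCocomm k H]
  [Module.Finite k H] (p : ℕ) [Fact p.Prime] [CharP k p]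

/-- `[p]^*` has values in the span of `p`-th powers. -/
theorem id_pow_char_mem (x : H) :
    (toConv (AlgHom.id k H) ^ p : WithConv (H →ₐ[k] H)).ofConv x ∈
      Submodule.span k (Set.range fun y : H => y ^ p) := by
  classical
  haveI : Nontrivial H := RingHom.domain_nontrivial (Bialgebra.counitAlgHom k H).toRingHom
  haveI : CharP H p := charP_of_injective_algebraMap (algebraMap k H).injective p
  let E := WithConv (H →ₗ[k] H)
  have hinj : Function.Injective (algebraMap H E) := fun a b h => by
    have h0 : ∀ c, (algebraMap H E c).ofConv (1 : H) = c := fun c =>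
      (LinearMap.convAlgebraMap_apply c (1 : H)).trans (by simp)
    rw [← h0 a, ← h0 b, h]
  haveI : CharP E p := charP_of_injective_algebraMap (R := H) (A := E) hinj p
  haveI : ExpChar E p := ExpChar.prime Fact.out
  let b := Module.finBasis k H
  let D := Groth.L08.Deligne.dualToEnd (R := k) (A := H)
  have hid : toConv (AlgHom.id k H).toLinearMap = ∑ i, b i • D (toConv (b.coord i)) := by
    apply WithConv.ext
    refine b.ext fun j => ?_
    simp [D, Groth.L08.Deligne.dualToEnd, Finsupp.single_apply, Algebra.ofId_apply]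
  have hp : toConv (toConv (AlgHom.id k H) ^ p : WithConv (H →ₐ[k] H)).ofConv.toLinearMap =
      ∑ i, b i ^ p • D (toConv (b.coord i) ^ p) := by
    rw [AlgHom.toLinearMap_convPow]
    change toConv (AlgHom.id k H).toLinearMap ^ p = _
    rw [hid, sum_pow_char]
    exact Finset.sum_congr rfl fun i _ => by rw [smul_pow, map_pow]
  have hx := congrArg (fun f : E => f x) hp
  simp only [D, Groth.L08.Deligne.dualToEnd] at hx
  change (toConv (AlgHom.id k H) ^ p : WithConv (H →ₐ[k] H)).ofConv x = _ at hx
  rw [hx]
  simp only [WithConv.ofConv_sum, LinearMap.sum_apply]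
  refine Submodule.sum_mem _ fun i _ => ?_
  change b i ^ p * algebraMap k H _ ∈ _
  rw [mul_comm, ← Algebra.smul_def]
  exact Submodule.smul_mem _ _ (Submodule.subset_span ⟨b i, rfl⟩)

theorem id_pow_mul_char_mem (a : ℕ) (x : H) :
    (toConv (AlgHom.id k H) ^ p ^ a : WithConv (H →ₐ[k] H)).ofConv x ∈
      Submodule.span k (Set.range fun y : H => y ^ p ^ a) := by
  induction a generalizing x with
  | zero => exact Submodule.subset_span ⟨x, by simp⟩
  | succ a ih =>
    haveI : Nontrivial H := RingHom.domain_nontrivial (Bialgebra.counitAlgHom k H).toRingHom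
    haveI : CharP H p := charP_of_injective_algebraMap (algebraMap k H).injective p
    set f := (toConv (AlgHom.id k H) ^ p ^ a : WithConv (H →ₐ[k] H)) with hf
    have h1 : (f ^ p).ofConv = f.ofConv.comp (toConv (AlgHom.id k H) ^ p : WithConv (H →ₐ[k] H)).ofConv :=
      (congrArg WithConv.ofConv (map_pow (Groth.L08.Deligne.postH f.ofConv) (toConv (AlgHom.id k H)) p)).symm
    rw [pow_succ, pow_mul, ← hf, h1]
    have h2 := id_pow_char_mem (k := k) p x
    rw [AlgHom.comp_apply]
    generalize (toConv (AlgHom.id k H) ^ p : WithConv (H →ₐ[k] H)).ofConv x = z at h2 ⊢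
    induction h2 using Submodule.span_induction with
    | mem z hz =>
      obtain ⟨y, rfl⟩ := hz
      rw [map_pow]
      have h3 := ih y
      generalize f.ofConv y = z' at h3 ⊢
      induction h3 using Submodule.span_induction with
      | mem w hw =>
        obtain ⟨v, rfl⟩ := hw
        refine Submodule.subset_span ⟨v, ?_⟩
        show v ^ (p ^ a * p) = (v ^ p ^ a) ^ p
        rw [pow_mul]
      | zero => rw [zero_pow (Fact.out : p.Prime).ne_zero]; exact zero_mem _
      | add u v _ _ hu hv => rw [add_pow_char]; exact add_mem hu hv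
      | smul c u _ hu => rw [smul_pow]; exact Submodule.smul_mem _ _ hu
    | zero => rw [map_zero]; exact zero_mem _
    | add u v _ _ hu hv => rw [map_add]; exact add_mem hu hv
    | smul c u _ hu => rw [map_smul]; exact Submodule.smul_mem _ _ hu

/-- A finite commutative group of height at most `a` is killed by `p ^ a`. -/
theorem id_pow_eq_one (a : ℕ) (h : ∀ x : H, Bialgebra.counitAlgHom k H x = 0 → x ^ p ^ a = 0) :
    (toConv (AlgHom.id k H) ^ p ^ a : WithConv (H →ₐ[k] H)) = 1 := by
  haveI : Nontrivial H := RingHom.domain_nontrivial (Bialgebra.counitAlgHom k H).toRingHom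
  haveI : CharP H p := charP_of_injective_algebraMap (algebraMap k H).injective p
  let ε := Bialgebra.counitAlgHom k H
  set f := (toConv (AlgHom.id k H) ^ p ^ a : WithConv (H →ₐ[k] H)) with hf
  have hconst : ∀ z ∈ Submodule.span k (Set.range fun y : H => y ^ p ^ a), z = algebraMap k H (ε z) := by
    intro z hz
    induction hz using Submodule.span_induction with
    | mem z hz =>
      obtain ⟨y, rfl⟩ := hz
      have h0 := h (y - algebraMap k H (ε y)) (by simp [ε])
      rw [sub_pow_char_pow, sub_eq_zero, ← map_pow, ← map_pow ε] at h0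
      exact h0
    | zero => simp
    | add u v _ _ hu hv => rw [map_add, map_add, ← hu, ← hv]
    | smul c u _ hu => rw [map_smul, smul_eq_mul, map_mul, ← hu, ← Algebra.smul_def]
  apply WithConv.ext
  refine AlgHom.ext fun x => ?_
  rw [hconst _ (id_pow_mul_char_mem (k := k) p a x)]
  have hone : ∀ n : ℕ, ε.comp (toConv (AlgHom.id k H) ^ n : WithConv (H →ₐ[k] H)).ofConv = ε := by
    intro n
    have := congrArg WithConv.ofConv (map_pow (Groth.L08.Deligne.postH ε) (toConv (AlgHom.id k H)) n)
    refine this.trans ?_
    have h1 : Groth.L08.Deligne.postH ε (toConv (AlgHom.id k H)) = 1 :=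
      WithConv.ext (AlgHom.ext fun _ => rfl)
    rw [h1, one_pow]
    exact AlgHom.ext fun _ => rfl
  show algebraMap k H (ε (f.ofConv x)) = algebraMap k H (ε x)
  rw [show ε (f.ofConv x) = ε x from DFunLike.congr_fun (hone (p ^ a)) x]

omit [Coalgebra.IsCocomm k H] [Module.Finite k H] in
/-- A commutative group scheme has a cocommutative coordinate ring. -/
theorem isCocomm_of_isCommMonObj
    [IsCommMonObj ((Spec (CommRingCat.of H)).asOver (Spec (CommRingCat.of k)))] :
    Coalgebra.IsCocomm k H := by
  let L : WithConv (H →ₐ[k] H ⊗[k] H) := toConv (Algebra.TensorProduct.includeLeft : H →ₐ[k] H ⊗[k] H)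
  let Rr : WithConv (H →ₐ[k] H ⊗[k] H) := toConv (Algebra.TensorProduct.includeRight : H →ₐ[k] H ⊗[k] H)
  have h : L * Rr = Rr * L := Spec.mapMulEquiv.injective (by rw [map_mul, map_mul, mul_comm])
  constructor
  refine LinearMap.ext fun a => ?_
  have ha := congrArg (fun f : WithConv (H →ₐ[k] H ⊗[k] H) => f.ofConv a) h
  simp only [AlgHom.convMul_apply] at ha
  have e1 : ∀ z : H ⊗[k] H, Algebra.TensorProduct.lift L.ofConv Rr.ofConv (fun _ _ => Commute.all _ _) z = z := by
    intro z
    induction z using TensorProduct.induction_on with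
    | zero => simp
    | tmul x y => simp [L, Rr]
    | add x y hx hy => rw [map_add, hx, hy]
  have e2 : ∀ z : H ⊗[k] H, Algebra.TensorProduct.lift Rr.ofConv L.ofConv (fun _ _ => Commute.all _ _) z = TensorProduct.comm k H H z := by
    intro z
    induction z using TensorProduct.induction_on with
    | zero => simp
    | tmul x y => simp [L, Rr]
    | add x y hx hy => rw [map_add, map_add, hx, hy]
  rw [e1, e2] at ha
  exact ha.symm

/-- A finite commutative group scheme of height at most `a` is killed by `p ^ a`. -/
theorem id_pow_eq_one_spec (a : ℕ) (h : ∀ x : H, Bialgebra.counitAlgHom k H x = 0 → x ^ p ^ a = 0) :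
    (𝟙 ((Spec (CommRingCat.of H)).asOver (Spec (CommRingCat.of k))) : _ ⟶ _) ^ p ^ a = 1 := by
  have h' := congrArg (Spec.mapMulEquiv (R := k) (S := H) (T := H)) (id_pow_eq_one p a h)
  rw [map_pow, map_one] at h'
  convert h' using 2
  ext1
  show 𝟙 _ = Spec.map (CommRingCat.ofHom (AlgHom.id k H).toRingHom)
  exact (Spec.map_id _).symm

end Groth.Agent.AV.HopfFrobenius
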