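import Groth.Agent.L26.AV.HopfFrobenius
import Groth.Agent.L26.AV.Isogeny
import Groth.Agent.L00.IsogenyDual
import Groth.Agent.L08.MulEtale
import Mathlib.FieldTheory.Finite.Basic

/-!
# The Frobenius of an abelian variety over a finite field divides `q`
-/

set_option autoImplicit false
set_option linter.style.haveILetI false
set_option backward.isDefEq.respectTransparency.types false

universe u

open CategoryTheory CategoryTheory.Limits MonoidalCategory CartesianMonoidalCategory MonObj AlgebraicGeometry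

noncomputable section

namespace Groth.Agent.AV.FrobIsogeny

open Groth.L25.GrpDeriv Groth.L08.TangentUnit

/-- An isogeny whose kernel is killed by `n` divides `n`. -/
theorem exists_factor_of_kills {k : Type u} [Field k] {X Y : Over (Spec (CommRingCat.of k))}
    [GrpObj X] [IsCommMonObj X] [IsProper X.hom] [GeometricallyIntegral X.hom]
    [GrpObj Y] [IsProper Y.hom] [GeometricallyIntegral Y.hom]
    (f : X ⟶ Y) [IsMonHom f] [IsFinite f.left] [Flat f.left] [Surjective f.left] (n : ℕ)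
    (hkill : ∀ (T : Over (Spec (CommRingCat.of k))) (x : T ⟶ X), x ≫ f = 1 → x ^ n = 1) :
    ∃ g : Y ⟶ X, IsMonHom g ∧ f ≫ g = 𝟙 X ^ n ∧ g ≫ f = 𝟙 Y ^ n := by
  haveI : Epi f := Over.epi_of_epi_left f
  let r : Y.left ⟶ X.left := EffectiveEpi.desc f.left (𝟙 X ^ n).left fun {W} g₁ g₂ hg => by
    let T : Over (Spec (CommRingCat.of k)) := Over.mk (g₁ ≫ X.hom)
    have hg₂ : g₂ ≫ X.hom = g₁ ≫ X.hom := by rw [← Over.w f, reassoc_of% hg]
    let a : T ⟶ X := Over.homMk g₁ rfl
    let b : T ⟶ X := Over.homMk g₂ hg₂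
    have hab : a ≫ f = b ≫ f := Over.OverMorphism.ext hg
    have h := hkill T (a * b⁻¹) (by rw [MonObj.mul_comp, GrpObj.inv_comp, hab, mul_inv_cancel])
    rw [mul_pow, inv_pow, mul_inv_eq_one] at h
    have h' : a ≫ (𝟙 X ^ n) = b ≫ (𝟙 X ^ n) := by
      rw [MonObj.comp_pow, MonObj.comp_pow, Category.comp_id, Category.comp_id, h]
    exact congrArg CommaMorphism.left h'
  have hr : f.left ≫ r = (𝟙 X ^ n).left := EffectiveEpi.fac _ _ _
  let g : Y ⟶ X := Over.homMk r (by rw [← cancel_epi f.left, reassoc_of% hr, Over.w, Over.w])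
  have hg : f ≫ g = 𝟙 X ^ n := Over.OverMorphism.ext hr
  have hone : η[Y] ≫ g = η[X] := by
    rw [← IsMonHom.one_hom (f := f), Category.assoc, hg, MonObj.comp_pow, Category.comp_id]
    rw [show η[X] = (1 : 𝟙_ (Over (Spec (CommRingCat.of k))) ⟶ X) by
      rw [Hom.one_def, toUnit_unit, Category.id_comp], one_pow]
  refine ⟨g, Groth.Agent.AV.isMonHom_of_one g hone, hg, ?_⟩
  rw [← cancel_epi f, ← Category.assoc, hg, MonObj.pow_comp, Category.id_comp, MonObj.comp_pow, Category.comp_id]

theorem isAffineHom_of_base_id {X : Scheme.{u}} (π : X ⟶ X) (hπb : π.base = 𝟙 _) : IsAffineHom π := ⟨fun U hU => by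
  rwa [show π ⁻¹ᵁ U = U from TopologicalSpace.Opens.ext (Set.ext fun x => by
    show π.base x ∈ (U : Set X) ↔ x ∈ (U : Set X)
    rw [hπb]
    rfl)]⟩

variable {k : Type u} [Field k] [Finite k] {X : Over (Spec (CommRingCat.of k))} [GrpObj X] [IsCommMonObj X]
  [IsProper X.hom] [GeometricallyIntegral X.hom] (π : X ⟶ X) [IsMonHom π] (hπb : π.left.base = 𝟙 _)
  (hπle : ∀ U : X.left.Opens, U ≤ π.left ⁻¹ᵁ U)
  (hπapp : ∀ (U : X.left.Opens) (s : Γ(X.left, U)), (π.left.appLE U U (hπle U)).hom s = s ^ Nat.card k)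

include hπb in
theorem base_eq (x : X.left) : π.left x = x := by
  show π.left.base x = x
  rw [hπb]
  rfl

include hπb in
/-- The Frobenius is an isogeny. -/
theorem isogeny : IsFinite π.left ∧ Flat π.left ∧ Surjective π.left := by
  haveI : IsProper (π.left ≫ X.hom) := by rw [Over.w]; infer_instance
  haveI : IsProper π.left := IsProper.of_comp _ X.hom
  haveI : LocallyQuasiFinite π.left := LocallyQuasiFinite.of_finite_preimage_singleton _ fun x =>
    (Set.finite_singleton x).subset fun y hy => by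
      rw [Set.mem_preimage, Set.mem_singleton_iff, base_eq π hπb] at hy
      exact hy
  haveI : Surjective π.left := ⟨fun x => ⟨x, base_eq π hπb x⟩⟩
  haveI : GeometricallyReduced X.hom := inferInstance
  exact ⟨IsFinite.of_isProper_of_locallyQuasiFinite _,
    (Groth.L08.FlatHom.flat_of_surjective_fibres X X π).1, inferInstance⟩

include hπb hπapp in
/-- On a chart the Frobenius is the `q`-th power. -/
theorem exists_chart_frobenius {B : Type u} [CommRing B] [Algebra k B] (uB : sp (K := k) B ⟶ X)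
    [IsOpenImmersion uB.left] :
    ∃ ψ : B →ₐ[k] B, spMap ψ ≫ uB = uB ≫ π ∧ ∀ b, ψ b = b ^ Nat.card k := by
  obtain ⟨ψ, hψ⟩ := exists_lift (u' := uB) (uB ≫ π) (by
    rintro _ ⟨c, rfl⟩
    exact ⟨c, (base_eq π hπb _).symm⟩)
  refine ⟨ψ, hψ, fun b => ?_⟩
  let j : Spec (CommRingCat.of B) ⟶ X.left := uB.left
  haveI : IsOpenImmersion j := ‹IsOpenImmersion uB.left›
  let U := j.opensRange
  have hjU : (⊤ : (Spec (CommRingCat.of B)).Opens) ≤ j ⁻¹ᵁ U := fun x _ => ⟨x, rfl⟩
  let S := Spec.map (CommRingCat.ofHom ψ.toRingHom)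
  have hS : S ≫ j = j ≫ π.left := congrArg (fun f => f.left) hψ
  haveI : IsIso (j.appLE U ⊤ hjU) := by
    rw [Scheme.Hom.appLE]
    haveI : IsIso (j.app U) := j.isIso_app U le_rfl
    have : j ⁻¹ᵁ U = ⊤ := top_le_iff.1 hjU
    haveI : IsIso (homOfLE hjU) := by
      exact ⟨homOfLE this.le, Subsingleton.elim _ _, Subsingleton.elim _ _⟩
    infer_instance
  have key : ∀ y : Γ(Spec (CommRingCat.of B), ⊤), S.appTop y = y ^ Nat.card k := by
    intro y
    obtain ⟨s, rfl⟩ := (ConcreteCategory.bijective_of_isIso (j.appLE U ⊤ hjU)).2 y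
    have hl : S.appLE ⊤ ⊤ le_rfl = S.appTop := S.appLE_eq_app
    have e1 := Scheme.Hom.appLE_comp_appLE S j U ⊤ ⊤ hjU le_rfl
    have e2 := Scheme.Hom.appLE_comp_appLE j π.left U U ⊤ (hπle U) hjU
    have e3 : j.appLE U ⊤ hjU ≫ S.appLE ⊤ ⊤ le_rfl = π.left.appLE U U (hπle U) ≫ j.appLE U ⊤ hjU := by
      rw [e1, e2]
      simp only [hS]
    rw [hl] at e3
    have h := ConcreteCategory.congr_hom e3 s
    rw [CommRingCat.comp_apply, CommRingCat.comp_apply] at h
    refine h.trans ?_
    erw [hπapp U s]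
    exact map_pow _ s _
  let e := Scheme.ΓSpecIso (CommRingCat.of B)
  have h1 := ConcreteCategory.congr_hom (Scheme.ΓSpecIso_inv_naturality (CommRingCat.ofHom ψ.toRingHom)) b
  rw [CommRingCat.comp_apply, CommRingCat.comp_apply] at h1
  have h2 := key (e.inv b)
  rw [← map_pow] at h2
  exact (ConcreteCategory.bijective_of_isIso e.inv).1 (h1.trans h2)

include hπb hπapp in
/-- The kernel of Frobenius is killed by `q`. -/
theorem pow_eq_one_of_comp (T : Over (Spec (CommRingCat.of k))) (x : T ⟶ X) (hx : x ≫ π = 1) :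
    x ^ Nat.card k = 1 := by
  obtain ⟨_, _, _⟩ := isogeny π hπb
  let P := pullback π η[X]
  let j : P ⟶ X := pullback.fst π η[X]
  haveI : Mono η[X] := (IsSplitMono.mk' ⟨toUnit X, toUnit_unique _ _⟩).mono
  haveI : Mono j := inferInstanceAs (Mono (pullback.fst π η[X]))
  have hsql := (IsPullback.of_hasPullback π η[X]).map (Over.forget _)
  haveI : IsIso (𝟙_ (Over (Spec (CommRingCat.of k)))).hom := inferInstanceAs (IsIso (𝟙 _))
  haveI : IsFinite (pullback.snd π η[X]).left :=
    MorphismProperty.of_isPullback hsql ‹IsFinite π.left›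
  haveI : IsFinite P.hom := by
    rw [← Over.w (pullback.snd π η[X])]
    infer_instance
  have hj : j ≫ π = 1 := by
    rw [pullback.condition, Hom.one_def, toUnit_unique (toUnit P) (pullback.snd π η[X])]
  have hlift : ∀ {T : Over (Spec (CommRingCat.of k))} (f : T ⟶ X), f ≫ π = 1 → ∃ z : T ⟶ P, z ≫ j = f :=
    fun {T} f hf => ⟨pullback.lift f (toUnit T) (by rw [hf, Hom.one_def]), pullback.lift_fst _ _ _⟩
  obtain ⟨gP, hjm⟩ := Groth.L08.exists_grpObj_of_mono j
    (hlift η[X] (by rw [IsMonHom.one_hom, Hom.one_def, toUnit_unit, Category.id_comp]))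
    (hlift _ (by rw [MonObj.mul_comp, Category.assoc, Category.assoc, hj, MonObj.comp_one, MonObj.comp_one,
      _root_.one_mul]))
    (hlift _ (by rw [GrpObj.inv_comp, hj, inv_one]))
  letI := gP
  haveI : IsCommMonObj P := ⟨by
    rw [← cancel_mono j, Category.assoc, IsMonHom.mul_hom, ← Category.assoc,
      ← BraidedCategory.braiding_naturality, Category.assoc, IsCommMonObj.mul_comm]⟩
  haveI : IsAffine P.left := isAffine_of_isAffineHom P.hom
  obtain ⟨H', ⟨e⟩⟩ := (essImage_hopfSpec (G := Grp.mk P)).mpr ‹IsAffine P.left›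
  let H : Type u := H'.unop
  let X' := (Spec (CommRingCat.of H)).asOver (Spec (CommRingCat.of k))
  let φ : X' ⟶ P := e.hom.hom.hom
  let ψ : P ⟶ X' := e.inv.hom.hom
  have hφψ : φ ≫ ψ = 𝟙 X' := congrArg (fun f => f.hom.hom) e.hom_inv_id
  have hψφ : ψ ≫ φ = 𝟙 P := congrArg (fun f => f.hom.hom) e.inv_hom_id
  haveI : IsMonHom φ := e.hom.hom.isMonHom_hom
  haveI : IsIso φ := ⟨ψ, hφψ, hψφ⟩
  haveI : IsCommMonObj X' := ⟨by
    rw [← cancel_mono φ, Category.assoc, IsMonHom.mul_hom, ← Category.assoc,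
      ← BraidedCategory.braiding_naturality, Category.assoc, IsCommMonObj.mul_comm]⟩
  haveI : Coalgebra.IsCocomm k H := HopfFrobenius.isCocomm_of_isCommMonObj
  let φl : Spec (CommRingCat.of H) ⟶ P.left := φ.left
  haveI : IsIso φl := inferInstanceAs (IsIso ((Over.forget _).map φ))
  have hw : φl ≫ P.hom = Spec.map (CommRingCat.ofHom (algebraMap k H)) := Over.w φ
  haveI hf : IsFinite (Spec.map (CommRingCat.ofHom (algebraMap k H))) := hw ▸ inferInstance
  haveI : Module.Finite k H := RingHom.finite_algebraMap.mp ((IsFinite.SpecMap_iff _).mp hf)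
  let i : sp (K := k) H ⟶ X := φ ≫ j
  have hi : i ≫ π = 1 := by
    show (φ ≫ j) ≫ π = 1
    rw [Category.assoc, hj, MonObj.comp_one]
  obtain ⟨B, _, _, uB, _, χ, hχ, -⟩ := Groth.L08.MulEtale.exists_chart (G := X) ⊤ trivial
  obtain ⟨ρ, hρ⟩ := exists_lift (u' := uB) i (by
    rintro _ ⟨c, rfl⟩
    rw [show i.left c = (i ≫ π).left c from (base_eq π hπb _).symm, hi, Groth.L25.Translate.one_left_apply]
    exact Groth.L08.MulEtale.one_mem_range uB χ hχ)
  obtain ⟨F, hF, hFb⟩ := exists_chart_frobenius π hπb hπle hπapp uB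
  have hρF : ρ.comp F = (Algebra.ofId k H).comp χ := by
    refine spMap_inj (u' := uB) _ _ ?_
    rw [← spMap_comp, Category.assoc, hF, ← Category.assoc, hρ, hi, ← spMap_comp, Category.assoc, hχ,
      MonObj.comp_one]
  have hρs : Function.Surjective ρ := by
    let g : Spec (CommRingCat.of H) ⟶ Spec (CommRingCat.of B) := Spec.map (CommRingCat.ofHom ρ.toRingHom)
    let jB : Spec (CommRingCat.of B) ⟶ X.left := uB.left
    let jP : P.left ⟶ X.left := j.left
    haveI : IsClosedImmersion η[X].left :=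
      isClosedImmersion_of_comp_eq_id (Y := Spec (CommRingCat.of k)) X.hom η[X].left (Over.w η[X])
    haveI : IsClosedImmersion jP := MorphismProperty.of_isPullback hsql.flip ‹IsClosedImmersion η[X].left›
    haveI : IsClosedImmersion (g ≫ jB) := by
      rw [show g ≫ jB = φl ≫ jP from congrArg (fun f => f.left) hρ]
      infer_instance
    haveI : IsSeparated jB := inferInstance
    haveI : IsClosedImmersion g := IsClosedImmersion.of_comp g jB
    obtain ⟨-, h⟩ := IsClosedImmersion.isAffine_surjective_of_isAffine g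
    intro y
    obtain ⟨z, hz⟩ := h ((Scheme.ΓSpecIso (CommRingCat.of H)).inv y)
    refine ⟨(Scheme.ΓSpecIso (CommRingCat.of B)).hom z, ?_⟩
    have h1 := ConcreteCategory.congr_hom (Scheme.ΓSpecIso_naturality (CommRingCat.ofHom ρ.toRingHom)) z
    rw [CommRingCat.comp_apply, CommRingCat.comp_apply, hz, Iso.inv_hom_id_apply] at h1
    exact h1.symm
  have hε : (Bialgebra.counitAlgHom k H).comp ρ = χ := by
    refine spMap_inj (u' := uB) _ _ ?_
    rw [← spMap_comp, Category.assoc, hρ, hχ]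
    have h0 : η[X'] ≫ φ ≫ j = η[X] := by rw [← Category.assoc, IsMonHom.one_hom, IsMonHom.one_hom]
    refine Over.OverMorphism.ext ?_
    rw [Hom.one_def, Over.comp_left]
    have h1 := congrArg (fun f => f.left) h0
    have h2 : (toUnit (sp (K := k) k)).left = 𝟙 _ := by
      have h3 := Over.w (toUnit (sp (K := k) k))
      refine (Category.comp_id _).symm.trans (h3.trans ?_)
      show Spec.map (CommRingCat.ofHom (algebraMap k k)) = _
      exact Spec.map_id _
    refine Eq.trans ?_ (congrArg (· ≫ η[X].left) h2).symm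
    erw [Category.id_comp]
    exact h1
  obtain ⟨p, hchar⟩ := CharP.exists k
  haveI := hchar
  haveI : Fintype k := Fintype.ofFinite k
  obtain ⟨n, hp, hq⟩ := FiniteField.card k p
  haveI : Fact p.Prime := ⟨hp⟩
  have hh : ∀ y : H, Bialgebra.counitAlgHom k H y = 0 → y ^ p ^ (n : ℕ) = 0 := by
    intro y hy
    obtain ⟨b, rfl⟩ := hρs y
    rw [← AlgHom.comp_apply, hε] at hy
    rw [← map_pow, ← hq, ← Nat.card_eq_fintype_card, ← hFb b, ← AlgHom.comp_apply, hρF, AlgHom.comp_apply, hy,
      map_zero]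
  have hkill := HopfFrobenius.id_pow_eq_one_spec (k := k) (H := H) p n hh
  rw [← hq, ← Nat.card_eq_fintype_card] at hkill
  obtain ⟨z, hz⟩ := hlift x hx
  rw [← hz, ← MonObj.pow_comp]
  have : z ^ Nat.card k = 1 := by
    calc z ^ Nat.card k = ((z ≫ ψ) ≫ (𝟙 X' : X' ⟶ X') ^ Nat.card k) ≫ φ := by
          rw [MonObj.comp_pow, Category.comp_id, MonObj.pow_comp, Category.assoc, hψφ, Category.comp_id]
      _ = 1 := by rw [hkill, MonObj.comp_one, MonObj.one_comp]
  rw [this, MonObj.one_comp]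

end Groth.Agent.AV.FrobIsogeny
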