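import Groth.Agent.L22.Inter.PullNum
import Groth.Agent.L08.Cube.NPull
import Groth.Prelude.Def_PicGrp
import Mathlib.LinearAlgebra.Multilinear.Basic

/-!
# Intersection numbers as a multilinear form on the Picard group
-/

set_option autoImplicit false
set_option linter.style.haveILetI false
set_option linter.unusedSectionVars false
set_option backward.isDefEq.respectTransparency false

universe u

open CategoryTheory CategoryTheory.Limits AlgebraicGeometry

noncomputable section

namespace Groth.Agent.AV.InterPic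

open Groth.L22.Inter Groth.L03.Euler Groth.Agent.AbDualLib

attribute [local instance] Groth.L08.Cube.clMonoid

variable {X : Scheme.{u}}

theorem isInvertibleCl_one : PicF.IsInvertibleCl (1 : PicF.Cl X) :=
  ⟨_, rfl, Groth.L18.Ample.isInvertible_structureModule X⟩

theorem isInvertibleCl_inverse (a : PicLoc.PicSet X) : ∃ b : PicLoc.PicSet X, a.1 * b.1 = 1 := by
  obtain ⟨b, hb, h⟩ := Groth.L08.Cube.exists_inverseCl a.2
  exact ⟨⟨b, hb⟩, h⟩

/-- The group structure on the Picard set. -/
@[reducible] def picGroup (X : Scheme.{u}) : CommGroup (PicLoc.PicSet X) where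
  mul a b := ⟨a.1 * b.1, isInvertibleCl_mulCl a.2 b.2⟩
  mul_assoc _ _ _ := Subtype.ext (mul_assoc _ _ _)
  mul_comm _ _ := Subtype.ext (mul_comm _ _)
  one := ⟨1, isInvertibleCl_one⟩
  one_mul _ := Subtype.ext (one_mul _)
  mul_one _ := Subtype.ext (mul_one _)
  inv a := (isInvertibleCl_inverse a).choose
  inv_mul_cancel a := Subtype.ext ((mul_comm _ _).trans (isInvertibleCl_inverse a).choose_spec)

/-- The group law of the Picard group. -/
@[reducible] def picLaw (X : Scheme.{u}) : PicGrp.Law X :=
  { picGroup X with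
    mul_val := fun _ _ => rfl
    one_eq := rfl }

attribute [local instance] picLaw

theorem pullMul {Y : Scheme.{u}} (f : X ⟶ Y) : PicGrp.PullMul f := fun a b _ _ => pullCl_mulCl f a b

/-- Pullback on Picard groups. -/
def pullPic {Y : Scheme.{u}} (f : X ⟶ Y) : PicLoc.PicSet Y →* PicLoc.PicSet X :=
  PicGrp.pullHom f (pullMul f)

@[simp] theorem pullPic_val {Y : Scheme.{u}} (f : X ⟶ Y) (a : PicLoc.PicSet Y) :
    (pullPic f a).1 = PicF.pullCl f a.1 := rfl

/-- A representing module of a class. -/
def rep (a : PicLoc.PicSet X) : X.Modules := a.2.choose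

theorem cl_rep (a : PicLoc.PicSet X) : PicF.cl (rep a) = a.1 := a.2.choose_spec.1

theorem isInvertible_rep (a : PicLoc.PicSet X) : PicF.IsInvertible (rep a) := a.2.choose_spec.2

theorem cl_tensorPows : ∀ {r : ℕ} (L : Fin r → X.Modules) (n : Fin r → ℕ),
    PicF.cl (Curv2.tensorPows (Coh.structureModule X) r L n) = ∏ i, PicF.cl (L i) ^ n i
  | 0, _, _ => by
    rw [Finset.univ_eq_empty, Finset.prod_empty]
    rfl
  | r + 1, L, n => by
    rw [Fin.prod_univ_castSucc, ← cl_tensorPows (fun i => L i.castSucc) (fun i => n i.castSucc),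
      ← Groth.L08.Cube.cl_tensorPow]
    rfl

variable (k : Type u) [Field k] [X.Over (Spec (CommRingCat.of k))]

theorem twEuler_congr {r : ℕ} {L L' : Fin r → X.Modules} {n n' : Fin r → ℕ} (F : X.Modules)
    (h : ∏ i, PicF.cl (L i) ^ n i = ∏ i, PicF.cl (L' i) ^ n' i) :
    twEuler k L F n = twEuler k L' F n' := by
  rw [← cl_tensorPows, ← cl_tensorPows] at h
  obtain ⟨e⟩ := (PicGrp.cl_eq_cl_iff _ _).1 h
  exact congrArg (Int.cast : ℤ → ℚ) (euler_iso (Groth.L00.Tensor.tensorIso (Iso.refl F) e))

theorem altT_congr {r : ℕ} {L L' : Fin r → X.Modules} (F : X.Modules)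
    (h : ∀ i, PicF.cl (L i) = PicF.cl (L' i)) : altT k L F = altT k L' F := by
  rw [altT, altT]
  congr 1
  funext n
  exact twEuler_congr k F (Finset.prod_congr rfl fun i _ => by rw [h i])

theorem altT_perm {r : ℕ} (L : Fin r → X.Modules) (σ : Equiv.Perm (Fin r)) (F : X.Modules) :
    altT k (fun i => L (σ i)) F = altT k L F := by
  rw [altT, altT, alt_apply, alt_apply]
  refine Fintype.sum_equiv (Equiv.arrowCongr σ (Equiv.refl (Fin 2))) _ _ fun v => ?_
  have e1 : sgn (Equiv.arrowCongr σ (Equiv.refl (Fin 2)) v) = sgn v := by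
    unfold sgn
    exact (Fintype.prod_equiv σ _ _ fun i => by simp [Equiv.arrowCongr]).symm
  rw [e1]
  congr 1
  refine twEuler_congr k F (Fintype.prod_equiv σ _ _ fun i => ?_)
  simp [Equiv.arrowCongr]

variable [IsProper (X ↘ Spec (CommRingCat.of k))]

/-- The intersection number of classes. -/
def interFun {d : ℕ} (u : Fin d → Additive (PicLoc.PicSet X)) : ℚ :=
  altT k (fun i => rep (u i).toMul) (Coh.structureModule X)

theorem interFun_eq {d : ℕ} {u : Fin d → Additive (PicLoc.PicSet X)} (L : Fin d → X.Modules)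
    (h : ∀ i, PicF.cl (L i) = (u i).toMul.1) :
    interFun k u = altT k L (Coh.structureModule X) :=
  altT_congr k _ fun i => (cl_rep _).trans (h i).symm

variable {d : ℕ} (hd : topologicalKrullDim X ≤ d)
include hd

theorem interFun_update_add (u : Fin d → Additive (PicLoc.PicSet X)) (j : Fin d)
    (a b : Additive (PicLoc.PicSet X)) :
    interFun k (Function.update u j (a + b)) =
      interFun k (Function.update u j a) + interFun k (Function.update u j b) := by
  haveI : IsLocallyNoetherian X := LocallyOfFiniteType.isLocallyNoetherian (X ↘ Spec (CommRingCat.of k))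
  obtain ⟨r, rfl⟩ : ∃ r, d = r + 1 := ⟨d - 1, by have := j.isLt; omega⟩
  let σ : Equiv.Perm (Fin (r + 1)) := Equiv.swap 0 j
  let T : Fin r → X.Modules := fun i => rep (u (σ i.succ)).toMul
  have key : ∀ (c : Additive (PicLoc.PicSet X)) (C : X.Modules), PicF.cl C = c.toMul.1 →
      interFun k (Function.update u j c) = altT k (Fin.cons C T) (Coh.structureModule X) := by
    intro c C hC
    rw [interFun, ← altT_perm k _ σ]
    refine altT_congr k _ fun i => ?_
    refine Fin.cases ?_ (fun i => ?_) i
    · rw [Fin.cons_zero, cl_rep, hC]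
      simp [σ]
    · rw [Fin.cons_succ, cl_rep, Function.update_of_ne, cl_rep]
      intro h
      have h' : σ i.succ = σ 0 := h.trans (Equiv.swap_apply_left 0 j).symm
      exact Fin.succ_ne_zero i (σ.injective h')
  rw [key (a + b) (CohB1.tensorMod (rep a.toMul) (rep b.toMul)) (by
      rw [← PicGrp.mulCl_cl, cl_rep, cl_rep]; rfl),
    key a (rep a.toMul) (cl_rep _), key b (rep b.toMul) (cl_rep _)]
  refine altT_add k (fun i => isInvertible_rep _) (isInvertible_rep _) (isInvertible_rep _)
    Groth.L16.CohClosedPush.isCoh_structure ?_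
  exact (topologicalKrullDim_subspace_le _ _).trans hd

/-- The intersection form. -/
def inter : MultilinearMap ℤ (fun _ : Fin d => Additive (PicLoc.PicSet X)) ℚ :=
  MultilinearMap.mk' (interFun k) (fun u j a b => interFun_update_add k hd u j a b) fun u j c a =>
    (AddMonoidHom.map_zsmul
      (AddMonoidHom.mk' (fun z => interFun k (Function.update u j z)) fun a b => interFun_update_add k hd u j a b)
      c a)

theorem inter_apply (u : Fin d → Additive (PicLoc.PicSet X)) : inter k hd u = interFun k u := rfl

/-- Expansion of the self intersection of a combination. -/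
theorem inter_sum {ι : Type*} [Fintype ι] [DecidableEq ι] (m : ι → ℤ) (c : ι → Additive (PicLoc.PicSet X)) :
    inter k hd (fun _ => ∑ t, m t • c t) =
      ∑ r : Fin d → ι, (∏ i, (m (r i) : ℚ)) * inter k hd (fun i => c (r i)) := by
  rw [MultilinearMap.map_sum]
  refine Finset.sum_congr rfl fun r _ => ?_
  rw [MultilinearMap.map_smul_univ, zsmul_eq_mul]
  push_cast
  rfl

/-- Self intersection of a multiple. -/
theorem inter_zsmul (N : ℤ) (c : Additive (PicLoc.PicSet X)) :
    inter k hd (fun _ => N • c) = (N : ℚ) ^ d * inter k hd (fun _ => c) := by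
  rw [MultilinearMap.map_smul_univ, zsmul_eq_mul, Finset.prod_const, Finset.card_univ, Fintype.card_fin]
  push_cast
  rfl

end Groth.Agent.AV.InterPic
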