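import Groth.Agent.L22.Inter.Mixed
import Groth.Agent.L26.AV.InterPic
import Groth.Agent.L22.Inter.PullNum
import Groth.Agent.L18.AmplePull

/-!
# Positivity of the intersection of a pulled back ample class with ample classes
-/

set_option autoImplicit false
universe u

open CategoryTheory CategoryTheory.Limits AlgebraicGeometry TopologicalSpace

noncomputable section

namespace Groth.Agent.AV.PullAmplePos

open Groth.L22.Inter Groth.L03.Euler Groth.L16

variable (k : Type u) [Field k] {X : Scheme.{u}} [X.Over (Spec (CommRingCat.of k))]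
  [IsProper (X ↘ Spec (CommRingCat.of k))]

/-- The step of the induction. -/
theorem exists_drop_of_section {y : X} {r : ℕ} (hy : topologicalKrullDim (closure ({y} : Set X)) = (r + 1 : ℕ))
    {L : X.Modules} (hL : PicF.IsInvertible L) {n : ℕ} (s : Coh.structureModule X ⟶ CohB1.tensorPow L (n + 1))
    (hys : y ∈ CohB1.genLocus _ s) (hvan : ∃ z ∈ closure ({y} : Set X), z ∉ CohB1.genLocus _ s) :
    ∃ (N : ℕ) (Q : X.Modules), 0 < N ∧ Coh.IsCoh Q ∧ topologicalKrullDim (CohB1.support Q) = (r : WithBot ℕ∞) ∧
      ∀ (L' : Fin r → X.Modules), (∀ i, PicF.IsInvertible (L' i)) →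
        altT k L' Q = (N : ℚ) * altT k (Fin.cons L L') (ClSub.quotMod (pt y)) := by
  haveI := Groth.L21.RR.isNoetherian_of_proper (X := X) k
  haveI : X.IsSeparated := ⟨by rw [← terminal.comp_from (X ↘ Spec (CommRingCat.of k))]; infer_instance⟩
  let i := (pt y).subschemeι
  let G := ClSub.quotMod (pt y)
  obtain ⟨hG, hsG, hlG⟩ := pt_facts y
  haveI := isIntegral_pt y
  haveI : IsLocallyNoetherian (pt y).subscheme := LocallyOfFiniteType.isLocallyNoetherian i
  have hyG : y ∈ CohB1.support G := fun h => by
    rw [(CohSupport.len_eq_zero_iff y G).2 fun h' => h' h] at hlG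
    exact zero_ne_one hlG
  have hsG' : CohB1.support G = closure {y} :=
    hsG.antisymm (closure_minimal (Set.singleton_subset_iff.2 hyG) (CohSupport.isClosed_support _ hG.2))
  have hN : PicF.IsInvertible (CohB1.tensorPow L (n + 1)) := Groth.L18.Ample.isInvertible_tensorPow hL _
  let μ := mulSection G s
  haveI : Mono μ := CohClosedPush.mono_of_injective_generic i μ
    (bijective_mulSection G s (by
      show i (genericPoint (pt y).subscheme) ∈ CohB1.genLocus _ s
      rw [genericPoint_pt]
      exact hys)).1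
  have hGN := isCoh_tensor hN hG
  haveI : Coh.IsQCoh (CohB1.tensorMod G (CohB1.tensorPow L (n + 1))) := hGN.1
  have hkc := CohKernel.isCoh_kernel_cokernel hG hGN μ
  have hsQ := support_cokernel_mulSection hG hN s
  rw [hsG'] at hsQ
  have hne : (CohB1.support (cokernel μ)).Nonempty := by
    rw [hsQ]
    exact hvan
  obtain ⟨z, hz, hmax⟩ := Devissage.exists_maximal_point (CohSupport.isClosed_support _ hkc.2.2) hne
  have hz' := hz
  rw [hsQ] at hz'
  obtain ⟨m, hm, hm'⟩ := dim_closure_eq_add_one k hN s hys hz'.1 hz'.2 fun w hyw hws hwz =>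
    hmax w (hsQ.ge ⟨hyw.mem_closure, hws⟩) hwz
  have hmr : m = r := by
    rw [hy] at hm'
    have h1 : r + 1 = m + 1 := by exact_mod_cast hm'
    omega
  subst hmr
  have hQd : topologicalKrullDim (CohB1.support (cokernel μ)) + 1 ≤ ((m + 1 : ℕ) : WithBot ℕ∞) := by
    refine le_trans (topologicalKrullDim_add_one_le (CohSupport.isClosed_support _ hkc.2.2)
      isIrreducible_singleton.closure (hsQ.le.trans Set.sdiff_subset) fun he => ?_) hy.le
    have : y ∈ CohB1.support (cokernel μ) := he ▸ subset_closure rfl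
    rw [hsQ] at this
    exact this.2 hys
  have hQle : topologicalKrullDim (CohB1.support (cokernel μ)) ≤ (m : WithBot ℕ∞) := by
    generalize topologicalKrullDim (CohB1.support (cokernel μ)) = t at hQd
    induction t using WithBot.recBotCoe with
    | bot => exact bot_le
    | coe t =>
      change ((t + 1 : ℕ∞) : WithBot ℕ∞) ≤ (((m + 1 : ℕ) : ℕ∞) : WithBot ℕ∞) at hQd
      rw [WithBot.coe_le_coe, Nat.cast_add, Nat.cast_one,
        ENat.add_le_add_iff_right (by simp)] at hQd
      exact WithBot.coe_le_coe.2 hQd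
  have hQeq : topologicalKrullDim (CohB1.support (cokernel μ)) = (m : WithBot ℕ∞) :=
    le_antisymm hQle (hm ▸ topologicalKrullDim_set_mono
      (closure_minimal (Set.singleton_subset_iff.2 hz) (CohSupport.isClosed_support _ hkc.2.2)))
  refine ⟨n + 1, cokernel μ, Nat.succ_pos _, hkc.2, hQeq, fun L' hL' => ?_⟩
  have hker : altT k L' (kernel μ) = 0 := by
    rw [altT, twEuler_of_isZero k hL' (isZero_kernel_of_mono μ), map_zero]
  have hmap := altT_map k hL' hG hGN μ
  rw [hker] at hmap
  rw [← altT_pow k hL' hL hG ((topologicalKrullDim_set_mono hsG).trans hy.le) (n + 1), altT_cons]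
  linarith

/-- The pullback of an ample class by a surjection onto a positive dimensional scheme meets ample classes
positively. -/
theorem altT_cons_pullback_pos [IsIntegral X] {Y : Scheme.{u}} [IsIntegral Y] [Y.Over (Spec (CommRingCat.of k))]
    [IsProper (Y ↘ Spec (CommRingCat.of k))] [Nontrivial Y] (f : X ⟶ Y) (hf : Function.Surjective f) {r : ℕ}
    (hd : topologicalKrullDim X = (r + 1 : ℕ)) {L : Y.Modules} (hL : CohB1.IsAmple L)
    {H : X.Modules} (hH : CohB1.IsAmple H) :
    0 < altT k (Fin.cons ((Scheme.Modules.pullback f).obj L) fun _ : Fin r => H) (Coh.structureModule X) := by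
  haveI := Groth.L21.RR.isNoetherian_of_proper (X := X) k
  let ξ := genericPoint X
  let M := (Scheme.Modules.pullback f).obj L
  have hM : PicF.IsInvertible M := Groth.L18.Ample.isInvertible_pullback f hL.1
  obtain ⟨n, s, hys, hsaff⟩ := hL.2.2 (f ξ)
  obtain ⟨s', hs'⟩ := Groth.L18.Ample.exists_pull_pow f hL.1 s
  have hcl : closure ({ξ} : Set X) = Set.univ := (genericPoint_spec X).def
  have hy : topologicalKrullDim (closure ({ξ} : Set X)) = (r + 1 : ℕ) := by
    rw [hcl, IsHomeomorph.topologicalKrullDim_eq _ (Homeomorph.Set.univ X).isHomeomorph, hd]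
  have hξs : ξ ∈ CohB1.genLocus _ s' := by rw [hs']; exact hys
  have hvan : ∃ z ∈ closure ({ξ} : Set X), z ∉ CohB1.genLocus _ s' := by
    by_contra hno
    push Not at hno
    have htop : CohB1.genLocus (CohB1.tensorPow L (n + 1)) s = ⊤ := top_le_iff.1 fun y _ => by
      obtain ⟨x, rfl⟩ := hf y
      have := hno x (hcl ▸ trivial)
      rwa [hs'] at this
    have hA : IsAffineOpen (⊤ : Y.Opens) := htop ▸ hsaff
    haveI : IsAffine Y := IsAffine.of_isIso (Scheme.topIso Y).inv (h := hA)
    haveI := subsingleton_of_proper_affine k Y (Y ↘ Spec (CommRingCat.of k))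
    exact false_of_nontrivial_of_subsingleton Y
  obtain ⟨N, Q, hN, hQ, hQd, hQeq⟩ := exists_drop_of_section k hy hM s' hξs hvan
  have hHi : ∀ _ : Fin r, PicF.IsInvertible H := fun _ => hH.1
  haveI : IsLocallyNoetherian X := LocallyOfFiniteType.isLocallyNoetherian (X ↘ Spec (CommRingCat.of k))
  obtain ⟨b, ⟨Hi, rfl, hHinv⟩, hb⟩ := Groth.L08.Cube.exists_inverseCl (a := PicF.cl H) ⟨H, rfl, hH.1⟩
  have hpos := (mixed k (fun _ : Fin r => H) (fun _ => Hi) (fun _ => hH)
    (fun _ => (PicGrp.cl_eq_cl_iff _ _).1 hb) hQ hQd.le).2.2 hQd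
  rw [hQeq _ hHi] at hpos
  have hG := pos_of_mul_pos_right hpos (Nat.cast_nonneg N)
  have hall : ∀ i, PicF.IsInvertible ((Fin.cons M fun _ : Fin r => H : Fin (r + 1) → X.Modules) i) :=
    Fin.cases (by simpa using hM) (fun i => by simpa using hH.1)
  have hsum := altT_eq_sum k hall (T := Set.univ) isClosed_univ
    (by rw [IsHomeomorph.topologicalKrullDim_eq _ (Homeomorph.Set.univ X).isHomeomorph, hd]) {ξ}
    (fun x => by
      rw [Finset.mem_singleton]
      refine ⟨fun h => ⟨trivial, h ▸ hy⟩, fun h => ?_⟩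
      by_contra hne
      have h1 := topologicalKrullDim_add_one_le (S := closure {x}) isClosed_closure
        (IrreducibleSpace.isIrreducible_univ X) (Set.subset_univ _) fun he => hne (by
          have h3 : IsGenericPoint x (Set.univ : Set X) := he
          exact h3.eq (genericPoint_spec X))
      rw [IsHomeomorph.topologicalKrullDim_eq _ (Homeomorph.Set.univ X).isHomeomorph, hd, h.2] at h1
      have h2 : r + 1 + 1 ≤ r + 1 := by exact_mod_cast h1
      omega)
    (fun y => ClSub.quotMod (pt y)) (fun y _ => pt_facts y) Groth.L16.CohClosedPush.isCoh_structure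
    (Set.subset_univ _)
  rw [hsum, Finset.sum_singleton, len_structure]
  simpa using hG

end Groth.Agent.AV.PullAmplePos
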