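import Groth.Agent.L26.AV.TateFinite
import Mathlib.Data.ZMod.QuotientGroup
import Mathlib.Data.Nat.Factorization.Induction

/-!
# The structure of torsion points from the rank of the Tate module

If points are divisible by `l` and the `l`-torsion is finite, then the `l ^ n`-torsion is free over
`ZMod (l ^ n)` of rank the rank of the Tate module; coprime torsion groups combine.
-/

set_option autoImplicit false
set_option linter.style.haveILetI false

universe u

open CategoryTheory CategoryTheory.Limits MonoidalCategory CartesianMonoidalCategory MonObj GrpObj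
  AlgebraicGeometry AbDual

noncomputable section

namespace Groth.Agent.AV.TorsStructure

variable {S : Scheme.{u}} (A : Over S) [GrpObj A] [IsCommMonObj A] (T : Over S)

/-- `(ZMod n)^m` as torsion points. -/
abbrev Model (m n : ℕ) : Prop := Nonempty ((Fin m → ZMod n) ≃+ Additive (torsPts A n T))

variable {A T}

theorem model_primePow {l : ℕ} [Fact l.Prime] (hdiv : ∀ Q : T ⟶ A, ∃ P : T ⟶ A, P ^ l = Q)
    [Finite (torsPts A l T)] (n : ℕ) :
    Model A T (Module.finrank ℤ_[l] (TateMod A l T)) (l ^ n) := by
  haveI := TateFinite.module_finite (A := A) (T := T) (l := l)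
  haveI := TateFinite.module_free (A := A) (T := T) (l := l)
  let b := Module.finBasis ℤ_[l] (TateMod A l T)
  let G := Additive (torsPts A (l ^ n) T)
  let Φ : (Fin (Module.finrank ℤ_[l] (TateMod A l T)) → ℤ_[l]) →+ G :=
    AddMonoidHom.mk' (fun c => Additive.ofMul
      ⟨((TateMod.component A l T n) (b.equivFun.symm c)).toMul, TateMod.component_mem _ n⟩)
      fun c c' => congrArg Additive.ofMul (Subtype.ext (congrArg Additive.toMul
        ((congrArg (TateMod.component A l T n) (map_add b.equivFun.symm c c')).trans (map_add _ _ _))))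
  let P : (Fin (Module.finrank ℤ_[l] (TateMod A l T)) → ℤ_[l]) →+
      (Fin (Module.finrank ℤ_[l] (TateMod A l T)) → ZMod (l ^ n)) :=
    (PadicInt.toZModPow n).toAddMonoidHom.compLeft _
  have hΦs : Function.Surjective Φ := fun y => by
    obtain ⟨x, hx⟩ := TateSat.exists_component_eq hdiv n y.toMul.1 y.toMul.2
    refine ⟨b.equivFun x, congrArg Additive.ofMul (Subtype.ext ?_)⟩
    show ((TateMod.component A l T n) (b.equivFun.symm (b.equivFun x))).toMul = y.toMul.1
    rw [LinearEquiv.symm_apply_apply]
    exact congrArg Additive.toMul hx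
  have hPs : Function.Surjective P := fun c =>
    ⟨fun i => ((c i).val : ℤ_[l]), funext fun i => by
      show PadicInt.toZModPow n ((c i).val : ℤ_[l]) = c i
      rw [map_natCast, ZMod.natCast_zmod_val]⟩
  have hker : P.ker = Φ.ker := by
    ext c
    have h1 : c ∈ P.ker ↔ ∀ i, ∃ d, d * (l : ℤ_[l]) ^ n = c i := by
      rw [AddMonoidHom.mem_ker, funext_iff]
      refine forall_congr' fun i => ?_
      rw [← Ideal.mem_span_singleton', ← PadicInt.ker_toZModPow, RingHom.mem_ker]
      rfl
    have h2 : c ∈ Φ.ker ↔
        ((b.equivFun.symm c : TateMod A l T) : ℕ → Additive (T ⟶ A)) n = 0 := by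
      rw [AddMonoidHom.mem_ker]
      exact ⟨fun h => congrArg (fun g : G => Additive.ofMul g.toMul.1) h,
        fun h => congrArg Additive.ofMul (Subtype.ext (congrArg Additive.toMul h))⟩
    rw [h1, h2]
    constructor
    · intro h
      choose d hd using h
      have hc : c = ((l : ℤ_[l]) ^ n) • d := funext fun i => by
        rw [Pi.smul_apply, smul_eq_mul, mul_comm, hd]
      rw [hc, map_smul, ← Nat.cast_pow, Nat.cast_smul_eq_nsmul, TateSat.component_nsmul]
      exact TateMod.torsion _ n
    · intro h i
      obtain ⟨y, hy⟩ := TateFinite.exists_shift _ n h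
      refine ⟨b.equivFun y i, ?_⟩
      have := congrArg (fun z => b.equivFun z i) hy
      simp only [map_smul, Pi.smul_apply, LinearEquiv.apply_symm_apply, smul_eq_mul] at this
      rw [mul_comm]
      exact this
  exact ⟨(QuotientAddGroup.quotientKerEquivOfSurjective P hPs).symm.trans
    ((QuotientAddGroup.quotientAddEquivOfEq hker).trans
      (QuotientAddGroup.quotientKerEquivOfSurjective Φ hΦs))⟩

theorem card_eq_of_model {m n : ℕ} [NeZero n] (h : Model A T m n) :
    Nat.card (torsPts A n T) = n ^ m := by
  obtain ⟨e⟩ := h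
  rw [show Nat.card (torsPts A n T) = Nat.card (Additive (torsPts A n T)) from
    Nat.card_congr Additive.ofMul, ← Nat.card_congr e.toEquiv, Nat.card_fun, Nat.card_fin, Nat.card_zmod]

/-- The rank of the Tate module from the number of `l`-torsion points. -/
theorem finrank_eq {l : ℕ} [Fact l.Prime] (hdiv : ∀ Q : T ⟶ A, ∃ P : T ⟶ A, P ^ l = Q)
    [Finite (torsPts A l T)] {r : ℕ} (hcard : Nat.card (torsPts A l T) = l ^ r) :
    Module.finrank ℤ_[l] (TateMod A l T) = r := by
  haveI : NeZero (l ^ 1) := ⟨pow_ne_zero _ (Fact.out : l.Prime).ne_zero⟩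
  have h := card_eq_of_model (model_primePow hdiv 1)
  rw [pow_one, hcard] at h
  exact (Nat.pow_right_injective (Fact.out : l.Prime).two_le h).symm

/-- Torsion of coprime orders combines. -/
theorem exists_prodEquiv {a c : ℕ} (hac : a.Coprime c) :
    Nonempty (Additive (torsPts A a T) × Additive (torsPts A c T) ≃+ Additive (torsPts A (a * c) T)) := by
  let mulMap : Additive (torsPts A a T) × Additive (torsPts A c T) →+ Additive (torsPts A (a * c) T) :=
    AddMonoidHom.mk' (fun p => Additive.ofMul ⟨p.1.toMul.1 * p.2.toMul.1, by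
        have hx : p.1.toMul.1 ^ a = 1 := p.1.toMul.2
        have hy : p.2.toMul.1 ^ c = 1 := p.2.toMul.2
        rw [AbDual.mem_torsPts, mul_pow]
        rw [pow_mul, hx, one_pow, mul_comm a c, pow_mul, hy, one_pow, _root_.mul_one]⟩)
      fun p q => congrArg Additive.ofMul (Subtype.ext (mul_mul_mul_comm _ _ _ _))
  have hMap : Function.Bijective mulMap := by
    refine ⟨(injective_iff_map_eq_zero mulMap).2 fun p hp => ?_, fun z => ?_⟩
    · have hxy : p.1.toMul.1 * p.2.toMul.1 = 1 :=
        congrArg (fun g : Additive (torsPts A (a * c) T) => g.toMul.1) hp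
      have hx : p.1.toMul.1 ^ a = 1 := p.1.toMul.2
      have hy : p.2.toMul.1 ^ c = 1 := p.2.toMul.2
      have hx' : p.1.toMul.1 ^ c = 1 := by
        have := congrArg (· ^ c) hxy
        simp only [mul_pow, hy, _root_.mul_one, one_pow] at this
        exact this
      have h1 : p.1.toMul.1 = 1 := by
        have := pow_gcd_eq_one.2 ⟨hx, hx'⟩
        rwa [hac.gcd_eq_one, pow_one] at this
      refine Prod.ext (congrArg Additive.ofMul (Subtype.ext h1))
        (congrArg Additive.ofMul (Subtype.ext ?_))
      rw [h1, _root_.one_mul] at hxy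
      exact hxy
    · obtain ⟨s, t, hst⟩ : ∃ s t : ℤ, s * a + t * c = 1 := Nat.isCoprime_iff_coprime.2 hac
      have hz : z.toMul.1 ^ ((a : ℤ) * c) = 1 := by
        rw [← Nat.cast_mul, zpow_natCast]
        exact z.toMul.2
      refine ⟨(Additive.ofMul ⟨z.toMul.1 ^ (t * c), ?_⟩, Additive.ofMul ⟨z.toMul.1 ^ (s * a), ?_⟩),
        congrArg Additive.ofMul (Subtype.ext ?_)⟩
      · rw [AbDual.mem_torsPts, ← zpow_natCast, ← zpow_mul, show t * c * (a : ℤ) = (a * c) * t by ring,
          zpow_mul, hz, one_zpow]
      · rw [AbDual.mem_torsPts, ← zpow_natCast, ← zpow_mul, show s * a * (c : ℤ) = (a * c) * s by ring,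
          zpow_mul, hz, one_zpow]
      · show z.toMul.1 ^ (t * c) * z.toMul.1 ^ (s * a) = z.toMul.1
        rw [← zpow_add, show t * c + s * a = 1 by linarith, zpow_one]
  exact ⟨AddEquiv.ofBijective mulMap hMap⟩

theorem card_mul {a c : ℕ} (hac : a.Coprime c) :
    Nat.card (torsPts A (a * c) T) = Nat.card (torsPts A a T) * Nat.card (torsPts A c T) := by
  obtain ⟨e⟩ := exists_prodEquiv (A := A) (T := T) hac
  rw [← Nat.card_prod]
  exact (Nat.card_congr (((Equiv.prodCongr Additive.ofMul Additive.ofMul).trans e.toEquiv).trans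
    Additive.toMul)).symm

theorem model_mul {m a c : ℕ} (hac : a.Coprime c) (ha : Model A T m a) (hc : Model A T m c) :
    Model A T m (a * c) := by
  obtain ⟨ea⟩ := ha
  obtain ⟨ec⟩ := hc
  obtain ⟨ep⟩ := exists_prodEquiv (A := A) (T := T) hac
  let e1 : (Fin m → ZMod (a * c)) ≃+ (Fin m → ZMod a) × (Fin m → ZMod c) :=
    { toFun := fun f => (fun i => (ZMod.chineseRemainder hac (f i)).1, fun i => (ZMod.chineseRemainder hac (f i)).2)
      invFun := fun p i => (ZMod.chineseRemainder hac).symm (p.1 i, p.2 i)
      left_inv := fun f => funext fun i => (ZMod.chineseRemainder hac).symm_apply_apply _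
      right_inv := fun p => Prod.ext
        (funext fun i => congrArg Prod.fst ((ZMod.chineseRemainder hac).apply_symm_apply _))
        (funext fun i => congrArg Prod.snd ((ZMod.chineseRemainder hac).apply_symm_apply _))
      map_add' := fun f g => Prod.ext (funext fun i => congrArg Prod.fst (map_add _ _ _))
        (funext fun i => congrArg Prod.snd (map_add _ _ _)) }
  exact ⟨e1.trans ((ea.prodCongr ec).trans ep)⟩

theorem model_of_primePow {m : ℕ} {n : ℕ} (hn : 0 < n)
    (h : ∀ p e : ℕ, p.Prime → p ^ e ∣ n → Model A T m (p ^ e)) : Model A T m n := by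
  induction n using Nat.recOnPrimeCoprime with
  | zero => exact absurd hn (lt_irrefl 0)
  | prime_pow p e hp => exact h p e hp dvd_rfl
  | coprime a c ha hc hac iha ihc =>
    exact model_mul hac (iha (by omega) fun p e hp hd => h p e hp (hd.mul_right c))
      (ihc (by omega) fun p e hp hd => h p e hp (hd.mul_left a))

end Groth.Agent.AV.TorsStructure
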