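/-
Homomorphisms between proper groups of the same dimension: quasi-finite iff surjective.
-/
import Groth.Agent.L08.FlatHom
import Groth.Agent.L08.GrpDim
import Groth.Agent.L19.IntegralHom
import Groth.Agent.L02.Grpd.OverField
import Groth.Agent.L02.CMMor.SliceOne

set_option autoImplicit false
set_option linter.style.haveILetI false
set_option backward.isDefEq.respectTransparency.types false

open CategoryTheory CategoryTheory.Limits MonoidalCategory CartesianMonoidalCategory MonObj
  AlgebraicGeometry IsLocalRing

universe u

namespace Groth.Agent.AV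

/-- A flat local homomorphism between local rings of the same finite dimension has zero-dimensional
fibre. -/
theorem ringKrullDim_fibre_le_zero {A B : Type u} [CommRing A] [IsLocalRing A] [CommRing B]
    [IsLocalRing B] [IsNoetherianRing A] [IsNoetherianRing B] (φ : A →+* B) [IsLocalHom φ]
    (hφ : φ.Flat) (hd : ringKrullDim B = ringKrullDim A) :
    ringKrullDim (B ⧸ (maximalIdeal A).map φ) ≤ 0 := by
  algebraize [φ]
  haveI : (maximalIdeal B).LiesOver (maximalIdeal A) :=
    ⟨(IsLocalRing.maximalIdeal_comap φ).symm⟩
  have h := Ideal.height_eq_height_add_of_liesOver_of_hasGoingDown (maximalIdeal A) (maximalIdeal B)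
  have hne : (maximalIdeal A).map φ ≤ maximalIdeal B := IsLocalRing.map_maximalIdeal_le φ
  haveI : Nontrivial (B ⧸ (maximalIdeal A).map φ) := Ideal.Quotient.nontrivial_iff.mpr fun ht =>
    (maximalIdeal.isMaximal B).ne_top (top_le_iff.mp (ht ▸ hne))
  haveI : IsLocalRing (B ⧸ (maximalIdeal A).map φ) := IsLocalRing.of_surjective' _ Ideal.Quotient.mk_surjective
  rw [← IsLocalRing.maximalIdeal_height_eq_ringKrullDim, ← IsLocalRing.maximalIdeal_height_eq_ringKrullDim,
    WithBot.coe_inj] at hd
  rw [← IsLocalRing.maximalIdeal_height_eq_ringKrullDim, ← IsLocalRing.map_maximalIdeal_of_surjective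
    (Ideal.Quotient.mk ((maximalIdeal A).map φ)) Ideal.Quotient.mk_surjective, ← WithBot.coe_zero,
    WithBot.coe_le_coe]
  rw [hd] at h
  have hfin : (maximalIdeal A).height ≠ ⊤ := Ideal.height_ne_top (Ideal.IsPrime.ne_top inferInstance)
  exact ((ENat.addLECancellable_of_ne_top hfin).add_le_iff_nonpos_right).1 h.ge

variable {k : Type u} [Field k] (G H : Over (Spec (CommRingCat.of k))) [GrpObj G] [GrpObj H]
  [IsProper G.hom] [IsSeparated H.hom] [LocallyOfFiniteType H.hom]

/-- A surjective homomorphism of proper groups of the same dimension is quasi-finite. -/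
theorem locallyQuasiFinite_of_surjective_of_dim_eq [IsReduced H.left] (φ : G ⟶ H) [IsMonHom φ]
    [Surjective φ.left] (hdim : topologicalKrullDim G.left = topologicalKrullDim H.left) :
    LocallyQuasiFinite φ.left := by
  haveI : Flat φ.left := Groth.L08.FlatHom.flat_of_surjective G H φ
  haveI : IsProper (φ.left ≫ H.hom) := (Over.w φ).symm ▸ ‹IsProper G.hom›
  haveI : IsProper φ.left := IsProper.of_comp φ.left H.hom
  haveI : IsLocallyNoetherian G.left := LocallyOfFiniteType.isLocallyNoetherian G.hom
  haveI : IsLocallyNoetherian H.left := LocallyOfFiniteType.isLocallyNoetherian H.hom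
  haveI : JacobsonSpace G.left := LocallyOfFiniteType.jacobsonSpace G.hom
  have key : ∀ x : G.left, IsClosed ({x} : Set G.left) → φ.left.QuasiFiniteAt x := by
    intro x hx
    have hy : IsClosed ({φ.left x} : Set H.left) := by
      rw [← Set.image_singleton]
      exact φ.left.isClosedMap _ hx
    have h0 := ringKrullDim_fibre_le_zero (φ.left.stalkMap x).hom (Flat.stalkMap φ.left x) (by
      rw [Groth.L08.GrpDim.ringKrullDim_stalk G x hx, Groth.L08.GrpDim.ringKrullDim_stalk H _ hy, hdim])
    have hcl : IsClosed ({φ.left.asFiber x} : Set ↥(φ.left.fiber (φ.left x))) := by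
      have : ({φ.left.asFiber x} : Set ↥(φ.left.fiber (φ.left x))) = (φ.left.fiberι (φ.left x)) ⁻¹' {x} := by
        ext z
        refine ⟨fun hz => ?_, fun hz => ?_⟩
        · rw [Set.mem_singleton_iff.1 hz]
          exact φ.left.fiberι_asFiber x
        · exact (φ.left.fiberι (φ.left x)).isEmbedding.injective
            ((Set.mem_singleton_iff.1 hz).trans (φ.left.fiberι_asFiber x).symm)
      rw [this]
      exact hx.preimage (φ.left.fiberι (φ.left x)).continuous
    refine L02.Grpd.quasiFiniteAt_of_fibreDim_zero φ.left x hcl ?_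
    rw [L02.CMMor.fibreDimAt_of_closed φ.left x hcl]
    letI := (φ.left.stalkMap x).hom.toAlgebra
    obtain ⟨e⟩ := Groth.L07.CIScheme.exists_fiberStalkEquiv φ.left (φ.left x) (φ.left.asFiber x) x
      (φ.left.fiberι_asFiber x)
    exact (ringKrullDim_eq_of_ringEquiv e).symm.le.trans h0
  have htop : φ.left.quasiFiniteLocus = ⊤ := by
    rw [eq_top_iff]
    intro x _
    by_contra hx
    obtain ⟨z, hz, hzc⟩ := nonempty_inter_closedPoints (X := G.left) (Z := (φ.left.quasiFiniteLocus : Set G.left)ᶜ)
      ⟨x, hx⟩ φ.left.quasiFiniteLocus.2.isClosed_compl.isLocallyClosed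
    exact hz (key z hzc)
  exact φ.left.quasiFiniteLocus_eq_top_iff.1 htop

/-- A finite homomorphism to a connected group of the same dimension is surjective. -/
theorem surjective_of_isFinite_of_dim_eq [ConnectedSpace H.left] (φ : G ⟶ H) [IsMonHom φ]
    [IsFinite φ.left] (hdim : topologicalKrullDim G.left = topologicalKrullDim H.left) :
    Surjective φ.left := by
  haveI : IsLocallyNoetherian H.left := LocallyOfFiniteType.isLocallyNoetherian H.hom
  haveI : IrreducibleSpace H.left := Groth.L25.Component.irreducibleSpace H
  refine ⟨fun y => by_contra fun hy => ?_⟩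
  have hgen : genericPoint H.left ∉ Set.range φ.left := fun h => hy (by
    have := φ.left.isClosedMap.isClosed_range
    exact ((genericPoint_spec H.left).specializes trivial).mem_closed this h)
  obtain ⟨n, -, hn⟩ := Groth.L08.GrpDim.exists_dim G
  have hnH : topologicalKrullDim H.left = (n : WithBot ℕ∞) := hdim ▸ hn
  rw [Groth.L19.topologicalKrullDim_eq_krullDim] at hn hnH
  let _ := specializationOrder G.left
  let _ := specializationOrder H.left
  obtain ⟨p, hp⟩ := Order.le_krullDim_iff.1 hn.ge
  have hmono : StrictMono φ.left.base := fun a b hab => by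
    have hs : b ⤳ a := hab.le
    refine lt_of_le_of_ne (show φ.left b ⤳ φ.left a from hs.map φ.left.continuous) fun e => ?_
    exact hab.ne (Groth.L19.eq_of_specializes_of_isIntegralHom φ.left hs e.symm).symm
  let q := (p.map φ.left.base hmono).snoc (genericPoint H.left) (lt_of_le_of_ne
    ((genericPoint_spec H.left).specializes trivial) fun e => hgen ⟨p.last, by simpa using e.symm⟩)
  have := Order.LTSeries.length_le_krullDim q
  rw [hnH] at this
  have h2 : ((n + 1 : ℕ) : WithBot ℕ∞) ≤ n := by simpa [q, hp] using this
  exact absurd (by exact_mod_cast h2 : n + 1 ≤ n) (by omega)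

end Groth.Agent.AV
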