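import Groth.Agent.L26.AV.TorsCard
import Groth.Agent.L26.AV.TorsStructure
import Mathlib.LinearAlgebra.FreeModule.Finite.Matrix
import Mathlib.RingTheory.Etale.Pi

/-!
# Torsion points of any order on an abelian variety over an algebraically closed field
-/

set_option autoImplicit false
set_option linter.style.haveILetI false
set_option backward.isDefEq.respectTransparency.types false

universe u

open CategoryTheory CategoryTheory.Limits MonoidalCategory CartesianMonoidalCategory AlgebraicGeometry

open scoped MonObj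

noncomputable section

namespace Groth.Agent.AV.TorsPts

variable {k : Type u} [Field k]

variable (k) in
/-- The rational point. -/
abbrev ptk : Over (Spec (CommRingCat.of k)) := Over.mk (𝟙 (Spec (CommRingCat.of k)))

variable (k) in
theorem geomPt_self : Isogeny.geomPt k k = ptk k :=
  congrArg Over.mk ((congrArg Spec.map (CommRingCat.hom_ext (RingHom.ext fun _ => rfl))).trans (Spec.map_id _))

theorem card_algHom_le (B : Type u) [CommRing B] [Algebra k B] [Module.Finite k B] :
    Nat.card (B →ₐ[k] k) ≤ Module.finrank k B := by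
  haveI := (linearIndependent_algHom_toLinearMap k B k).finite
  haveI : Fintype (B →ₐ[k] k) := Fintype.ofFinite _
  rw [Nat.card_eq_fintype_card]
  exact (linearIndependent_algHom_toLinearMap k B k).fintype_card_le_finrank.trans
    (Module.finrank_linearMap_self _ _ _).le

theorem formallyEtale_of_card_eq (B : Type u) [CommRing B] [Algebra k B] [Module.Finite k B]
    (h : Nat.card (B →ₐ[k] k) = Module.finrank k B) : Algebra.FormallyEtale k B := by
  classical
  haveI := (linearIndependent_algHom_toLinearMap k B k).finite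
  haveI : Fintype (B →ₐ[k] k) := Fintype.ofFinite _
  let ev : B →ₐ[k] ((B →ₐ[k] k) → k) := Pi.algHom _ _ fun φ => φ
  have hsurj : Function.Surjective ev.toLinearMap := by
    have hli := linearIndependent_algHom_toLinearMap k B k
    rw [← LinearMap.range_eq_top]
    by_contra hne
    obtain ⟨f, hf, hle⟩ := Submodule.exists_le_ker_of_lt_top _ (lt_top_iff_ne_top.2 hne)
    refine hf (LinearMap.pi_ext fun φ x => ?_)
    have h0 : ∀ φ, f (Pi.single φ 1) = 0 := fun φ => by
      refine Fintype.linearIndependent_iff.1 hli (fun φ => f (Pi.single φ 1)) ?_ φ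
      refine LinearMap.ext fun b => ?_
      have := LinearMap.mem_ker.1 (hle ⟨b, rfl⟩)
      rw [pi_eq_sum_univ' (ev.toLinearMap b), map_sum] at this
      simp only [LinearMap.sum_apply, LinearMap.smul_apply, LinearMap.zero_apply]
      refine Eq.trans (Finset.sum_congr rfl fun ψ _ => ?_) this
      rw [map_smul, smul_eq_mul, smul_eq_mul, mul_comm]
      rfl
    rw [← mul_one x, ← smul_eq_mul, Pi.single_smul, map_smul, h0, smul_zero, LinearMap.zero_apply]
  have hinj : Function.Injective ev :=
    (LinearMap.injective_iff_surjective_of_finrank_eq_finrank (by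
      rw [Module.finrank_pi, ← Nat.card_eq_fintype_card, h])).2 hsurj
  haveI : Algebra.FormallyEtale k ((B →ₐ[k] k) → k) :=
    (Algebra.FormallyEtale.pi_iff _).2 fun _ => inferInstance
  exact Algebra.FormallyEtale.of_equiv (AlgEquiv.ofBijective ev ⟨hinj, hsurj⟩).symm

variable {A : Over (Spec (CommRingCat.of k))} [GrpObj A] [IsProper A.hom] [GeometricallyIntegral A.hom]

/-- Rational points are divisible over an algebraically closed field. -/
theorem exists_pow_eq [IsAlgClosed k] {n : ℕ} (hn : 1 ≤ n) (Q : ptk k ⟶ A) :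
    ∃ P : ptk k ⟶ A, P ^ n = Q := by
  obtain ⟨_, _, _, _⟩ := Degree.isogeny_pow (A := A) hn
  revert Q
  rw [← geomPt_self k]
  intro Q
  obtain ⟨P, hP⟩ := Isogeny.exists_lift_point (𝟙 A ^ n) Q
  exact ⟨P, by rw [← hP, MonObj.comp_pow, Category.comp_id]⟩

variable [IsCommMonObj A]

/-- Torsion points are the points of the kernel. -/
def equivPoints (n : ℕ) (T : Over (Spec (CommRingCat.of k))) :
    AbDual.torsPts A n T ≃ (T ⟶ pullback (𝟙 A ^ n) η[A]) where
  toFun a := pullback.lift a.1 (toUnit _) (by
    rw [MonObj.comp_pow, Category.comp_id, ← Hom.one_def]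
    exact a.2)
  invFun b := ⟨b ≫ pullback.fst (𝟙 A ^ n) η[A], by
    show (b ≫ pullback.fst (𝟙 A ^ n) η[A]) ^ n = 1
    rw [← Category.comp_id (b ≫ pullback.fst (𝟙 A ^ n) η[A]), ← MonObj.comp_pow, Category.assoc,
      pullback.condition, ← Category.assoc, Hom.one_def, toUnit_unique (b ≫ _) (toUnit _)]⟩
  left_inv a := Subtype.ext (pullback.lift_fst _ _ _)
  right_inv b := pullback.hom_ext (pullback.lift_fst _ _ _) (toUnit_unique _ _)

variable {n : ℕ} (hn : 1 ≤ n)
include hn

theorem isFinite_kernel : IsFinite (pullback (𝟙 A ^ n) η[A]).hom := by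
  obtain ⟨_, _, _, _⟩ := Degree.isogeny_pow (A := A) hn
  have hsql := (IsPullback.of_hasPullback (𝟙 A ^ n) η[A]).map (Over.forget _)
  haveI : IsIso (𝟙_ (Over (Spec (CommRingCat.of k)))).hom := inferInstanceAs (IsIso (𝟙 _))
  haveI : IsFinite (pullback.snd (𝟙 A ^ n) η[A]).left :=
    MorphismProperty.of_isPullback hsql ‹IsFinite (𝟙 A ^ n).left›
  rw [← Over.w (pullback.snd (𝟙 A ^ n) η[A])]
  infer_instance

theorem finite_torsPts : Finite (AbDual.torsPts A n (ptk k)) := by
  haveI := isFinite_kernel (A := A) hn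
  rw [← geomPt_self k]
  haveI := FinitePts.finite_points (L := k) (pullback (𝟙 A ^ n) η[A])
  exact Finite.of_equiv _ (equivPoints n (Isogeny.geomPt k k)).symm

/-- The number of rational torsion points is at most `n ^ (2 dim)`; equality forces `[n]` to be etale. -/
theorem card_torsPts_le {g : ℕ} (hg : topologicalKrullDim A.left = g) :
    Nat.card (AbDual.torsPts A n (ptk k)) ≤ n ^ (2 * g) ∧
      (Nat.card (AbDual.torsPts A n (ptk k)) = n ^ (2 * g) →
        Etale (pullback (𝟙 A ^ n) η[A]).hom) := by
  obtain ⟨_, _, _, _⟩ := Degree.isogeny_pow (A := A) hn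
  haveI := isFinite_kernel (A := A) hn
  let P := pullback (𝟙 A ^ n) η[A]
  haveI : IsAffine P.left := isAffine_of_isAffineHom P.hom
  obtain ⟨φ, hφ⟩ := Spec.map_surjective (P.left.isoSpec.inv ≫ P.hom)
  haveI : IsFinite (Spec.map φ) := hφ ▸ inferInstance
  letI := φ.hom.toAlgebra
  haveI : Module.Finite k Γ(P.left, ⊤) := (IsFinite.SpecMap_iff φ).1 inferInstance
  haveI : Module.Flat k Γ(P.left, ⊤) := Module.Flat.of_free
  let s : Spec (CommRingCat.of k) := IsLocalRing.closedPoint k
  have hrank : Module.finrank k Γ(P.left, ⊤) = n ^ (2 * g) := by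
    have h1 : P.hom.finrank s = Module.finrank k Γ(P.left, ⊤) := by
      rw [← Scheme.Hom.finrank_comp_left_of_isIso P.left.isoSpec.inv P.hom, ← hφ,
        show φ = CommRingCat.ofHom (algebraMap k Γ(P.left, ⊤)) from rfl,
        Scheme.Hom.finrank_SpecMap_algebraMap, Module.rankAtStalk_eq_finrank_of_free]
      rfl
    rw [← h1]
    refine Eq.trans ?_ (Degree.finrank_pow hn hg (η[A].left s))
    have hsql := (IsPullback.of_hasPullback (𝟙 A ^ n) η[A]).map (Over.forget _)
    have h := @Scheme.Hom.finrank_of_isPullback _ _ _ _ _ _ _ _ hsql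
      (show Flat (𝟙 A ^ n).left from inferInstance) (show IsFinite (𝟙 A ^ n).left from inferInstance) s
    refine Eq.trans ?_ h
    rw [show P.hom = (pullback.snd (𝟙 A ^ n) η[A]).left from
      ((Over.w (pullback.snd (𝟙 A ^ n) η[A])).symm.trans (Category.comp_id _))]
    rfl
  have hT : ∀ a : ptk k ⟶ P, ∀ r : k,
      (Spec.preimage (a.left ≫ P.left.isoSpec.hom)).hom (φ.hom r) = r := by
    intro a r
    have : φ ≫ Spec.preimage (a.left ≫ P.left.isoSpec.hom) = 𝟙 _ :=
      Spec.map_injective (by
        rw [Spec.map_comp, Spec.map_preimage, hφ, Category.assoc, Iso.hom_inv_id_assoc, Over.w, Spec.map_id]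
        rfl)
    exact congr($this r)
  have hcard : Nat.card (AbDual.torsPts A n (ptk k)) = Nat.card (Γ(P.left, ⊤) →ₐ[k] k) := by
    rw [Nat.card_congr (equivPoints n (ptk k))]
    refine Nat.card_eq_of_bijective (fun a : ptk k ⟶ P =>
      (⟨(Spec.preimage (a.left ≫ P.left.isoSpec.hom)).hom, hT a⟩ : Γ(P.left, ⊤) →ₐ[k] k)) ⟨?_, fun ψ => ?_⟩
    · intro a b h
      have h1 : Spec.preimage (a.left ≫ P.left.isoSpec.hom) = Spec.preimage (b.left ≫ P.left.isoSpec.hom) :=
        CommRingCat.hom_ext (congrArg AlgHom.toRingHom h)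
      have h2 := congrArg Spec.map h1
      rw [Spec.map_preimage, Spec.map_preimage] at h2
      exact Over.OverMorphism.ext ((cancel_mono P.left.isoSpec.hom).1 h2)
    · refine ⟨Over.homMk (Spec.map (CommRingCat.ofHom ψ.toRingHom) ≫ P.left.isoSpec.inv) ?_, AlgHom.ext fun b => ?_⟩
      · show (_ ≫ _) ≫ P.hom = 𝟙 _
        rw [Category.assoc, ← hφ, ← Spec.map_comp, ← Spec.map_id]
        congr 1
        exact CommRingCat.hom_ext ψ.comp_algebraMap
      · simp
  refine ⟨?_, fun h => ?_⟩
  · rw [hcard, ← hrank]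
    exact card_algHom_le _
  · haveI := formallyEtale_of_card_eq (k := k) Γ(P.left, ⊤) (by rw [← hcard, h, hrank])
    haveI : Algebra.FinitePresentation k Γ(P.left, ⊤) := Algebra.FinitePresentation.of_finiteType.1 inferInstance
    haveI : Algebra.Etale k Γ(P.left, ⊤) := {}
    haveI : Etale (Spec.map φ) := by
      rw [HasRingHomProperty.Spec_iff (P := @Etale)]
      exact RingHom.etale_algebraMap.2 inferInstance
    rw [show (pullback (𝟙 A ^ n) η[A]).hom = P.left.isoSpec.hom ≫ Spec.map φ by
      rw [hφ, Iso.hom_inv_id_assoc]]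
    infer_instance

end Groth.Agent.AV.TorsPts
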