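import Groth.Agent.L08.IdentityComponent
import Groth.Agent.L08.Cube.SliceFibre
import Groth.Agent.L08.GrpDim
import Groth.Agent.L25.GeomRed
import Groth.Agent.L18.AmpleAvoid
import Groth.Agent.L26.AV.TorsPts
import Groth.Agent.L26.AV.DimQF
import Mathlib.CategoryTheory.Monoidal.CommMon_

/-!
# Closed subgroups of an abelian variety containing the prime power torsion
-/

set_option autoImplicit false
set_option linter.style.haveILetI false
set_option backward.isDefEq.respectTransparency.types false

universe u

open CategoryTheory CategoryTheory.Limits MonoidalCategory CartesianMonoidalCategory MonObj AlgebraicGeometry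

noncomputable section

namespace Groth.Agent.AV.Subgroup

variable {k : Type u} [Field k] [IsAlgClosed k]

/-- The reduced identity component of a proper group over an algebraically closed field. -/
theorem exists_redComponent (K : Over (Spec (CommRingCat.of k))) [GrpObj K] [IsProper K.hom] :
    ∃ (B : Over (Spec (CommRingCat.of k))) (_ : GrpObj B) (i : B ⟶ K), IsMonHom i ∧ IsClosedImmersion i.left ∧
      IsProper B.hom ∧ GeometricallyIntegral B.hom ∧
      Set.range i.left = connectedComponent (Groth.L25.Component.one K) := by
  obtain ⟨N, gN, j, hj, hjc, -, hjr⟩ := Groth.L08.IdComp.exists_identityComponent K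
  letI := gN
  haveI : IsLocallyNoetherian K.left := LocallyOfFiniteType.isLocallyNoetherian K.hom
  haveI : IrreducibleSpace N.left := Groth.L25.Component.irreducibleSpace_of_range j.left (by
    rw [hjr]; exact (Groth.L25.Component.connectedComponent_mem K _).1)
  let C : TopologicalSpace.Closeds N.left := ⊤
  let I := Scheme.IdealSheafData.vanishingIdeal C
  haveI : IsReduced I.subscheme := Groth.L18.isReduced_vanishingIdeal_subscheme C
  haveI hs : Surjective I.subschemeι := ⟨fun x => by
    have : x ∈ Set.range I.subschemeι := by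
      rw [I.range_subschemeι, Scheme.IdealSheafData.coe_support_vanishingIdeal]
      trivial
    exact this⟩
  haveI : IrreducibleSpace I.subscheme := Groth.L25.Component.irreducibleSpace_of_range I.subschemeι (by
    rw [I.subschemeι.surjective.range_eq]; exact IrreducibleSpace.isIrreducible_univ _)
  let B : Over (Spec (CommRingCat.of k)) := Over.mk (I.subschemeι ≫ N.hom)
  let r : B ⟶ N := Over.homMk I.subschemeι
  haveI : IsIntegral I.subscheme := AlgebraicGeometry.isIntegral_of_irreducibleSpace_of_isReduced _
  haveI : IsIntegral B.left := ‹IsIntegral I.subscheme›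
  haveI hGI : GeometricallyIntegral B.hom := Groth.L08.Cube.geometricallyIntegral_of_isAlgClosed B.hom
  haveI : IsClosedImmersion r.left := inferInstanceAs (IsClosedImmersion I.subschemeι)
  haveI : Surjective r.left := hs
  haveI : Mono r := Groth.L08.mono_of_closedImmersion r
  haveI : IsProper N.hom := by rw [← Over.w j]; infer_instance
  haveI : IsProper B.hom := inferInstanceAs (IsProper (I.subschemeι ≫ N.hom))
  haveI : IsReduced (B ⊗ B).left := by
    change IsReduced (pullback B.hom B.hom)
    haveI : IsLocallyNoetherian B.left := LocallyOfFiniteType.isLocallyNoetherian B.hom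
    infer_instance
  have hfac : ∀ {T : Over (Spec (CommRingCat.of k))} [IsReduced T.left] (f : T ⟶ N),
      ∃ z : T ⟶ B, z ≫ r = f := by
    intro T _ f
    obtain ⟨z, hz⟩ := Groth.L25.GeomRed.exists_factor r.left f.left
    exact ⟨Over.homMk z (by rw [← Over.w r, reassoc_of% hz, Over.w f]), Over.OverMorphism.ext hz⟩
  haveI : IsReduced (𝟙_ (Over (Spec (CommRingCat.of k)))).left :=
    inferInstanceAs (IsReduced (Spec (CommRingCat.of k)))
  obtain ⟨gB, hr⟩ := Groth.L08.exists_grpObj_of_mono r (hfac η[N]) (hfac _) (hfac _)
  refine ⟨B, gB, r ≫ j, ?_, ?_, inferInstance, hGI, ?_⟩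
  · letI := gB
    infer_instance
  · exact inferInstanceAs (IsClosedImmersion (r.left ≫ j.left))
  · rw [Over.comp_left, Scheme.Hom.comp_base, TopCat.coe_comp, Set.range_comp, r.left.surjective.range_eq,
      Set.image_univ, hjr]

variable {A : Over (Spec (CommRingCat.of k))} [GrpObj A] [IsCommMonObj A] [IsProper A.hom] [GeometricallyIntegral A.hom]

/-- A closed subgroup containing all `l`-power torsion points is everything. -/
theorem isIso_of_torsion_factors {K : Over (Spec (CommRingCat.of k))} [GrpObj K] (i : K ⟶ A) [IsMonHom i]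
    [IsClosedImmersion i.left] {l : ℕ} [Fact l.Prime] (hl : (l : k) ≠ 0)
    (h : ∀ (n : ℕ) (a : TorsPts.ptk k ⟶ A), a ^ (l ^ n) = 1 → ∃ b : TorsPts.ptk k ⟶ K, b ≫ i = a) :
    IsIso i := by
  haveI : IsProper K.hom := by rw [← Over.w i]; infer_instance
  haveI : Mono i := Groth.L08.mono_of_closedImmersion i
  haveI : IsCommMonObj K := ⟨by
    rw [← cancel_mono i, Category.assoc, IsMonHom.mul_hom, ← Category.assoc,
      ← BraidedCategory.braiding_naturality, Category.assoc, IsCommMonObj.mul_comm]⟩
  haveI : IsIntegral A.left := GeometricallyIntegral.isIntegral_of_subsingleton A.hom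
  obtain ⟨B, gB, j, hj, hjc, hBp, hBg, hjr⟩ := exists_redComponent K
  letI := gB
  haveI : IsCommMonObj B := isCommMonObj_of_isProper_of_geometricallyIntegral B
  haveI : IsIntegral B.left := GeometricallyIntegral.isIntegral_of_subsingleton B.hom
  obtain ⟨g, -, hg⟩ := Groth.L08.GrpDim.exists_dim A
  obtain ⟨d, -, hd⟩ := Groth.L08.GrpDim.exists_dim B
  haveI : IsClosedImmersion (j ≫ i).left := inferInstanceAs (IsClosedImmersion (j.left ≫ i.left))
  haveI : Mono (j ≫ i) := Groth.L08.mono_of_closedImmersion (j ≫ i)
  have hle : d ≤ g := by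
    have h1 := (j ≫ i).left.isClosedEmbedding.isInducing.topologicalKrullDim_le
    rw [hd, hg] at h1
    exact_mod_cast h1
  have hge : g ≤ d := by
    haveI : IsLocallyNoetherian K.left := LocallyOfFiniteType.isLocallyNoetherian K.hom
    haveI : CompactSpace K.left := QuasiCompact.compactSpace_of_compactSpace K.hom
    haveI : IsNoetherian K.left := {}
    haveI : Finite (irreducibleComponents K.left) :=
      (TopologicalSpace.NoetherianSpace.finite_irreducibleComponents (α := K.left)).to_subtype
    let p : (TorsPts.ptk k).left := IsLocalRing.closedPoint k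
    let cls : ∀ n : ℕ, AbDual.torsPts A (l ^ n) (TorsPts.ptk k) → irreducibleComponents K.left := fun n a =>
      ⟨connectedComponent ((h n a.1 a.2).choose.left p), Groth.L25.Component.connectedComponent_mem K _⟩
    let m := Nat.card (irreducibleComponents K.left)
    -- two torsion points in one component differ by a torsion point of `B`
    have hdiff : ∀ n (a b : AbDual.torsPts A (l ^ n) (TorsPts.ptk k)), cls n a = cls n b →
        ∃ c : AbDual.torsPts B (l ^ n) (TorsPts.ptk k), c.1 ≫ j ≫ i = b.1⁻¹ * a.1 := by
      intro n a b hab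
      let P := (h n a.1 a.2).choose
      let Q := (h n b.1 b.2).choose
      have hP : P ≫ i = a.1 := (h n a.1 a.2).choose_spec
      have hQ : Q ≫ i = b.1 := (h n b.1 b.2).choose_spec
      let f : K ⟶ K := (toUnit K ≫ Q⁻¹) * 𝟙 K
      have hfQ : Q ≫ f = 1 := by
        rw [MonObj.comp_mul, ← Category.assoc, toUnit_unique (Q ≫ toUnit K) (toUnit _), Category.comp_id,
          toUnit_unique (toUnit (TorsPts.ptk k)) (𝟙 _)]
        exact (congrArg (· * Q) (Category.id_comp _)).trans (inv_mul_cancel Q)
      have hfP : P ≫ f = Q⁻¹ * P := by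
        rw [MonObj.comp_mul, ← Category.assoc, toUnit_unique (P ≫ toUnit K) (toUnit _), Category.comp_id,
          toUnit_unique (toUnit (TorsPts.ptk k)) (𝟙 _)]
        exact congrArg (· * P) (Category.id_comp _)
      have hmem : (Q⁻¹ * P).left p ∈ Set.range j.left := by
        rw [hjr, ← hfP, Over.comp_left, Scheme.Hom.comp_apply]
        have hP' : P.left p ∈ connectedComponent (Q.left p) := by
          rw [show connectedComponent (Q.left p) = connectedComponent (P.left p) from
            (congrArg Subtype.val hab).symm]
          exact mem_connectedComponent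
        have h1 : f.left (Q.left p) = Groth.L25.Component.one K := by
          rw [← Scheme.Hom.comp_apply, ← Over.comp_left, hfQ, Hom.one_def]
          exact congrArg η[K].left (Subsingleton.elim (α := PrimeSpectrum k) _ _)
        rw [← h1]
        exact f.left.continuous.mapsTo_connectedComponent _ hP'
      haveI : IsReduced (TorsPts.ptk k).left := inferInstanceAs (IsReduced (Spec (CommRingCat.of k)))
      have hrange : Set.range (Q⁻¹ * P).left ⊆ Set.range j.left := by
        rintro _ ⟨x, rfl⟩
        rw [show x = p from Subsingleton.elim (α := PrimeSpectrum k) _ _]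
        exact hmem
      haveI : Surjective (pullback.snd j.left (Q⁻¹ * P).left) := ⟨fun y => by
        obtain ⟨z, hz⟩ := hrange ⟨y, rfl⟩
        obtain ⟨w, -, hw⟩ := Scheme.Pullback.exists_preimage_pullback z y hz
        exact ⟨w, hw⟩⟩
      obtain ⟨c₀, hc₀⟩ := Groth.L25.GeomRed.exists_factor (pullback.snd j.left (Q⁻¹ * P).left) (𝟙 _)
      let c : TorsPts.ptk k ⟶ B := Over.homMk (c₀ ≫ pullback.fst j.left (Q⁻¹ * P).left) (by
        rw [← Over.w j, Category.assoc, pullback.condition_assoc, Over.w (Q⁻¹ * P)]
        rw [reassoc_of% hc₀])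
      have hc : c ≫ j = Q⁻¹ * P := by
        refine Over.OverMorphism.ext ?_
        show (c₀ ≫ pullback.fst _ _) ≫ j.left = _
        rw [Category.assoc, pullback.condition, reassoc_of% hc₀]
      have hci : c ≫ j ≫ i = b.1⁻¹ * a.1 := by
        rw [reassoc_of% hc, MonObj.mul_comp, GrpObj.inv_comp, hP, hQ]
      refine ⟨⟨c, ?_⟩, hci⟩
      rw [AbDual.mem_torsPts, ← cancel_mono (j ≫ i), MonObj.one_comp, MonObj.pow_comp, hci, mul_pow,
        inv_pow, (AbDual.mem_torsPts A a.1).1 a.2, (AbDual.mem_torsPts A b.1).1 b.2, inv_one, _root_.one_mul]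
    classical
    have hcount : ∀ n, l ^ (n * (2 * g)) ≤ m * l ^ (n * (2 * d)) := by
      intro n
      have hln : ((l ^ n : ℕ) : k) ≠ 0 := by rw [Nat.cast_pow]; exact pow_ne_zero _ hl
      have hl1 : 1 ≤ l ^ n := Nat.one_le_pow _ _ (Fact.out : l.Prime).pos
      haveI := TorsPts.finite_torsPts (A := A) hl1
      haveI := TorsPts.finite_torsPts (A := B) hl1
      let rep : irreducibleComponents K.left → AbDual.torsPts A (l ^ n) (TorsPts.ptk k) := fun C =>
        if h' : ∃ b, cls n b = C then h'.choose else 1
      have hrep : ∀ a, cls n a = cls n (rep (cls n a)) := fun a => by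
        have h' : ∃ b, cls n b = cls n a := ⟨a, rfl⟩
        simp only [rep, dif_pos h']
        exact h'.choose_spec.symm
      have hinj : Function.Injective (fun a => (cls n a, (hdiff n a (rep (cls n a)) (hrep a)).choose)) := by
        intro a a' he
        simp only [Prod.mk.injEq] at he
        have e1 := (hdiff n a (rep (cls n a)) (hrep a)).choose_spec
        have e2 := (hdiff n a' (rep (cls n a')) (hrep a')).choose_spec
        rw [he.2, e2, he.1] at e1
        exact Subtype.ext (mul_left_cancel e1).symm
      have := Nat.card_le_card_of_injective _ hinj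
      rw [Nat.card_prod, TorsCard.card_torsPts hg _ hln, TorsCard.card_torsPts hd _ hln, ← pow_mul,
        ← pow_mul] at this
      exact this
    by_contra hlt
    push Not at hlt
    have h2 := (Fact.out : l.Prime).two_le
    have h1 := hcount (m + 1)
    have hm : m < l ^ (m + 1) := (Nat.lt_pow_self h2).trans_le (Nat.pow_le_pow_right (by omega) (by omega))
    have h3 : (m + 1) + (m + 1) * (2 * d) ≤ (m + 1) * (2 * g) := by nlinarith
    have h4 : l ^ (m + 1) * l ^ ((m + 1) * (2 * d)) ≤ l ^ ((m + 1) * (2 * g)) := by
      rw [← pow_add]; exact Nat.pow_le_pow_right (by omega) h3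
    exact absurd (h4.trans h1) (not_le.2 (Nat.mul_lt_mul_of_pos_right hm (pow_pos (by omega) _)))
  haveI : Surjective (j ≫ i).left := by
    refine surjective_of_isFinite_of_dim_eq B A (j ≫ i) ?_
    rw [hd, hg, le_antisymm hle hge]
  haveI : Surjective i.left := by
    haveI : Surjective (j.left ≫ i.left) := by rw [← Over.comp_left]; infer_instance
    exact Surjective.of_comp j.left i.left
  haveI : IsIso i.left := isIso_of_isClosedImmersion_of_surjective i.left
  haveI : IsIso ((Over.forget _).map i) := ‹IsIso i.left›
  exact isIso_of_reflects_iso i (Over.forget _)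

end Groth.Agent.AV.Subgroup
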