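import Groth.Agent.L26.AV.IsogenyDeg
import Groth.Agent.L26.Misc.NormPolyEq
import Groth.Agent.S15671
import Groth.Agent.L26.AV.TorsStructure

/-!
# The characteristic polynomial of an endomorphism is that of its action on the Tate module
-/

set_option autoImplicit false
set_option linter.style.haveILetI false
set_option linter.unusedSectionVars false
set_option backward.isDefEq.respectTransparency false
set_option backward.isDefEq.respectTransparency.types false

universe u

open CategoryTheory CategoryTheory.Limits MonoidalCategory CartesianMonoidalCategory MonObj AlgebraicGeometry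

noncomputable section

namespace Groth.Agent.AV.CharTate

open Polynomial

variable {k : Type u} [Field k] [IsAlgClosed k] (l : ℕ) [Fact l.Prime]
  {A : Over (Spec (CommRingCat.of k))} [GrpObj A] [IsCommMonObj A] [IsProper A.hom] [GeometricallyIntegral A.hom]

/-- The Tate module has a basis of `2g` elements. -/
theorem nonempty_basis (hl : (l : k) ≠ 0) {g : ℕ} (hg : topologicalKrullDim A.left = g) :
    Nonempty (Module.Basis (Fin (2 * g)) ℤ_[l] (AbDual.TateMod A l (TorsPts.ptk k))) := by
  have hl1 : 1 ≤ l := (Fact.out : l.Prime).one_le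
  haveI := TorsPts.finite_torsPts (A := A) hl1
  haveI := TateFinite.module_finite (A := A) (T := TorsPts.ptk k) (l := l)
  haveI := TateFinite.module_free (A := A) (T := TorsPts.ptk k) (l := l)
  have hr := TorsStructure.finrank_eq (fun Q => TorsPts.exists_pow_eq (A := A) hl1 Q)
    (TorsCard.card_torsPts (A := A) hg l hl)
  exact ⟨Module.finBasisOfFinrankEq ℤ_[l] _ hr⟩

/-- The norm of the degree is the norm of the determinant. -/
theorem norm_D_eq (hl : (l : k) ≠ 0) {g : ℕ} (s : DegreeNorm.Setup A g)
    (b : Module.Basis (Fin (2 * g)) ℤ_[l] (AbDual.TateMod A l (TorsPts.ptk k))) (x : EndAV.End A) :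
    ‖((DegreeNorm.D s x : ℚ) : ℚ_[l])‖ =
      ‖((LinearMap.toMatrix b b (EndAV.End.tateRep l (TorsPts.ptk k) x)).det : ℤ_[l])‖ := by
  haveI : IsIntegral A.left := GeometricallyIntegral.isIntegral_of_subsingleton A.hom
  have hiff := S15671.result k l hl A A x.toHom
  by_cases h : IsFinite x.toHom.left
  · obtain ⟨hdet, -⟩ := IsogenyDeg.valuation_det_le l hl s.dim s.dim x.toHom h b b (genericPoint A.left)
    have hv := IsogenyDeg.valuation_det_eq l hl s.dim s.dim x.toHom h b b (genericPoint A.left)
    rw [← DegreeNorm.D_isFinite s x h (genericPoint A.left), Rat.cast_natCast, EndAV.End.tateRep_apply,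
      PadicInt.norm_eq_zpow_neg_valuation hdet, ← hv]
    have hne : ((x.toHom.left.finrank (genericPoint A.left) : ℕ) : ℚ_[l]) ≠ 0 := by
      haveI := h
      haveI : Surjective x.toHom.left := surjective_of_isFinite_of_dim_eq A A x.toHom rfl
      haveI : Flat x.toHom.left := Groth.L08.FlatHom.flat_of_surjective A A x.toHom
      have := (Scheme.Hom.one_le_finrank_iff_surjective (f := x.toHom.left)).2 inferInstance (genericPoint A.left)
      exact Nat.cast_ne_zero.2 (Nat.one_le_iff_ne_zero.1 this)
    rw [Padic.norm_eq_zpow_neg_valuation hne, Padic.valuation_natCast]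
  · rw [DegreeNorm.D_not_isFinite s x h, Rat.cast_zero, norm_zero]
    have h0 : (LinearMap.toMatrix b b (EndAV.End.tateRep l (TorsPts.ptk k) x)).det = 0 := by
      by_contra hne
      rw [LinearMap.det_toMatrix] at hne
      refine h (hiff.2 (LinearMap.ker_eq_bot.1 ?_))
      by_contra hker
      haveI : Module.Free ℤ_[l] (AbDual.TateMod A l (TorsPts.ptk k)) := Module.Free.of_basis b
      haveI : Module.Finite ℤ_[l] (AbDual.TateMod A l (TorsPts.ptk k)) := Module.Finite.of_basis b
      exact hne (LinearMap.det_eq_zero_iff_ker_ne_bot.2 hker)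
    rw [h0, norm_zero]

/-- The characteristic polynomial of an endomorphism computes that of its Tate map. -/
theorem charpoly_eq (hl : (l : k) ≠ 0) {g : ℕ} (s : DegreeNorm.Setup A g) (α : EndAV.End A) (P : ℤ[X])
    (hP : ∀ n : ℤ, DegreeNorm.D s (α - (n : EndAV.End A)) = P.eval n)
    (b : Module.Basis (Fin (2 * g)) ℤ_[l] (AbDual.TateMod A l (TorsPts.ptk k))) :
    (LinearMap.toMatrix b b (EndAV.End.tateRep l (TorsPts.ptk k) α)).charpoly = P.map (Int.castRingHom ℤ_[l]) := by
  obtain ⟨P0, hm, hd, hv, hform⟩ := DegreeNorm.exists_char s α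
  obtain rfl : P = P0 := by
    refine Polynomial.eq_of_infinite_eval_eq _ _ (Set.infinite_univ.mono fun n _ => ?_)
    have h := (hP n).symm.trans (hv n)
    exact_mod_cast h
  let M := LinearMap.toMatrix b b (EndAV.End.tateRep l (TorsPts.ptk k) α)
  refine NormPolyEq.eq_of_norm_res _ _ _ M.charpoly_monic (hm.map _) (M.charpoly_natDegree_eq_dim.trans
    (Fintype.card_fin _)) (by rw [hm.natDegree_map, hd]) ?_
  refine NormPolyEq.extend_int fun G hG => ?_
  rw [← NormPolyEq.det_aeval_eq_res M _ (hG.map _), Polynomial.aeval_map_algebraMap]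
  have hM : aeval M G = LinearMap.toMatrix b b (EndAV.End.tateRep l (TorsPts.ptk k) (aeval α G)) := by
    let f : EndAV.End A →+* Matrix (Fin (2 * g)) (Fin (2 * g)) ℤ_[l] :=
      (LinearMap.toMatrixAlgEquiv b).toAlgHom.toRingHom.comp (EndAV.End.tateRep l (TorsPts.ptk k))
    show aeval (f α) G = f (aeval α G)
    rw [aeval_def, aeval_def, hom_eval₂]
    exact congrArg (fun φ => eval₂ φ _ G) (RingHom.ext_int _ _)
  rw [hM]
  have hres : NormPolyEq.res (P.map (Int.castRingHom ℤ_[l])) (G.map (algebraMap ℤ ℤ_[l])) =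
      ((P.map (algebraMap ℤ (PadicAlgCl l))).roots.map fun a => aeval a G).prod := by
    rw [NormPolyEq.res, Polynomial.map_map]
    simp only [Polynomial.aeval_map_algebraMap]
    rw [show (algebraMap ℤ_[l] (PadicAlgCl l)).comp (Int.castRingHom ℤ_[l]) = algebraMap ℤ (PadicAlgCl l) from
      RingHom.ext_int _ _]
  rw [hres, ← hform (PadicAlgCl l) G hG, eq_ratCast, FormNorm.norm_ratCast, norm_D_eq l hl s b,
    IsScalarTower.algebraMap_apply ℤ_[l] ℚ_[l] (PadicAlgCl l)]
  exact PadicAlgCl.norm_extends l _

end Groth.Agent.AV.CharTate
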