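import Groth.Agent.L26.AV.TateBaseChange
import Groth.Agent.L26.AV.CharTate
import Groth.Agent.L26.AV.Degree

/-!
# The dimension and the rank of the Tate module under extension of the ground field
-/

set_option autoImplicit false
set_option linter.style.haveILetI false
set_option backward.isDefEq.respectTransparency.types false

universe u

open CategoryTheory CategoryTheory.Limits MonoidalCategory CartesianMonoidalCategory MonObj AlgebraicGeometry

noncomputable section

namespace Groth.Agent.AV.TateRankGeom

open TateBaseChange

variable {k : Type u} [Field k] (K : Type u) [Field K] [Algebra k K]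
  {A : Over (Spec (CommRingCat.of k))} [GrpObj A] [IsCommMonObj A] [IsProper A.hom] [GeometricallyIntegral A.hom]

/-- The dimension is invariant under extension of the ground field. -/
theorem dim_bc {g : ℕ} (hg : topologicalKrullDim A.left = g) : topologicalKrullDim (bc K A).left = g := by
  obtain ⟨g', -, hg'⟩ := Groth.L08.GrpDim.exists_dim (bc K A)
  obtain ⟨_, _, _, _⟩ := Degree.isogeny_pow (A := A) (n := 2) (by norm_num)
  haveI : IsIntegral (bc K A).left := GeometricallyIntegral.isIntegral_of_subsingleton (bc K A).hom
  let y := genericPoint (bc K A).left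
  have h1 := finrank_map K (𝟙 A ^ 2) y
  rw [Degree.finrank_pow (A := A) (n := 2) (by norm_num) hg] at h1
  have e : (Over.pullback (st (k := k) K)).map (𝟙 A ^ 2) = (𝟙 (bc K A) ^ 2 : bc K A ⟶ bc K A) := by
    show (Over.pullback (st (k := k) K)).homMonoidHom (𝟙 A ^ 2) = _
    rw [map_pow]
    exact congrArg (· ^ 2) ((Over.pullback (st (k := k) K)).map_id A)
  rw [e, Degree.finrank_pow (A := bc K A) (n := 2) (by norm_num) hg'] at h1
  have h2 : g' = g := by
    have := Nat.pow_right_injective le_rfl h1
    omega
  rw [hg', h2]

/-- The Tate module of geometric points has a basis of `2g` elements. -/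
theorem nonempty_basis [IsAlgClosed K] (l : ℕ) [Fact l.Prime] (hl : (l : k) ≠ 0) {g : ℕ}
    (hg : topologicalKrullDim A.left = g) :
    Nonempty (Module.Basis (Fin (2 * g)) ℤ_[l] (AbDual.TateMod A l (Isogeny.geomPt k K))) := by
  have hlK : (l : K) ≠ 0 := by
    rw [← map_natCast (algebraMap k K)]
    exact (map_ne_zero _).2 hl
  obtain ⟨b⟩ := CharTate.nonempty_basis l hlK (A := bc K A) (dim_bc K hg)
  exact ⟨b.map (tateEquiv K A l).symm⟩

end Groth.Agent.AV.TateRankGeom
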