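/-
Saturation of the image of homomorphisms in linear maps of Tate modules.
-/
import Groth.Agent.L26.AV.Isogeny
import Groth.Prelude.Def_EndTate

set_option autoImplicit false

universe u

open CategoryTheory CategoryTheory.Limits MonoidalCategory CartesianMonoidalCategory MonObj GrpObj
  AlgebraicGeometry AbDual

namespace Groth.Agent.AV.TateSat

section
variable {S : Scheme.{u}} {A B : Over S} [GrpObj A] [IsCommMonObj A] [GrpObj B] [IsCommMonObj B]
  {T : Over S} {l : ℕ}

theorem component_nsmul (m : ℕ) (y : TateMod A l T) (n : ℕ) :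
    ((m • y : TateMod A l T) : ℕ → Additive (T ⟶ A)) n = m • (y : ℕ → Additive (T ⟶ A)) n :=
  map_nsmul (TateMod.component A l T n) m y

/-- If points are `l`-divisible, torsion points are components of Tate vectors. -/
theorem exists_component_eq (hdiv : ∀ Q : T ⟶ A, ∃ P : T ⟶ A, P ^ l = Q) (n : ℕ) (P : T ⟶ A)
    (hP : P ^ (l ^ n) = 1) :
    ∃ x : TateMod A l T, (x : ℕ → Additive (T ⟶ A)) n = Additive.ofMul P := by
  choose d hd using hdiv
  let z : ℕ → Additive (T ⟶ A) := fun j => Additive.ofMul (d^[j] P)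
  have hz : ∀ j, l • z (j + 1) = z j := fun j => by
    show Additive.ofMul ((d^[j + 1] P) ^ l) = _
    rw [Function.iterate_succ_apply', hd]
  have hz0 : ∀ j, (l ^ j) • z j = Additive.ofMul P := fun j => by
    induction j with
    | zero => rw [pow_zero, one_nsmul]; rfl
    | succ j ih => rw [pow_succ, mul_nsmul', hz, ih]
  have hPz : (l ^ n) • Additive.ofMul P = 0 := congrArg Additive.ofMul hP
  refine ⟨⟨fun m => (l ^ n) • z m, fun m => ?_, fun m => ?_⟩, hz0 n⟩
  · rw [smul_comm, hz0, hPz]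
  · rw [smul_comm, hz]

/-- Multiplication by `l` is injective on the Tate module. -/
theorem eq_of_nsmul_eq (x y : TateMod A l T) (h : l • x = l • y) : x = y := by
  refine TateMod.ext fun n => ?_
  rw [← x.compat n, ← y.compat n, ← component_nsmul, ← component_nsmul, h]

/-- A homomorphism whose Tate map is divisible by `l ^ n` kills the `l ^ n`-torsion. -/
theorem comp_eq_one_of_smul [Fact l.Prime] (hdiv : ∀ Q : T ⟶ A, ∃ P : T ⟶ A, P ^ l = Q)
    (φ : A ⟶ B) [IsMonHom φ] (n : ℕ) (u : TateMod A l T →ₗ[ℤ_[l]] TateMod B l T)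
    (hu : tateMapₗ (l := l) (T := T) φ = ((l : ℤ_[l]) ^ n) • u) (P : T ⟶ A)
    (hP : P ^ (l ^ n) = 1) : P ≫ φ = 1 := by
  obtain ⟨x, hx⟩ := exists_component_eq hdiv n P hP
  have h := congrArg (fun y : TateMod B l T => (y : ℕ → Additive (T ⟶ B)) n) (LinearMap.congr_fun hu x)
  simp only [LinearMap.smul_apply] at h
  rw [← Nat.cast_pow, Nat.cast_smul_eq_nsmul, component_nsmul, (u x).torsion n] at h
  have h' : Additive.ofMul (((x : ℕ → Additive (T ⟶ A)) n).toMul ≫ φ) = 0 := h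
  rw [hx] at h'
  exact Additive.ofMul.injective h'

end

variable {k : Type u} [Field k] {K : Type u} [Field K] [Algebra k K] [IsAlgClosed K]
  {A B : Over (Spec (CommRingCat.of k))}
  [GrpObj A] [IsCommMonObj A] [IsProper A.hom] [GeometricallyIntegral A.hom]
  [GrpObj B] [IsCommMonObj B] [IsProper B.hom] [GeometricallyIntegral B.hom]
  {l : ℕ} [Fact l.Prime]

variable (K) in
/-- Divisibility of a homomorphism by `l ^ n` is detected on Tate modules. -/
theorem exists_eq_pow_comp (hl : (l : k) ≠ 0) (φ : A ⟶ B) [IsMonHom φ] (n : ℕ)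
    (u : TateMod A l (Isogeny.geomPt k K) →ₗ[ℤ_[l]] TateMod B l (Isogeny.geomPt k K))
    (hu : tateMapₗ (l := l) (T := Isogeny.geomPt k K) φ = ((l : ℤ_[l]) ^ n) • u) :
    ∃ ψ : A ⟶ B, IsMonHom ψ ∧ φ = (𝟙 A ^ (l ^ n)) ≫ ψ :=
  Isogeny.exists_eq_pow_comp K (l ^ n) (by rw [Nat.cast_pow]; exact pow_ne_zero n hl) φ
    (comp_eq_one_of_smul (fun Q => Isogeny.exists_pow_eq l hl Q) φ n u hu)

variable (K) in
/-- The span of the image of `Hom(A, B)` is saturated. -/
theorem mem_span_of_smul_mem (hl : (l : k) ≠ 0)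
    (u : TateMod A l (Isogeny.geomPt k K) →ₗ[ℤ_[l]] TateMod B l (Isogeny.geomPt k K))
    (hu : (l : ℤ_[l]) • u ∈
      Submodule.span ℤ_[l] (Set.range (EndAV.Hom.tateMap (A := A) (B := B) l (Isogeny.geomPt k K)))) :
    u ∈ Submodule.span ℤ_[l] (Set.range (EndAV.Hom.tateMap (A := A) (B := B) l (Isogeny.geomPt k K))) := by
  let f := EndAV.Hom.tateMap (A := A) (B := B) l (Isogeny.geomPt k K)
  obtain ⟨c, hc⟩ := Finsupp.mem_span_range_iff_exists_finsupp.1 hu
  have hspec : ∀ a : ℤ_[l], ∃ d : ℤ_[l], a = (a.appr 1 : ℤ_[l]) + (l : ℤ_[l]) * d := fun a => by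
    obtain ⟨d, hd⟩ := Ideal.mem_span_singleton'.1 (PadicInt.appr_spec 1 a)
    refine ⟨d, ?_⟩
    rw [pow_one] at hd
    linear_combination -hd
  choose d hd using hspec
  let ψ0 : EndAV.Hom A B := ∑ i ∈ c.support, (c i).appr 1 • i
  let w := ∑ i ∈ c.support, d (c i) • f i
  have hw : w ∈ Submodule.span ℤ_[l] (Set.range f) :=
    Submodule.sum_mem _ fun i _ => Submodule.smul_mem _ _ (Submodule.subset_span ⟨i, rfl⟩)
  have hkey : f ψ0 = (l : ℤ_[l]) • (u - w) := by
    rw [smul_sub, ← hc]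
    simp only [ψ0, w, map_sum, map_nsmul, Finsupp.sum, Finset.smul_sum, ← Finset.sum_sub_distrib]
    refine Finset.sum_congr rfl fun i _ => ?_
    show (c i).appr 1 • f i = c i • f i - (l : ℤ_[l]) • d (c i) • f i
    nth_rewrite 2 [hd (c i)]
    rw [add_smul, mul_smul, add_sub_cancel_right, Nat.cast_smul_eq_nsmul]
  obtain ⟨ψ, hψ, hψ0⟩ := exists_eq_pow_comp K hl ψ0.toHom 1 (u - w) (by rw [pow_one]; exact hkey)
  have hψ0' : ψ0 = l • EndAV.Hom.of ψ := by
    refine EndAV.Hom.ext ?_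
    rw [hψ0, pow_one, EndAV.Hom.toHom_nsmul, EndAV.Hom.toHom_of]
    exact (MonObj.pow_comp (𝟙 A) l ψ).trans (by rw [Category.id_comp])
  have hu' : u = f (EndAV.Hom.of ψ) + w := by
    rw [← sub_eq_iff_eq_add]
    refine LinearMap.ext fun x => eq_of_nsmul_eq _ _ ?_
    have h := LinearMap.congr_fun hkey x
    rw [hψ0', map_nsmul, LinearMap.smul_apply, LinearMap.smul_apply, Nat.cast_smul_eq_nsmul] at h
    exact h.symm
  rw [hu']
  exact Submodule.add_mem _ (Submodule.subset_span ⟨_, rfl⟩) hw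

variable (K) in
theorem mem_span_of_pow_smul_mem (hl : (l : k) ≠ 0) (n : ℕ)
    (u : TateMod A l (Isogeny.geomPt k K) →ₗ[ℤ_[l]] TateMod B l (Isogeny.geomPt k K))
    (hu : ((l : ℤ_[l]) ^ n) • u ∈
      Submodule.span ℤ_[l] (Set.range (EndAV.Hom.tateMap (A := A) (B := B) l (Isogeny.geomPt k K)))) :
    u ∈ Submodule.span ℤ_[l] (Set.range (EndAV.Hom.tateMap (A := A) (B := B) l (Isogeny.geomPt k K))) := by
  induction n with
  | zero => rwa [pow_zero, one_smul] at hu
  | succ n ih => exact ih (mem_span_of_smul_mem K hl _ (by rwa [smul_smul, ← pow_succ']))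

end Groth.Agent.AV.TateSat
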