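import Groth.Agent.L26.AV.DegreeForm
import Groth.Agent.L26.AV.PullAmplePos
import Groth.Agent.L26.AV.TateRankGeom
import Groth.Agent.L26.AV.TateSat
import Groth.Agent.L26.Misc.LatticeBound
import Groth.Prelude.Def_EndTate

/-!
# Homomorphisms of abelian varieties form a lattice
-/

set_option autoImplicit false
set_option linter.style.haveILetI false
set_option linter.unusedSectionVars false
set_option backward.isDefEq.respectTransparency false
set_option backward.isDefEq.respectTransparency.types false

universe u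

open CategoryTheory CategoryTheory.Limits MonoidalCategory CartesianMonoidalCategory MonObj AlgebraicGeometry

noncomputable section

namespace Groth.Agent.AV.HomFin

open Groth.L22.Inter InterPic DegreeForm

attribute [local instance] Groth.L08.Cube.clMonoid InterPic.picLaw

variable {k : Type u} [Field k]

/-- An abelian variety with one point is trivial. -/
theorem id_eq_one_of_subsingleton (C : Over (Spec (CommRingCat.of k))) [GrpObj C] [GeometricallyIntegral C.hom]
    [IsSeparated C.hom] [Subsingleton C.left] : 𝟙 C = 1 := by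
  haveI : IsClosedImmersion η[C].left :=
    isClosedImmersion_of_comp_eq_id (Y := Spec (CommRingCat.of k)) C.hom η[C].left (Over.w η[C])
  haveI : IsIntegral C.left := GeometricallyIntegral.isIntegral_of_subsingleton C.hom
  haveI : Surjective η[C].left := ⟨fun y => ⟨IsLocalRing.closedPoint k, Subsingleton.elim _ _⟩⟩
  haveI : IsIso η[C].left := isIso_of_isClosedImmersion_of_surjective η[C].left
  refine Over.OverMorphism.ext ?_
  show 𝟙 C.left = (toUnit C).left ≫ η[C].left
  rw [← cancel_epi η[C].left, ← Category.assoc, Category.comp_id]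
  have h : η[C].left ≫ (toUnit C).left = 𝟙 _ := by
    rw [← Over.comp_left, toUnit_unique (η[C] ≫ toUnit C) (𝟙 _)]
    rfl
  rw [h, Category.id_comp]

variable {A B : Over (Spec (CommRingCat.of k))}
  [GrpObj A] [IsCommMonObj A] [IsProper A.hom] [GeometricallyIntegral A.hom]
  [GrpObj B] [IsCommMonObj B] [IsProper B.hom] [GeometricallyIntegral B.hom]

local instance overA : A.left.Over (Spec (CommRingCat.of k)) := ⟨A.hom⟩
local instance : IsProper (A.left ↘ Spec (CommRingCat.of k)) := inferInstanceAs (IsProper A.hom)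
local instance : IsIntegral A.left := GeometricallyIntegral.isIntegral_of_subsingleton A.hom

variable {r : ℕ} (hA : topologicalKrullDim A.left = (r + 1 : ℕ)) (L : B.left.Modules) (hL : PicF.IsInvertible L)
  (H : A.left.Modules) (hH : PicF.IsInvertible H)

/-- The class of `H`. -/
def hcl : Additive (PicLoc.PicSet A.left) := Additive.ofMul (PicGrp.cls H hH)

/-- The linear form `u ↦ u · H ^ r`. -/
def cap : Additive (PicLoc.PicSet A.left) →+ ℚ :=
  AddMonoidHom.mk' (fun u => inter k hA.le (Fin.cons u fun _ : Fin r => hcl H hH)) fun u v =>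
    MultilinearMap.cons_add (M := fun _ : Fin (r + 1) => Additive (PicLoc.PicSet A.left)) (inter k hA.le) (fun _ : Fin r => hcl H hH) u v

/-- The bilinear form on homomorphisms. -/
def form : EndAV.Hom A B →+ EndAV.Hom A B →+ ℚ :=
  AddMonoidHom.mk' (fun x => AddMonoidHom.mk'
    (fun y => cap hA H hH (Bil L hL (Additive.ofMul x.toHom) (Additive.ofMul y.toHom))) fun y z => by
      rw [EndAV.Hom.toHom_add, ofMul_mul, map_add, map_add]) fun x x' => by
    refine AddMonoidHom.ext fun y => ?_
    simp only [AddMonoidHom.mk'_apply, AddMonoidHom.add_apply, EndAV.Hom.toHom_add, ofMul_mul, map_add]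

theorem exists_int_form (x y : EndAV.Hom A B) : ∃ z : ℤ, form hA L hL H hH x y = z := by
  have hint : ∀ {n : ℕ} (f : (Fin n → ℕ) → ℚ), (∀ v, ∃ z : ℤ, f v = z) → ∃ z : ℤ, alt f = z := by
    intro n f hf
    choose z hz using hf
    refine ⟨∑ v : Fin n → Fin 2, (∏ i, if v i = 1 then (1 : ℤ) else -1) * z (fun i => (v i : ℕ)), ?_⟩
    rw [alt_apply]
    push_cast
    refine Finset.sum_congr rfl fun v _ => ?_
    rw [← hz, sgn]
  exact hint _ fun v => ⟨_, rfl⟩

variable (hsym : Groth.L08.Cube.pc L (𝟙 B)⁻¹ = Groth.L08.Cube.pc L (𝟙 B)) (hampL : CohB1.IsAmple L)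
  (hampH : CohB1.IsAmple H)
include hsym hampL hampH

/-- The form is positive definite. -/
theorem form_self_pos (x : EndAV.Hom A B) (hx : x ≠ 0) : 0 < form hA L hL H hH x x := by
  show 0 < cap hA H hH (Bil L hL (Additive.ofMul x.toHom) (Additive.ofMul x.toHom))
  rw [Bil_self L hL hsym, map_zsmul, zsmul_eq_mul]
  refine mul_pos (by norm_num) ?_
  let φ := x.toHom
  obtain ⟨C, gC, i, p, hi, hic, hCp, hCg, hps, hpi, hpm⟩ := exists_image φ
  letI := gC
  haveI : IsIntegral C.left := GeometricallyIntegral.isIntegral_of_subsingleton C.hom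
  letI : C.left.Over (Spec (CommRingCat.of k)) := ⟨C.hom⟩
  haveI : IsProper (C.left ↘ Spec (CommRingCat.of k)) := inferInstanceAs (IsProper C.hom)
  haveI : Nontrivial C.left := by
    by_contra hn
    haveI := not_nontrivial_iff_subsingleton.1 hn
    refine hx (EndAV.Hom.ext ?_)
    show φ = 1
    haveI := hi
    rw [← hpi, ← Category.id_comp i, id_eq_one_of_subsingleton C, MonObj.one_comp i, MonObj.comp_one]
  have hLi : CohB1.IsAmple ((Scheme.Modules.pullback i.left).obj L) :=
    Groth.L18.Ample.isAmple_pullback_of_isAffineHom i.left hampL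
  have hpos := PullAmplePos.altT_cons_pullback_pos k p.left hps.surj hA hLi hampH
  refine lt_of_lt_of_eq hpos (Eq.symm ?_)
  show interFun k (Fin.cons (F L hL φ) fun _ : Fin r => hcl H hH) = _
  refine interFun_eq k _ fun j => ?_
  refine Fin.cases ?_ (fun j => ?_) j
  · rw [Fin.cons_zero, Fin.cons_zero, F_val]
    show PicF.pullCl p.left (PicF.pullCl i.left (PicF.cl L)) = PicF.pullCl φ.left (PicF.cl L)
    rw [← PicLoc.pullCl_comp, ← Over.comp_left, hpi]
  · rw [Fin.cons_succ, Fin.cons_succ]
    rfl

/-- The form is anisotropic. -/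
theorem form_self_ne_zero (x : EndAV.Hom A B) (hx : x ≠ 0) : form hA L hL H hH x x ≠ 0 :=
  (form_self_pos hA L hL H hH hsym hampL hampH x hx).ne'

end Groth.Agent.AV.HomFin

namespace Groth.Agent.AV.HomFin

variable (k : Type u) [Field k] (A B : Over (Spec (CommRingCat.of k)))
  [GrpObj A] [IsCommMonObj A] [IsProper A.hom] [GeometricallyIntegral A.hom]
  [GrpObj B] [IsCommMonObj B] [IsProper B.hom] [GeometricallyIntegral B.hom]

/-- `Hom(A, B)` is free of rank at most `4 g h`. -/
theorem finite_free {g h : ℕ} (hg : topologicalKrullDim A.left = g) (hh : topologicalKrullDim B.left = h) :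
    Module.Free ℤ (EndAV.Hom A B) ∧ Module.Finite ℤ (EndAV.Hom A B) ∧
      Module.finrank ℤ (EndAV.Hom A B) ≤ 4 * g * h := by
  obtain ⟨l, hlp, hl⟩ : ∃ l : ℕ, l.Prime ∧ (l : k) ≠ 0 := by
    by_cases h2 : ((2 : ℕ) : k) = 0
    · refine ⟨3, Nat.prime_three, fun h3 => one_ne_zero (α := k) ?_⟩
      push_cast at h2 h3
      linear_combination h3 - h2
    · exact ⟨2, Nat.prime_two, h2⟩
  haveI := Fact.mk hlp
  let K := AlgebraicClosure k
  obtain ⟨bA⟩ := TateRankGeom.nonempty_basis (A := A) K l hl hg
  obtain ⟨bB⟩ := TateRankGeom.nonempty_basis (A := B) K l hl hh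
  let TA := AbDual.TateMod A l (Isogeny.geomPt k K)
  let TB := AbDual.TateMod B l (Isogeny.geomPt k K)
  haveI : Module.Free ℤ_[l] TA := Module.Free.of_basis bA
  haveI : Module.Finite ℤ_[l] TA := Module.Finite.of_basis bA
  haveI : Module.Free ℤ_[l] TB := Module.Free.of_basis bB
  haveI : Module.Finite ℤ_[l] TB := Module.Finite.of_basis bB
  have hV : Module.finrank ℤ_[l] (TA →ₗ[ℤ_[l]] TB) = 4 * g * h := by
    rw [Module.finrank_linearMap, Module.finrank_eq_card_basis bA, Module.finrank_eq_card_basis bB,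
      Fintype.card_fin, Fintype.card_fin]
    ring
  have hsat : ∀ (n : ℕ) (x : EndAV.Hom A B) (v : TA →ₗ[ℤ_[l]] TB),
      EndAV.Hom.tateMap l (Isogeny.geomPt k K) x = ((l : ℤ_[l]) ^ n) • v → ∃ y, ((l : ℤ) ^ n) • y = x := by
    intro n x v hv
    obtain ⟨ψ, hψ, e⟩ := TateSat.exists_eq_pow_comp (l := l) K hl x.toHom n v hv
    haveI := hψ
    refine ⟨EndAV.Hom.of ψ, EndAV.Hom.ext ?_⟩
    rw [EndAV.Hom.toHom_zsmul, EndAV.Hom.toHom_of, e, MonObj.pow_comp, Category.id_comp, ← Nat.cast_pow,
      zpow_natCast]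
  rw [← hV]
  rcases Nat.eq_zero_or_pos g with rfl | hpos
  · have htriv : ∀ x : EndAV.Hom A B, x = 0 := fun x => by
      haveI : IsIntegral A.left := GeometricallyIntegral.isIntegral_of_subsingleton A.hom
      haveI : Subsingleton A.left := by
        refine ⟨fun a b => ?_⟩
        have key : ∀ c : A.left, c = genericPoint A.left := fun c => by
          by_contra hne
          have h1 := Groth.L03.Euler.zero_le_topologicalKrullDim (Set.Nonempty.closure (Set.singleton_nonempty c))
          have h2 := Groth.L03.Euler.topologicalKrullDim_add_one_le (S := closure {c}) isClosed_closure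
            (IrreducibleSpace.isIrreducible_univ A.left) (Set.subset_univ _) fun he => hne (by
              have h3 : IsGenericPoint c (Set.univ : Set A.left) := he
              exact h3.eq (genericPoint_spec A.left))
          rw [IsHomeomorph.topologicalKrullDim_eq _ (Homeomorph.Set.univ A.left).isHomeomorph, hg] at h2
          have h4 : (0 : WithBot ℕ∞) + 1 ≤ (0 : ℕ) := (add_le_add_left h1 1).trans h2
          norm_num at h4
        rw [key a, key b]
      refine EndAV.Hom.ext ?_
      rw [← Category.id_comp x.toHom, id_eq_one_of_subsingleton A, MonObj.one_comp x.toHom]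
      rfl
    exact LatticeBound.finite_free (0 : EndAV.Hom A B →+ EndAV.Hom A B →+ ℚ) (fun _ _ => ⟨0, by simp⟩)
      (fun x hx => (hx (htriv x)).elim) _ hsat
  · obtain ⟨r, rfl⟩ : ∃ r, g = r + 1 := ⟨g - 1, by omega⟩
    obtain ⟨L, hampL, hsym⟩ := Degree.exists_isAmple_symmetric B
    obtain ⟨H, hampH, -⟩ := Degree.exists_isAmple_symmetric A
    exact LatticeBound.finite_free (form hg L hampL.1 H hampH.1) (exists_int_form hg L hampL.1 H hampH.1)
      (form_self_ne_zero hg L hampL.1 H hampH.1 hsym hampL hampH) _ hsat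

end Groth.Agent.AV.HomFin

namespace Groth.Agent.AV.HomFin

variable {k : Type u} [Field k] (A B : Over (Spec (CommRingCat.of k)))
  [GrpObj A] [IsCommMonObj A] [IsProper A.hom] [GeometricallyIntegral A.hom]
  [GrpObj B] [IsCommMonObj B] [IsProper B.hom] [GeometricallyIntegral B.hom]

/-- An anisotropic integral form on homomorphisms. -/
theorem exists_form : ∃ b : EndAV.Hom A B →+ EndAV.Hom A B →+ ℚ, (∀ x y, ∃ z : ℤ, b x y = z) ∧
    ∀ x, x ≠ 0 → b x x ≠ 0 := by
  obtain ⟨g, -, hg⟩ := Groth.L08.GrpDim.exists_dim A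
  rcases Nat.eq_zero_or_pos g with rfl | hpos
  · haveI : IsIntegral A.left := GeometricallyIntegral.isIntegral_of_subsingleton A.hom
    haveI : Subsingleton A.left := by
      refine ⟨fun a b => ?_⟩
      have key : ∀ c : A.left, c = genericPoint A.left := fun c => by
        by_contra hne
        have h1 := Groth.L03.Euler.zero_le_topologicalKrullDim (Set.Nonempty.closure (Set.singleton_nonempty c))
        have h2 := Groth.L03.Euler.topologicalKrullDim_add_one_le (S := closure {c}) isClosed_closure
          (IrreducibleSpace.isIrreducible_univ A.left) (Set.subset_univ _) fun he => hne (by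
            have h3 : IsGenericPoint c (Set.univ : Set A.left) := he
            exact h3.eq (genericPoint_spec A.left))
        rw [IsHomeomorph.topologicalKrullDim_eq _ (Homeomorph.Set.univ A.left).isHomeomorph, hg] at h2
        have h4 : (0 : WithBot ℕ∞) + 1 ≤ (0 : ℕ) := (add_le_add_left h1 1).trans h2
        norm_num at h4
      rw [key a, key b]
    refine ⟨0, fun _ _ => ⟨0, by simp⟩, fun x hx => (hx (EndAV.Hom.ext ?_)).elim⟩
    rw [← Category.id_comp x.toHom, id_eq_one_of_subsingleton A, MonObj.one_comp x.toHom]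
    rfl
  · obtain ⟨r, rfl⟩ : ∃ r, g = r + 1 := ⟨g - 1, by omega⟩
    obtain ⟨L, hampL, hsym⟩ := Degree.exists_isAmple_symmetric B
    obtain ⟨H, hampH, -⟩ := Degree.exists_isAmple_symmetric A
    exact ⟨form hg L hampL.1 H hampH.1, exists_int_form hg L hampL.1 H hampH.1,
      form_self_ne_zero hg L hampL.1 H hampH.1 hsym hampL hampH⟩

variable (K : Type u) [Field K] [Algebra k K] [IsAlgClosed K] (l : ℕ) [Fact l.Prime]

/-- Independent homomorphisms act independently on Tate modules. -/
theorem linearIndependent_tateMap (hl : (l : k) ≠ 0) {n : ℕ} (e : Fin n → EndAV.Hom A B)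
    (he : LinearIndependent ℤ e) :
    LinearIndependent ℤ_[l] fun i => EndAV.Hom.tateMap (A := A) (B := B) l (Isogeny.geomPt k K) (e i) := by
  obtain ⟨g, -, hg⟩ := Groth.L08.GrpDim.exists_dim A
  obtain ⟨h, -, hh⟩ := Groth.L08.GrpDim.exists_dim B
  obtain ⟨bA⟩ := TateRankGeom.nonempty_basis (A := A) K l hl hg
  obtain ⟨bB⟩ := TateRankGeom.nonempty_basis (A := B) K l hl hh
  haveI := Module.Free.of_basis bA
  haveI := Module.Finite.of_basis bA
  haveI := Module.Free.of_basis bB
  haveI := Module.Finite.of_basis bB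
  obtain ⟨b, hint, hani⟩ := exists_form A B
  refine LatticeBound.linearIndependent_map b hint hani _ (fun m x v hv => ?_) e he
  obtain ⟨ψ, hψ, e'⟩ := TateSat.exists_eq_pow_comp (l := l) K hl x.toHom m v hv
  haveI := hψ
  refine ⟨EndAV.Hom.of ψ, EndAV.Hom.ext ?_⟩
  rw [EndAV.Hom.toHom_zsmul, EndAV.Hom.toHom_of, e', MonObj.pow_comp, Category.id_comp, ← Nat.cast_pow,
    zpow_natCast]

/-- Independence in the group of morphisms is independence in `Hom`. -/
theorem linearIndependent_of {n : ℕ} (e : Fin n → (A ⟶ B)) [∀ i, IsMonHom (e i)]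
    (he : LinearIndependent ℤ fun i => Additive.ofMul (e i)) :
    LinearIndependent ℤ fun i => EndAV.Hom.of (e i) := by
  let T : EndAV.Hom A B →ₗ[ℤ] Additive (A ⟶ B) :=
    (AddMonoidHom.mk' (fun φ => Additive.ofMul φ.toHom) fun _ _ => rfl).toIntLinearMap
  exact LinearIndependent.of_comp T he

end Groth.Agent.AV.HomFin
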