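/-
The image of a homomorphism from an abelian variety is an abelian variety.
-/
import Groth.Agent.L26.AV.GroupSep
import Groth.Agent.L08.SubgroupObj
import Mathlib.AlgebraicGeometry.Morphisms.SchemeTheoreticallyDominant
import Mathlib.AlgebraicGeometry.Geometrically.Integral

set_option autoImplicit false
set_option backward.isDefEq.respectTransparency.types false

open CategoryTheory CategoryTheory.Limits MonoidalCategory CartesianMonoidalCategory MonObj GrpObj
  AlgebraicGeometry

universe u

namespace Groth.Agent.AV

/-- A morphism onto its scheme-theoretic image is scheme-theoretically dominant. -/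
theorem isSchDom_toImage {X Y : Scheme.{u}} (f : X ⟶ Y) [QuasiCompact f] :
    IsSchemeTheoreticallyDominant f.toImage := by
  refine ⟨?_⟩
  let U : Y.affineOpens → f.image.affineOpens :=
    fun V => ⟨f.imageι ⁻¹ᵁ V.1, V.2.preimage f.imageι⟩
  refine Scheme.IdealSheafData.ext_of_iSup_eq_top U ?_ fun V => ?_
  · change ⨆ V : Y.affineOpens, f.imageι ⁻¹ᵁ V.1 = ⊤
    rw [← Scheme.Hom.preimage_iSup, iSup_affineOpens_eq_top, Scheme.Hom.preimage_top]
  · rw [Scheme.Hom.ker_apply, Scheme.IdealSheafData.ideal_bot, Pi.bot_apply,
      ← RingHom.injective_iff_ker_eq_bot]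
    exact Scheme.Hom.toImage_app_injective f V

/-- Factor through a closed immersion after a scheme-theoretically dominant cover. -/
theorem exists_fac_of_schDom {B T T' G : Scheme.{u}} (i : B ⟶ G) [IsClosedImmersion i]
    (q : T' ⟶ T) [IsSchemeTheoreticallyDominant q] (g : T ⟶ G) (x : T' ⟶ B) (h : q ≫ g = x ≫ i) :
    ∃ z : T ⟶ B, z ≫ i = g := by
  refine ⟨IsClosedImmersion.lift i g ?_, IsClosedImmersion.lift_fac _ _ _⟩
  have h1 : i.ker ≤ (x ≫ i).ker := by
    rw [← Scheme.IdealSheafData.map_bot i, Scheme.Hom.ker_comp]
    exact Scheme.IdealSheafData.map_mono i bot_le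
  rw [← h, Scheme.Hom.ker_comp, q.ker_eq_bot, Scheme.IdealSheafData.map_bot] at h1
  exact h1

variable {k : Type u} [Field k]

theorem over_fac_of_schDom {B T T' G : Over (Spec (CommRingCat.of k))} (i : B ⟶ G)
    [IsClosedImmersion i.left] (q : T' ⟶ T) [IsSchemeTheoreticallyDominant q.left] (g : T ⟶ G)
    (x : T' ⟶ B) (h : q ≫ g = x ≫ i) : ∃ z : T ⟶ B, z ≫ i = g := by
  obtain ⟨z, hz⟩ := exists_fac_of_schDom i.left q.left g.left x.left (congrArg CommaMorphism.left h)
  refine ⟨Over.homMk z ?_, by ext; exact hz⟩
  rw [← Over.w i, ← Category.assoc, hz, Over.w]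

/-- The image of a homomorphism from an abelian variety into a group scheme locally of finite type. -/
theorem exists_image {A G : Over (Spec (CommRingCat.of k))} [GrpObj A] [IsProper A.hom]
    [GeometricallyIntegral A.hom] [GrpObj G] [LocallyOfFiniteType G.hom] (φ : A ⟶ G) [IsMonHom φ] :
    ∃ (B : Over (Spec (CommRingCat.of k))) (_ : GrpObj B) (i : B ⟶ G) (p : A ⟶ B),
      IsMonHom i ∧ IsClosedImmersion i.left ∧ IsProper B.hom ∧ GeometricallyIntegral B.hom ∧
      Surjective p.left ∧ p ≫ i = φ ∧ IsMonHom p := by
  have : IsSeparated G.hom := isSeparated_of_grpObj G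
  have : IsProper (φ.left ≫ G.hom) := by rw [Over.w]; infer_instance
  have : IsProper φ.left := IsProper.of_comp φ.left G.hom
  have : IsSchemeTheoreticallyDominant φ.left.toImage := isSchDom_toImage φ.left
  have : IsProper (φ.left.toImage ≫ φ.left.imageι) := by rw [Scheme.Hom.toImage_imageι]; infer_instance
  have : IsProper φ.left.toImage := IsProper.of_comp _ φ.left.imageι
  have hsurj : Surjective φ.left.toImage := ⟨Set.range_eq_univ.1 <| by
    rw [← (φ.left.toImage.isClosedMap.isClosed_range).closure_eq]
    exact φ.left.toImage.denseRange.closure_eq⟩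
  let B : Over (Spec (CommRingCat.of k)) := Over.mk (φ.left.imageι ≫ G.hom)
  let i : B ⟶ G := Over.homMk φ.left.imageι
  let p : A ⟶ B := Over.homMk φ.left.toImage (by
    change φ.left.toImage ≫ φ.left.imageι ≫ G.hom = A.hom
    rw [Scheme.Hom.toImage_imageι_assoc, Over.w])
  have hp : p ≫ i = φ := by ext; exact Scheme.Hom.toImage_imageι _
  have : IsClosedImmersion i.left := inferInstanceAs (IsClosedImmersion φ.left.imageι)
  have : Mono i := by
    have : Mono i.left := inferInstance
    exact Over.mono_of_mono_left i
  have : IsSchemeTheoreticallyDominant p.left :=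
    inferInstanceAs (IsSchemeTheoreticallyDominant φ.left.toImage)
  have : QuasiCompact p.left := inferInstanceAs (QuasiCompact φ.left.toImage)
  have : Surjective p.left := hsurj
  have : IsSeparated B.hom := inferInstanceAs (IsSeparated (φ.left.imageι ≫ G.hom))
  have : LocallyOfFiniteType B.hom :=
    inferInstanceAs (LocallyOfFiniteType (φ.left.imageι ≫ G.hom))
  have hUC : UniversallyClosed B.hom := by
    have : UniversallyClosed (p.left ≫ B.hom) := by rw [Over.w]; infer_instance
    exact UniversallyClosed.of_comp_surjective p.left B.hom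
  have hproper : IsProper B.hom := ⟨⟩
  -- geometric integrality
  have hGI : GeometricallyIntegral B.hom := by
    have : ObjectProperty.IsClosedUnderIsomorphisms (fun X : Scheme.{u} => IsIntegral X) :=
      ⟨fun e h => by
        have := h
        have : Nonempty _ := ⟨e.hom (Nonempty.some (inferInstance : Nonempty _))⟩
        exact isIntegral_of_isOpenImmersion e.inv⟩
    rw [GeometricallyIntegral.eq_geometrically, geometrically_iff_of_isClosedUnderIsomorphisms]
    intro K _ y
    let t : pullback A.hom y ⟶ pullback B.hom y :=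
      pullback.map A.hom y B.hom y p.left (𝟙 _) (𝟙 _) (by simp) (by simp)
    have : IsIntegral (pullback A.hom y) :=
      pullback_of_geometrically (GeometricallyIntegral.geometrically_isIntegral (f := A.hom)) K y
    have sq : IsPullback (pullback.fst A.hom y) t p.left (pullback.fst B.hom y) := by
      refine IsPullback.of_bot ?_ (pullback.lift_fst _ _ _).symm (IsPullback.of_hasPullback B.hom y)
      rw [Over.w, show t ≫ pullback.snd B.hom y = pullback.snd A.hom y from
        (pullback.lift_snd _ _ _).trans (Category.comp_id _)]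
      exact IsPullback.of_hasPullback A.hom y
    have : Flat (pullback.fst B.hom y) := inferInstance
    have : IsSchemeTheoreticallyDominant t := .of_isPullback sq
    have : QuasiCompact t := MorphismProperty.of_isPullback sq ‹QuasiCompact p.left›
    have : Surjective t := MorphismProperty.of_isPullback sq ‹Surjective p.left›
    rw [isIntegral_iff_irreducibleSpace_and_isReduced]
    refine ⟨?_, IsSchemeTheoreticallyDominant.isReduced t⟩
    have : Nonempty ↥(pullback B.hom y) := ⟨t (Nonempty.some inferInstance)⟩
    have hpre : PreirreducibleSpace ↥(pullback B.hom y) :=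
      ⟨by
        have := (IrreducibleSpace.isIrreducible_univ ↥(pullback A.hom y)).image t t.continuous.continuousOn
        rw [Set.image_univ, t.surjective.range_eq] at this
        exact this.isPreirreducible⟩
    exact { toPreirreducibleSpace := hpre, toNonempty := inferInstance }
  have : GeometricallyIntegral B.hom := hGI
  have : IsIntegral B.left := GeometricallyIntegral.isIntegral_of_subsingleton B.hom
  -- products
  have : Surjective (p ⊗ₘ p).left := by
    rw [Over.tensorHom_left]
    exact MorphismProperty.pullback_map (P := @Surjective) ‹Surjective p.left› ‹Surjective p.left› (Over.w p).symm (Over.w p).symm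
  have : IsReduced (B ⊗ B).left := by
    change IsReduced (pullback B.hom B.hom)
    have : IsLocallyNoetherian B.left := LocallyOfFiniteType.isLocallyNoetherian B.hom
    infer_instance
  have : IsSchemeTheoreticallyDominant (p ⊗ₘ p).left := by
    have : IsDominant (p ⊗ₘ p).left := ⟨(p ⊗ₘ p).left.surjective.denseRange⟩
    exact .of_isDominant _
  obtain ⟨z, hz⟩ : ∃ z, z ≫ i = (fst B B ≫ i) * (snd B B ≫ i) := by
    refine over_fac_of_schDom i (p ⊗ₘ p) _ (μ[A] ≫ p) ?_
    rw [Category.assoc, hp, IsMonHom.mul_hom, MonObj.comp_mul, tensorHom_fst_assoc,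
      tensorHom_snd_assoc, hp, Hom.mul_def]
    congr 1
  obtain ⟨v, hv⟩ : ∃ v, v ≫ i = i⁻¹ := by
    refine over_fac_of_schDom i p _ (ι[A] ≫ p) ?_
    rw [GrpObj.comp_inv, hp, Category.assoc, hp, Hom.inv_def, GrpObj.inv_hom]
  obtain ⟨inst, hi⟩ := Groth.L08.exists_grpObj_of_mono i ⟨η[A] ≫ p, by
    rw [Category.assoc, hp, IsMonHom.one_hom]⟩ ⟨z, hz⟩ ⟨v, hv⟩
  refine ⟨B, inst, i, p, hi, inferInstance, hproper, hGI, inferInstance, hp, ?_⟩
  letI := inst
  constructor
  · rw [← cancel_mono i, Category.assoc, hp, IsMonHom.one_hom, IsMonHom.one_hom]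
  · rw [← cancel_mono i, Category.assoc, hp, IsMonHom.mul_hom, Category.assoc, IsMonHom.mul_hom,
      ← Category.assoc (p ⊗ₘ p), tensorHom_comp_tensorHom, hp]

end Groth.Agent.AV
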