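import Groth.Agent.L26.AV.Degree
import Mathlib.RingTheory.Artinian.Module

/-!
# The number of torsion points of invertible order on an abelian variety
-/

set_option autoImplicit false
set_option linter.style.haveILetI false
set_option backward.isDefEq.respectTransparency.types false

universe u

open CategoryTheory CategoryTheory.Limits MonoidalCategory CartesianMonoidalCategory AlgebraicGeometry

open scoped MonObj

noncomputable section

namespace Groth.Agent.AV.TorsCard

/-- A finite reduced algebra over an algebraically closed field has as many points as its dimension. -/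
theorem card_algHom (k B : Type u) [Field k] [IsAlgClosed k] [CommRing B] [Algebra k B]
    [Module.Finite k B] [IsReduced B] : Nat.card (B →ₐ[k] k) = Module.finrank k B := by
  haveI : IsArtinianRing B := IsArtinianRing.of_finite k B
  haveI : Fintype (MaximalSpectrum B) := Fintype.ofFinite _
  have hbij : ∀ m : MaximalSpectrum B, Function.Bijective (algebraMap k (B ⧸ m.asIdeal)) := fun m =>
    letI := Ideal.Quotient.field m.asIdeal
    IsAlgClosed.algebraMap_bijective_of_isIntegral
  let pt : MaximalSpectrum B → (B →ₐ[k] k) := fun m =>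
    (AlgEquiv.ofBijective (Algebra.ofId k (B ⧸ m.asIdeal)) (hbij m)).symm.toAlgHom.comp
      (Ideal.Quotient.mkₐ k m.asIdeal)
  have hker : ∀ m b, pt m b = 0 ↔ b ∈ m.asIdeal := fun m b => by
    simp [pt, Ideal.Quotient.eq_zero_iff_mem]
  have hpt : Function.Bijective pt := by
    refine ⟨fun m n h => MaximalSpectrum.ext (Ideal.ext fun b => ?_), fun φ => ?_⟩
    · rw [← hker, h, hker]
    · have hsurj : Function.Surjective φ := fun c => ⟨algebraMap k B c, φ.commutes c⟩
      refine ⟨⟨RingHom.ker φ, RingHom.ker_isMaximal_of_surjective φ hsurj⟩, AlgHom.ext fun b => ?_⟩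
      have h1 : b - algebraMap k B (φ b) ∈ RingHom.ker φ := by simp [RingHom.mem_ker]
      have h2 := (hker ⟨RingHom.ker φ, RingHom.ker_isMaximal_of_surjective φ hsurj⟩ _).2 h1
      rw [map_sub, sub_eq_zero, AlgHom.commutes] at h2
      exact h2
  rw [← Nat.card_eq_of_bijective pt hpt, Nat.card_eq_fintype_card,
    ((IsArtinianRing.equivPi B).restrictScalars k).toLinearEquiv.finrank_eq, Module.finrank_pi_fintype]
  rw [Fintype.card, Finset.card_eq_sum_ones]
  refine Finset.sum_congr rfl fun m _ => ?_
  exact ((AlgEquiv.ofBijective (Algebra.ofId k (B ⧸ m.asIdeal)) (hbij m)).toLinearEquiv.finrank_eq.symm.trans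
    (Module.finrank_self k)).symm

/-- A finite étale scheme over an algebraically closed field has as many points as its degree. -/
theorem card_points {k : Type u} [Field k] [IsAlgClosed k] (P : Over (Spec (CommRingCat.of k)))
    [IsFinite P.hom] [IsReduced P.left] (s : Spec (CommRingCat.of k)) :
    Nat.card (Over.mk (𝟙 (Spec (CommRingCat.of k))) ⟶ P) = P.hom.finrank s := by
  haveI : IsAffine P.left := isAffine_of_isAffineHom P.hom
  obtain ⟨φ, hφ⟩ := Spec.map_surjective (P.left.isoSpec.inv ≫ P.hom)
  haveI : IsFinite (Spec.map φ) := hφ ▸ inferInstance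
  letI := φ.hom.toAlgebra
  haveI : Module.Finite k Γ(P.left, ⊤) := (IsFinite.SpecMap_iff φ).1 inferInstance
  haveI : Module.Flat k Γ(P.left, ⊤) := Module.Flat.of_free
  rw [← Scheme.Hom.finrank_comp_left_of_isIso P.left.isoSpec.inv P.hom, ← hφ,
    show Scheme.Hom.finrank (Spec.map φ) s = Module.finrank k Γ(P.left, ⊤) by
      rw [show φ = CommRingCat.ofHom (algebraMap k Γ(P.left, ⊤)) from rfl,
        Scheme.Hom.finrank_SpecMap_algebraMap, Module.rankAtStalk_eq_finrank_of_free]
      rfl,
    ← card_algHom k Γ(P.left, ⊤)]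
  let T : Over (Spec (CommRingCat.of k)) := Over.mk (𝟙 (Spec (CommRingCat.of k)))
  have hT : ∀ a : T ⟶ P, ∀ r : k, (Spec.preimage (a.left ≫ P.left.isoSpec.hom)).hom (φ.hom r) = r := by
    intro a r
    have : φ ≫ Spec.preimage (a.left ≫ P.left.isoSpec.hom) = 𝟙 _ :=
      Spec.map_injective (by
        rw [Spec.map_comp, Spec.map_preimage, hφ, Category.assoc, Iso.hom_inv_id_assoc, Over.w, Spec.map_id]
        rfl)
    exact congr($this r)
  refine Nat.card_eq_of_bijective (fun a : T ⟶ P =>
    (⟨(Spec.preimage (a.left ≫ P.left.isoSpec.hom)).hom, hT a⟩ : Γ(P.left, ⊤) →ₐ[k] k)) ⟨?_, fun ψ => ?_⟩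
  · intro a b h
    have h1 : Spec.preimage (a.left ≫ P.left.isoSpec.hom) = Spec.preimage (b.left ≫ P.left.isoSpec.hom) :=
      CommRingCat.hom_ext (congrArg AlgHom.toRingHom h)
    have h2 := congrArg Spec.map h1
    rw [Spec.map_preimage, Spec.map_preimage] at h2
    exact Over.OverMorphism.ext ((cancel_mono P.left.isoSpec.hom).1 h2)
  · refine ⟨Over.homMk (Spec.map (CommRingCat.ofHom ψ.toRingHom) ≫ P.left.isoSpec.inv) ?_, AlgHom.ext fun b => ?_⟩
    · show (_ ≫ _) ≫ P.hom = 𝟙 _
      rw [Category.assoc, ← hφ, ← Spec.map_comp, ← Spec.map_id]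
      congr 1
      exact CommRingCat.hom_ext ψ.comp_algebraMap
    · simp

variable {k : Type u} [Field k] [IsAlgClosed k] {A : Over (Spec (CommRingCat.of k))} [GrpObj A]
  [IsCommMonObj A] [IsProper A.hom] [GeometricallyIntegral A.hom]

/-- There are `N ^ (2 dim)` torsion points of invertible order `N`. -/
theorem card_torsPts {g : ℕ} (hg : topologicalKrullDim A.left = g) (N : ℕ) (hN : (N : k) ≠ 0) :
    Nat.card (AbDual.torsPts A N (Over.mk (𝟙 (Spec (CommRingCat.of k))))) = N ^ (2 * g) := by
  have hN1 : 1 ≤ N := Nat.one_le_iff_ne_zero.2 fun h => hN (by rw [h, Nat.cast_zero])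
  obtain ⟨_, _, _⟩ := Isogeny.finite_etale_surjective (A := A) N hN
  let P := pullback (𝟙 A ^ N) η[A]
  have hsq : IsPullback (pullback.fst (𝟙 A ^ N) η[A]) (pullback.snd _ _) (𝟙 A ^ N) η[A] :=
    IsPullback.of_hasPullback _ _
  have hsql := hsq.map (Over.forget _)
  haveI : IsIso (𝟙_ (Over (Spec (CommRingCat.of k)))).hom := inferInstanceAs (IsIso (𝟙 _))
  haveI hPf : IsFinite (pullback.snd (𝟙 A ^ N) η[A]).left :=
    MorphismProperty.of_isPullback hsql ‹IsFinite (𝟙 A ^ N).left›
  haveI : IsFinite P.hom := by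
    rw [← Over.w (pullback.snd (𝟙 A ^ N) η[A])]
    infer_instance
  haveI : Etale P.hom := by
    rw [← Over.w (pullback.snd (𝟙 A ^ N) η[A])]
    exact (MorphismProperty.cancel_right_of_respectsIso @Etale _
      (𝟙_ (Over (Spec (CommRingCat.of k)))).hom).2
      (MorphismProperty.of_isPullback hsql ‹Etale (𝟙 A ^ N).left›)
  haveI : IsReduced P.left := Groth.Agent.AV.isReduced_of_smooth_field P.hom
  let s : Spec (CommRingCat.of k) := IsLocalRing.closedPoint k
  have hcard : Nat.card (Over.mk (𝟙 (Spec (CommRingCat.of k))) ⟶ P) = N ^ (2 * g) := by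
    rw [card_points P s]
    refine Eq.trans ?_ (Degree.finrank_pow hN1 hg (η[A].left s))
    haveI : Flat (𝟙 A ^ N).left := inferInstance
    have h := @Scheme.Hom.finrank_of_isPullback _ _ _ _ _ _ _ _ hsql
      (show Flat (𝟙 A ^ N).left from inferInstance) (show IsFinite (𝟙 A ^ N).left from inferInstance) s
    refine Eq.trans ?_ h
    rw [show P.hom = (pullback.snd (𝟙 A ^ N) η[A]).left from
      ((Over.w (pullback.snd (𝟙 A ^ N) η[A])).symm.trans (Category.comp_id _))]
    rfl
  rw [← hcard]
  refine Nat.card_congr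
    { toFun := fun a => pullback.lift a.1 (toUnit _) (by
        rw [MonObj.comp_pow, Category.comp_id, ← Hom.one_def]
        exact a.2)
      invFun := fun b => ⟨b ≫ pullback.fst (𝟙 A ^ N) η[A], by
        show (b ≫ pullback.fst (𝟙 A ^ N) η[A]) ^ N = 1
        rw [← Category.comp_id (b ≫ pullback.fst (𝟙 A ^ N) η[A]), ← MonObj.comp_pow, Category.assoc,
          pullback.condition, ← Category.assoc, Hom.one_def, toUnit_unique (b ≫ _) (toUnit _)]⟩
      left_inv := fun a => Subtype.ext (pullback.lift_fst _ _ _)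
      right_inv := fun b => pullback.hom_ext (pullback.lift_fst _ _ _) (toUnit_unique _ _) }

end Groth.Agent.AV.TorsCard
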