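import Groth.Agent.L08.MulEtale
import Mathlib.RingTheory.Ideal.Quotient.Operations

/-!
# Multiplication by the characteristic kills infinitesimal neighbourhoods of the identity
-/

set_option autoImplicit false
set_option linter.style.haveILetI false

noncomputable section

universe u

open CategoryTheory AlgebraicGeometry Limits MonObj CartesianMonoidalCategory

namespace Groth.Agent.AV.MulPInfinitesimal

open Groth.L25.GrpDeriv Groth.L08.EtalePoint Groth.L08.TangentUnit

variable {K : Type u} [Field K] {G : Over (Spec (CommRingCat.of K))} [GrpObj G]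

/-- An element killed by all point derivations lies, up to a constant, in the square of the point. -/
theorem sub_mem_sq {B : Type u} [CommRing B] [Algebra K B] (χ : B →ₐ[K] K) (x : B)
    (h : ∀ w : B →ₗ[K] K, IsPtDer χ w → w x = 0) :
    x - algebraMap K B (χ x) ∈ RingHom.ker χ * RingHom.ker χ := by
  let P : Ideal B := RingHom.ker χ
  by_contra hb'
  have hne : Ideal.Quotient.mk (P * P) (x - algebraMap K B (χ x)) ≠ 0 := fun e =>
    hb' (Ideal.Quotient.eq_zero_iff_mem.1 e)
  obtain ⟨θ, hθ⟩ := Module.Projective.exists_dual_ne_zero K hne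
  let w : B →ₗ[K] K := θ.comp ((Ideal.Quotient.mkₐ K (P * P)).toLinearMap -
    LinearMap.smulRight χ.toLinearMap (1 : B ⧸ (P * P)))
  have hw : IsPtDer χ w := by
    intro a c
    have e2 : ((Ideal.Quotient.mkₐ K (P * P)).toLinearMap -
        LinearMap.smulRight χ.toLinearMap (1 : B ⧸ (P * P))) (a * c) =
        χ a • ((Ideal.Quotient.mkₐ K (P * P)).toLinearMap -
          LinearMap.smulRight χ.toLinearMap (1 : B ⧸ (P * P))) c +
        χ c • ((Ideal.Quotient.mkₐ K (P * P)).toLinearMap -
          LinearMap.smulRight χ.toLinearMap (1 : B ⧸ (P * P))) a := by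
      have hmem : (a - algebraMap K B (χ a)) * (c - algebraMap K B (χ c)) ∈ P * P :=
        Ideal.mul_mem_mul (by simp [P, RingHom.mem_ker]) (by simp [P, RingHom.mem_ker])
      have e := (Ideal.Quotient.eq_zero_iff_mem (I := P * P)).2 hmem
      rw [map_mul, map_sub, map_sub, Ideal.Quotient.mk_algebraMap, Ideal.Quotient.mk_algebraMap] at e
      simp only [LinearMap.sub_apply, LinearMap.smulRight_apply, AlgHom.toLinearMap_apply,
        map_mul, Ideal.Quotient.mkₐ_eq_mk, Algebra.smul_def]
      linear_combination e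
    exact (congrArg θ e2).trans ((map_add θ _ _).trans
      (congrArg₂ (· + ·) (map_smul θ _ _) (map_smul θ _ _)))
  refine hθ ?_
  rw [← h w hw]
  simp only [w, LinearMap.comp_apply, LinearMap.sub_apply, LinearMap.smulRight_apply,
    AlgHom.toLinearMap_apply, Ideal.Quotient.mkₐ_eq_mk, map_sub, Ideal.Quotient.mk_algebraMap,
    Algebra.smul_def, _root_.mul_one]

/-- A point congruent to the identity modulo a square zero ideal is killed by the characteristic. -/
theorem pow_eq_one {p : ℕ} (hp : (p : K) = 0) {R S : Type u} [CommRing R] [Algebra K R]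
    [CommRing S] [Algebra K S] (q : R →ₐ[K] S) (hq : Function.Surjective q)
    (hsq : ∀ x y, q x = 0 → q y = 0 → x * y = 0) (v : sp (K := K) R ⟶ G) (hv : spMap q ≫ v = 1) :
    v ^ p = 1 := by
  obtain ⟨A, _, _, uA, _, χA, B, _, _, uB, _, χB, φ, hχA, hχB, hφ, hcomp⟩ :=
    Groth.L08.MulEtale.exists_charts (G := G) (p : ℤ)
  have hker : ∀ a, φ a - algebraMap K B (χA a) ∈ RingHom.ker χB * RingHom.ker χB := by
    intro a
    rw [show χA a = χB (φ a) from (DFunLike.congr_fun hcomp a).symm]
    refine sub_mem_sq χB (φ a) fun w hw => ?_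
    have hres : IsPtDer χA (w.comp φ.toLinearMap) := by
      intro a b
      change w (φ (a * b)) = χA a * w (φ b) + χA b * w (φ a)
      rw [map_mul, hw, ← hcomp]
      rfl
    have h := Groth.L08.MulEtale.pt_comp_pow (p : ℤ) hχB hφ hcomp w hw _ hres fun a => rfl
    have h0 : w.comp φ.toLinearMap = 0 := by
      refine pt_inj (u' := uA) χA hres (isPtDer_zero χA) ?_
      rw [h, pt_zero χA hχA, ← pt_zero χB hχB (isPtDer_zero χB)]
      congr 1
      rw [Int.cast_natCast, hp, zero_smul]
    exact LinearMap.congr_fun h0 a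
  -- the point lies in the chart
  have hr : Set.range v.left ⊆ Set.range uB.left := by
    rintro _ ⟨P, rfl⟩
    have hP : RingHom.ker q.toRingHom ≤ P.asIdeal := fun x hx => by
      refine P.2.mem_of_pow_mem 2 ?_
      rw [pow_two, hsq x x hx hx]
      exact Ideal.zero_mem _
    have hmem : P ∈ Set.range (PrimeSpectrum.comap q.toRingHom) := by
      rw [range_comap_of_surjective _ _ hq]
      exact hP
    obtain ⟨Q, rfl⟩ := hmem
    refine Eq.mpr ?_ (Groth.L08.MulEtale.one_mem_range uB χB hχB)
    refine congrArg (· ∈ Set.range uB.left) ?_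
    have h1 := congrArg (fun f : sp (K := K) S ⟶ G => f.left Q) hv
    exact h1.trans (Groth.L25.Translate.one_left_apply _)
  obtain ⟨ψ, hψ⟩ := exists_lift (u' := uB) v hr
  have hqψ : q.comp ψ = (Algebra.ofId K S).comp χB := by
    refine spMap_inj (u' := uB) _ _ ?_
    rw [← spMap_comp, Category.assoc, hψ, hv, ← spMap_comp, Category.assoc, hχB, MonObj.comp_one]
  have hzero : ∀ b ∈ RingHom.ker χB * RingHom.ker χB, ψ b = 0 := by
    have h1 : ∀ b ∈ RingHom.ker χB, q (ψ b) = 0 := fun b hb => by
      rw [← AlgHom.comp_apply, hqψ, AlgHom.comp_apply, RingHom.mem_ker.1 hb, map_zero]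
    intro b hb
    induction hb using Submodule.mul_induction_on' with
    | mem_mul_mem x hx y hy => rw [map_mul, hsq _ _ (h1 x hx) (h1 y hy)]
    | add x _ y _ hx hy => rw [map_add, hx, hy, add_zero]
  have hψφ : ψ.comp φ = (Algebra.ofId K R).comp χA := AlgHom.ext fun a => by
    have := hzero _ (hker a)
    rw [map_sub, AlgHom.commutes, sub_eq_zero] at this
    exact this
  have : v ^ p = v ≫ (𝟙 G ^ (p : ℤ)) := by
    rw [GrpObj.comp_zpow, Category.comp_id, zpow_natCast]
  rw [this, ← hψ, Category.assoc, ← hφ, ← Category.assoc, spMap_comp, hψφ, ← spMap_comp,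
    Category.assoc, hχA, MonObj.comp_one]

/-- A point congruent to the identity modulo `J` is, after multiplying by `p ^ m`, congruent to the
identity modulo `J ^ (2 ^ m)`. -/
theorem pow_pow_eq_one {p : ℕ} (hp : (p : K) = 0) {R : Type u} [CommRing R] [Algebra K R]
    (J : Ideal R) (v : sp (K := K) R ⟶ G) (hv : spMap (Ideal.Quotient.mkₐ K J) ≫ v = 1) (m : ℕ) :
    spMap (Ideal.Quotient.mkₐ K (J ^ 2 ^ m)) ≫ (v ^ p ^ m) = 1 := by
  induction m with
  | zero =>
    let f : R ⧸ J →ₐ[K] R ⧸ J ^ 2 ^ 0 := Ideal.Quotient.factorₐ K (by rw [pow_zero, pow_one])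
    rw [show Ideal.Quotient.mkₐ K (J ^ 2 ^ 0) = f.comp (Ideal.Quotient.mkₐ K J) from AlgHom.ext fun _ => rfl,
      ← spMap_comp, Category.assoc, pow_zero p, pow_one v, hv, MonObj.comp_one]
  | succ m ih =>
    have hle : J ^ 2 ^ (m + 1) ≤ J ^ 2 ^ m :=
      Ideal.pow_le_pow_right (Nat.pow_le_pow_right (by omega) (by omega))
    let q : R ⧸ J ^ 2 ^ (m + 1) →ₐ[K] R ⧸ J ^ 2 ^ m := Ideal.Quotient.factorₐ K hle
    rw [pow_succ p m, pow_mul, MonObj.comp_pow]
    refine pow_eq_one hp q (Ideal.Quotient.factor_surjective hle) ?_ _ ?_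
    · intro x y hx hy
      obtain ⟨x, rfl⟩ := Ideal.Quotient.mk_surjective x
      obtain ⟨y, rfl⟩ := Ideal.Quotient.mk_surjective y
      rw [← map_mul, Ideal.Quotient.eq_zero_iff_mem, pow_succ, pow_mul, pow_two]
      exact Ideal.mul_mem_mul (Ideal.Quotient.eq_zero_iff_mem.1 hx) (Ideal.Quotient.eq_zero_iff_mem.1 hy)
    · rw [← Category.assoc, spMap_comp]
      exact ih

end Groth.Agent.AV.MulPInfinitesimal
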