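/-
Rigidity over a field for schemes with constant functions, by formal neighbourhoods.
-/
import Groth.Agent.L26.AV.RelMain
import Mathlib.AlgebraicGeometry.Morphisms.ClosedImmersion
import Mathlib.AlgebraicGeometry.Morphisms.Separated
import Mathlib.AlgebraicGeometry.Limits
import Mathlib.RingTheory.Filtration
import Mathlib.LinearAlgebra.Basis.VectorSpace
import Mathlib.RingTheory.TensorProduct.Free

open CategoryTheory CategoryTheory.Limits AlgebraicGeometry TopologicalSpace Opposite TensorProduct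

universe u

namespace Groth.Agent.AV

/-- Two maps from an affine scheme to a separated scheme agree if their agreement detects functions. -/
theorem eq_of_separating {P Z S : Scheme.{u}} [IsAffine P] (f g : P ⟶ Z) (s : Z ⟶ S) [IsSeparated s]
    (h : f ≫ s = g ≫ s)
    (H : ∀ c : Γ(P, ⊤), (∀ {T : Scheme.{u}} (t : T ⟶ P), t ≫ f = t ≫ g → t.appTop.hom c = 0) → c = 0) :
    f = g := by
  let P' : Over S := Over.mk (f ≫ s)
  let Z' : Over S := Over.mk s
  let f' : P' ⟶ Z' := Over.homMk f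
  let g' : P' ⟶ Z' := Over.homMk g h.symm
  have : IsSeparated Z'.hom := ‹_›
  let e := (equalizer.ι f' g').left
  have : IsAffine P'.left := ‹IsAffine P›
  have hinj : Function.Injective e.appTop := by
    rw [injective_iff_map_eq_zero]
    intro c hc
    refine H c fun {T} t ht => ?_
    let T' : Over S := Over.mk (t ≫ f ≫ s)
    let t' : T' ⟶ P' := Over.homMk t
    have hl : t' ≫ f' = t' ≫ g' := by ext1; exact ht
    have hfac : t = (equalizer.lift t' hl).left ≫ e := by
      rw [← Over.comp_left, equalizer.lift_ι]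
      rfl
    rw [hfac, Scheme.Hom.comp_appTop, CommRingCat.hom_comp, RingHom.comp_apply]
    erw [hc]
    rw [map_zero]
  have := IsClosedImmersion.isIso_of_injective_of_isAffine hinj
  rw [← cancel_epi e]
  exact congr($(equalizer.condition f' g').left)

theorem isoSpec_inv_preimage (Q : Scheme.{u}) [IsAffine Q] (h : Γ(Q, ⊤)) :
    Q.isoSpec.inv ⁻¹ᵁ Q.basicOpen h = PrimeSpectrum.basicOpen h := by
  rw [← Scheme.map_PrimeSpectrum_basicOpen_of_affine]
  show (Q.isoSpec.inv ≫ Q.isoSpec.hom) ⁻¹ᵁ (PrimeSpectrum.basicOpen h : (Spec Γ(Q, ⊤)).Opens) = _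
  rw [Iso.inv_hom_id]
  rfl

theorem appTop_SpecMap_isoSpec_inv {Q : Scheme.{u}} [IsAffine Q] {R : CommRingCat.{u}} (π : Γ(Q, ⊤) ⟶ R) :
    (Spec.map π ≫ Q.isoSpec.inv).appTop ≫ (Scheme.ΓSpecIso R).hom = π := by
  have e : Q.isoSpec.inv.appTop ≫ (Scheme.ΓSpecIso Γ(Q, ⊤)).hom = 𝟙 _ := by
    simp [Scheme.isoSpec] <;> exact Q.presheaf.map_id _
  rw [Scheme.Hom.comp_appTop, Category.assoc, Scheme.ΓSpecIso_naturality, reassoc_of% e]

/-- The quotient of a localisation. -/
theorem exists_quot {C : CommRingCat.{u}} (h : C) (I : Ideal C) :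
    ∃ (R : CommRingCat.{u}) (π : C ⟶ R), IsUnit (π.hom h) ∧ I.map π.hom = ⊥ ∧
      ∀ x, π.hom x = 0 → ∃ l : ℕ, h ^ l * x ∈ I := by
  refine ⟨CommRingCat.of (Localization.Away h ⧸ I.map (algebraMap C (Localization.Away h))),
    CommRingCat.ofHom ((Ideal.Quotient.mk _).comp (algebraMap C (Localization.Away h))),
    (IsLocalization.Away.algebraMap_isUnit h).map (Ideal.Quotient.mk _), ?_, fun x hx => ?_⟩
  · rw [CommRingCat.hom_ofHom, ← Ideal.map_map, Ideal.map_quotient_self]
  · simp only [CommRingCat.hom_ofHom, RingHom.comp_apply, Ideal.Quotient.eq_zero_iff_mem] at hx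
    obtain ⟨_, ⟨l, rfl⟩, hl⟩ :=
      (IsLocalization.algebraMap_mem_map_algebraMap_iff (Submonoid.powers h) _ I x).1 hx
    exact ⟨l, hl⟩

section Algebra

variable {k : Type u} [Field k] {B D : CommRingCat.{u}}

/-- A pushout of algebras over a field as a tensor product. -/
theorem exists_hom_tensor {A : Type u} [CommRing A] {f : CommRingCat.of k ⟶ B}
    {g : CommRingCat.of k ⟶ CommRingCat.of A} {inl : B ⟶ D} {inr : CommRingCat.of A ⟶ D}
    (h : IsPushout f g inl inr) :
    letI : Algebra k B := f.hom.toAlgebra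
    letI : Algebra k A := g.hom.toAlgebra
    ∃ e : D ⟶ CommRingCat.of (B ⊗[k] A), Function.Injective e.hom ∧
      inl ≫ e = CommRingCat.ofHom Algebra.TensorProduct.includeLeftRingHom ∧
      inr ≫ e = CommRingCat.ofHom Algebra.TensorProduct.includeRight.toRingHom := by
  let : Algebra k B := f.hom.toAlgebra
  let : Algebra k A := g.hom.toAlgebra
  let h' := CommRingCat.isPushout_tensorProduct k B A
  refine ⟨(h.isoIsPushout _ _ h').hom,
    (ConcreteCategory.bijective_of_isIso (h.isoIsPushout _ _ h').hom).1,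
    IsPushout.inl_isoIsPushout_hom .., IsPushout.inr_isoIsPushout_hom ..⟩

/-- Krull's intersection theorem for `B ⊗ A`, `A` local Noetherian and `B` over a field. -/
theorem eq_zero_of_forall_mem_pow_map {A : Type u} [CommRing A] [IsLocalRing A] [IsNoetherianRing A]
    {f : CommRingCat.of k ⟶ B} {g : CommRingCat.of k ⟶ CommRingCat.of A} {inl : B ⟶ D}
    {inr : CommRingCat.of A ⟶ D} (h : IsPushout f g inl inr) (c : D)
    (hc : ∀ n, c ∈ (IsLocalRing.maximalIdeal A ^ n).map inr.hom) : c = 0 := by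
  let : Algebra k B := f.hom.toAlgebra
  let : Algebra k A := g.hom.toAlgebra
  obtain ⟨e, he, -, her⟩ := exists_hom_tensor h
  refine he ?_
  rw [map_zero]
  let b := Module.Free.chooseBasis k B
  let bA := Algebra.TensorProduct.basis A b
  let E := TensorProduct.comm k B A
  suffices E (e.hom c) = 0 by simpa using this
  refine bA.forall_coord_eq_zero_iff.1 fun i => ?_
  have hI : bA.coord i (E (e.hom c)) ∈ ⨅ n, IsLocalRing.maximalIdeal A ^ n := by
    refine Submodule.mem_iInf _ |>.2 fun n => ?_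
    have hmem := Ideal.mem_map_of_mem e.hom (hc n)
    rw [Ideal.map_map, ← CommRingCat.hom_comp, her] at hmem
    refine Submodule.span_induction
      (p := fun x _ => ∀ y, bA.coord i (E (x * y)) ∈ IsLocalRing.maximalIdeal A ^ n) ?_ ?_ ?_ ?_ hmem
      1 |> fun h => by simpa using h
    · rintro _ ⟨a, ha, rfl⟩ y
      have hEy : E (((1 : B) ⊗ₜ[k] a) * y) = a • E y := by
        induction y using TensorProduct.induction_on with
        | zero => simp
        | tmul p q =>
          simp [E, Algebra.TensorProduct.tmul_mul_tmul, TensorProduct.smul_tmul']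
        | add p q hp hq => rw [mul_add, map_add, hp, hq, map_add, smul_add]
      show bA.coord i (E (((1 : B) ⊗ₜ[k] a) * y)) ∈ _
      rw [hEy, map_smul, smul_eq_mul]
      exact Ideal.mul_mem_right _ _ ha
    · intro y
      simp
    · intro p q _ _ hp hq y
      rw [add_mul, map_add, map_add]
      exact add_mem (hp y) (hq y)
    · intro r p _ hp y
      have := hp (r * y)
      rw [smul_eq_mul, mul_comm r p, mul_assoc]
      exact this
  rwa [Ideal.iInf_pow_eq_bot_of_isLocalRing _ (IsLocalRing.maximalIdeal.isMaximal A).ne_top] at hI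

/-- Base change of an injection of algebras over a field is injective. -/
theorem injective_of_isPushout_comp {R K : Type u} [CommRing R] [CommRing K]
    (ι : CommRingCat.of R ⟶ CommRingCat.of K) (hι : Function.Injective ι.hom) {D' : CommRingCat.{u}}
    {f : CommRingCat.of k ⟶ B} {g : CommRingCat.of k ⟶ CommRingCat.of R} {inl : B ⟶ D}
    {inr : CommRingCat.of R ⟶ D} (h : IsPushout f g inl inr) {inl' : B ⟶ D'}
    {inr' : CommRingCat.of K ⟶ D'} (h' : IsPushout f (g ≫ ι) inl' inr') (θ : D ⟶ D')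
    (hl : inl ≫ θ = inl') (hr : inr ≫ θ = ι ≫ inr') : Function.Injective θ.hom := by
  let : Algebra k B := f.hom.toAlgebra
  let : Algebra k R := g.hom.toAlgebra
  let : Algebra k K := (g ≫ ι).hom.toAlgebra
  let ιa : R →ₐ[k] K := { ι.hom with commutes' := fun _ => rfl }
  obtain ⟨e, he, hel, her⟩ := exists_hom_tensor h
  obtain ⟨e', -, hel', her'⟩ := exists_hom_tensor h'
  have hnat : θ ≫ e' = e ≫ CommRingCat.ofHom (Algebra.TensorProduct.map (AlgHom.id k B) ιa).toRingHom := by
    apply h.hom_ext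
    · rw [reassoc_of% hl, hel', reassoc_of% hel]
      ext x
      simp
    · rw [reassoc_of% hr, her', reassoc_of% her]
      ext x
      simp [ιa]
  have hinj : Function.Injective (e ≫ CommRingCat.ofHom
      (Algebra.TensorProduct.map (AlgHom.id k B) ιa).toRingHom).hom := by
    rw [CommRingCat.hom_comp, RingHom.coe_comp]
    exact Function.Injective.comp
      (Module.Flat.lTensor_preserves_injective_linearMap ιa.toLinearMap hι) he
  rw [← hnat, CommRingCat.hom_comp, RingHom.coe_comp] at hinj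
  exact hinj.of_comp

end Algebra

variable {k : Type u} [Field k] {X Z : Scheme.{u}} (a : X ⟶ Spec (CommRingCat.of k))

/-- The chart of a product over an affine open of the left factor. -/
noncomputable def chartMap {B : Scheme.{u}} (b : B ⟶ Spec (CommRingCat.of k)) (i : X.affineCover.I₀) :
    pullback (X.affineCover.f i ≫ a) b ⟶ pullback a b :=
  pullback.map (X.affineCover.f i ≫ a) b a b (X.affineCover.f i) (𝟙 B) (𝟙 _) (by simp) (by simp)

instance {B : Scheme.{u}} (b : B ⟶ Spec (CommRingCat.of k)) (i : X.affineCover.I₀) :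
    IsOpenImmersion (chartMap a b i) :=
  (Scheme.Pullback.openCoverOfLeft X.affineCover a b).map_prop i

theorem hom_ext_chart {B : Scheme.{u}} (b : B ⟶ Spec (CommRingCat.of k)) (f g : pullback a b ⟶ Z)
    (h : ∀ i, chartMap a b i ≫ f = chartMap a b i ≫ g) : f = g :=
  (Scheme.Pullback.openCoverOfLeft X.affineCover a b).hom_ext _ _ h

theorem isPushout_chart [IsAffine X] {A : Type u} [CommRing A] (φ : CommRingCat.of k ⟶ CommRingCat.of A) :
    IsPushout ((Scheme.ΓSpecIso (CommRingCat.of k)).inv ≫ a.appTop) φ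
      (pullback.fst a (Spec.map φ)).appTop
      (constMap (pullback.snd a (Spec.map φ)) ⊤) := by
  have h := isPushout_appTop_of_isPullback (IsPullback.of_hasPullback a (Spec.map φ))
  rw [constMap_top]
  exact h.of_iso (Scheme.ΓSpecIso _) (Iso.refl _) (Scheme.ΓSpecIso _) (Iso.refl _) (by simp)
    (Scheme.ΓSpecIso_naturality φ) (by simp) (by simp)

/-- Agreement descends along an injective extension of the coefficient ring. -/
theorem eq_of_injective_extension {R K : Type u} [CommRing R] [CommRing K]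
    (φ : CommRingCat.of k ⟶ CommRingCat.of R) (ι : CommRingCat.of R ⟶ CommRingCat.of K)
    (hι : Function.Injective ι.hom) (f g : pullback a (Spec.map φ) ⟶ Z) (s : Z ⟶ Spec (CommRingCat.of k))
    [IsSeparated s] (hfs : f ≫ s = g ≫ s)
    (h : ∀ {T : Scheme.{u}} (u : T ⟶ X) (v : T ⟶ Spec (CommRingCat.of K))
      (w : u ≫ a = (v ≫ Spec.map ι) ≫ Spec.map φ),
      pullback.lift u (v ≫ Spec.map ι) w ≫ f = pullback.lift u (v ≫ Spec.map ι) w ≫ g) : f = g := by
  refine hom_ext_chart a (Spec.map φ) f g fun i => ?_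
  let q := chartMap a (Spec.map φ) i
  show q ≫ f = q ≫ g
  let c := X.affineCover.f i
  have hq1 : q ≫ pullback.fst _ _ = pullback.fst _ _ ≫ c := pullback.lift_fst _ _ _
  have hq2 : q ≫ pullback.snd _ _ = pullback.snd (c ≫ a) (Spec.map φ) :=
    (pullback.lift_snd _ _ _).trans (Category.comp_id _)
  have : IsAffine (pullback (c ≫ a) (Spec.map φ)) := inferInstance
  refine eq_of_separating (P := pullback (c ≫ a) (Spec.map φ)) _ _ s
    (by simp only [Category.assoc, hfs]) fun x hx => ?_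
  have wK : pullback.fst (c ≫ a) (Spec.map (φ ≫ ι)) ≫ c ≫ a =
      (pullback.snd (c ≫ a) (Spec.map (φ ≫ ι)) ≫ Spec.map ι) ≫ Spec.map φ := by
    rw [pullback.condition, Spec.map_comp, Category.assoc]
  let θ : pullback (c ≫ a) (Spec.map (φ ≫ ι)) ⟶ pullback (c ≫ a) (Spec.map φ) :=
    pullback.lift (pullback.fst _ _) (pullback.snd _ _ ≫ Spec.map ι) wK
  have hθ : θ ≫ q = pullback.lift (pullback.fst _ _ ≫ c) (pullback.snd _ _ ≫ Spec.map ι)
      (by rw [Category.assoc]; exact wK) := by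
    apply pullback.hom_ext
    · rw [Category.assoc, hq1, pullback.lift_fst, pullback.lift_fst_assoc]
    · rw [Category.assoc, hq2, pullback.lift_snd, pullback.lift_snd]
  have hzero : θ.appTop.hom x = 0 := hx θ (by rw [reassoc_of% hθ, reassoc_of% hθ]; exact h _ _ _)
  refine injective_of_isPushout_comp ι hι (isPushout_chart (c ≫ a) φ) (isPushout_chart (c ≫ a) (φ ≫ ι))
    θ.appTop ?_ ?_ (hzero.trans (map_zero _).symm)
  · rw [← Scheme.Hom.comp_appTop, pullback.lift_fst]
  · rw [constMap_top, Category.assoc, ← Scheme.Hom.comp_appTop, pullback.lift_snd,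
      Scheme.Hom.comp_appTop, constMap_top, ← Scheme.ΓSpecIso_inv_naturality_assoc]

/-- Formal rigidity over a field: maps agreeing on a section and collapsing the closed fibre agree. -/
theorem eq_of_collapse [CompactSpace X] [QuasiSeparatedSpace X]
    (ha : Function.Surjective a.appTop.hom) (x₀ : Spec (CommRingCat.of k) ⟶ X) (hx₀ : x₀ ≫ a = 𝟙 _)
    {A : Type u} [CommRing A] [IsLocalRing A] [IsNoetherianRing A]
    (φ : CommRingCat.of k ⟶ CommRingCat.of A)
    (f g : pullback a (Spec.map φ) ⟶ Z) (s : Z ⟶ Spec (CommRingCat.of k)) [IsSeparated s]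
    (hfs : f ≫ s = g ≫ s)
    (hsec : pullback.lift (Spec.map φ ≫ x₀) (𝟙 _) (by rw [Category.assoc, hx₀, Category.comp_id, Category.id_comp]) ≫ f =
      pullback.lift (Spec.map φ ≫ x₀) (𝟙 _) (by rw [Category.assoc, hx₀, Category.comp_id, Category.id_comp]) ≫ g)
    (z₀ : Z) (hf : ∀ p, pullback.snd a (Spec.map φ) p = IsLocalRing.closedPoint A → f p = z₀)
    (hg : ∀ p, pullback.snd a (Spec.map φ) p = IsLocalRing.closedPoint A → g p = z₀) : f = g := by
  let m := IsLocalRing.maximalIdeal A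
  let ξ := pullback.snd a (Spec.map φ)
  let σ : Spec (CommRingCat.of A) ⟶ pullback a (Spec.map φ) := pullback.lift (Spec.map φ ≫ x₀) (𝟙 _)
    (by rw [Category.assoc, hx₀, Category.comp_id, Category.id_comp])
  let r : CommRingCat.of A ⟶ CommRingCat.of (IsLocalRing.ResidueField A) :=
    CommRingCat.ofHom (IsLocalRing.residue A)
  let i : pullback a (Spec.map (φ ≫ r)) ⟶ pullback a (Spec.map φ) :=
    pullback.lift (pullback.fst _ _) (pullback.snd _ _ ≫ Spec.map r)
      (by rw [Category.assoc, ← Spec.map_comp, pullback.condition])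
  have hj : Function.Surjective (pullback.snd a (Spec.map (φ ≫ r))).appTop.hom :=
    surjective_appTop_of_isPullback_field (φ ≫ r) (IsPullback.of_hasPullback _ _) ha
  have H : IsPullback i (pullback.snd a (Spec.map (φ ≫ r))) ξ (Spec.map r) := by
    refine IsPullback.of_right (h₁₂ := pullback.fst a (Spec.map φ)) ?_ (pullback.lift_snd _ _ _)
      (IsPullback.of_hasPullback _ _)
    rw [pullback.lift_fst, ← Spec.map_comp]
    exact IsPullback.of_hasPullback _ _
  have : Flat (Spec.map φ) := inferInstance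
  have : Flat ξ := inferInstanceAs (Flat (pullback.snd a (Spec.map φ)))
  obtain ⟨_, ⟨(V : Z.Opens), hV, rfl⟩, hzV, -⟩ := Z.isBasis_affineOpens.exists_subset_of_mem_open
    (Set.mem_univ z₀) isOpen_univ
  let W : (pullback a (Spec.map φ)).Opens := f ⁻¹ᵁ V ⊓ g ⁻¹ᵁ V
  have hW : ∀ p, ξ p = IsLocalRing.closedPoint A → p ∈ W := fun p hp =>
    ⟨show f p ∈ V from (hf p hp).symm ▸ hzV, show g p ∈ V from (hg p hp).symm ▸ hzV⟩
  have hres : ∀ z : Spec (CommRingCat.of (IsLocalRing.ResidueField A)),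
      Spec.map r z = IsLocalRing.closedPoint A := fun z => by
    rw [Subsingleton.elim z (IsLocalRing.closedPoint _)]
    have : IsLocalHom r.hom := IsLocalHom.of_surjective _ IsLocalRing.residue_surjective
    exact IsLocalRing.comap_closedPoint r.hom
  have hiW : Set.range i ⊆ Set.range W.ι := by
    rw [Scheme.Opens.range_ι]
    rintro _ ⟨z, rfl⟩
    refine hW _ ?_
    rw [← Scheme.Hom.comp_apply, H.w, Scheme.Hom.comp_apply]
    exact hres _
  let i' := IsOpenImmersion.lift W.ι i hiW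
  have hi' : i' ≫ W.ι = i := IsOpenImmersion.lift_fac _ _ _
  have H' : IsPullback i' (pullback.snd a (Spec.map (φ ≫ r))) (W.ι ≫ ξ) (Spec.map r) :=
    IsPullback.of_isLimit' ⟨by rw [reassoc_of% hi', H.w]⟩ (PullbackCone.IsLimit.mk _
      (fun s => H.lift (s.fst ≫ W.ι) s.snd (by rw [Category.assoc, s.condition]))
      (fun s => by rw [← cancel_mono W.ι, Category.assoc, hi', H.lift_fst])
      (fun s => H.lift_snd _ _ _)
      (fun s q h1 h2 => H.hom_ext (by rw [H.lift_fst, ← h1, Category.assoc, hi'])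
        (by rw [H.lift_snd, ← h2])))
  have hσW : Set.range σ ⊆ Set.range W.ι := by
    rw [Scheme.Opens.range_ι]
    rintro _ ⟨y, rfl⟩
    refine (IsLocalRing.specializes_closedPoint y).mem_open (σ ⁻¹ᵁ W).2 (hW _ ?_)
    show (σ ≫ ξ) _ = _
    rw [pullback.lift_snd]
    rfl
  let σ' := IsOpenImmersion.lift W.ι σ hσW
  have hσ' : σ' ≫ W.ι = σ := IsOpenImmersion.lift_fac _ _ _
  have : IsAffine V := hV
  let f' := f.resLE V W inf_le_left
  let g' := g.resLE V W inf_le_right
  have hvan : ∀ v : Γ((V : Scheme.{u}), ⊤), σ'.appTop.hom (f'.appTop.hom v - g'.appTop.hom v) = 0 := by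
    intro v
    rw [map_sub, sub_eq_zero]
    have h : σ' ≫ f' = σ' ≫ g' := by
      rw [← cancel_mono V.ι, Category.assoc, Category.assoc, Scheme.Hom.resLE_comp_ι,
        Scheme.Hom.resLE_comp_ι, reassoc_of% hσ', reassoc_of% hσ']
      exact hsec
    exact congrArg (fun φ : Spec (CommRingCat.of A) ⟶ (V : Scheme.{u}) => φ.appTop.hom v) h
  -- agreement on affine schemes over `W` killing a power of the maximal ideal
  have hagree : ∀ (R : CommRingCat.{u}) (t : Spec R ⟶ (W : Scheme.{u})) (U : (W : Scheme.{u}).Opens)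
      (_ : IsAffineOpen U) (_ : ⊤ ≤ t ⁻¹ᵁ U) (ψ : CommRingCat.of A ⟶ R) (n : ℕ),
      t ≫ W.ι ≫ ξ = Spec.map ψ → (m ^ n).map ψ.hom = ⊥ → t ≫ W.ι ≫ f = t ≫ W.ι ≫ g := by
    intro R t U hU ht ψ n hψ hn
    have key : t ≫ f' = t ≫ g' := by
      refine ext_of_isAffine ?_
      ext v
      simp only [Scheme.Hom.comp_appTop, CommRingCat.hom_comp, RingHom.comp_apply]
      rw [← sub_eq_zero, ← map_sub]
      have hmem := res_mem_pow_of_section (W.ι ≫ ξ) H' hj σ'
        (by rw [reassoc_of% hσ']; exact pullback.lift_snd _ _ _) _ (hvan v) hU n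
      have h1 := Ideal.mem_map_of_mem (t.appLE U ⊤ ht ≫ (Scheme.ΓSpecIso R).hom).hom hmem
      have e1 : constMap (W.ι ≫ ξ) U ≫ t.appLE U ⊤ ht ≫ (Scheme.ΓSpecIso R).hom = ψ := by
        rw [← Category.assoc (constMap (W.ι ≫ ξ) U), constMap_comp, hψ, constMap_top, Category.assoc,
          Scheme.ΓSpecIso_naturality, Iso.inv_hom_id_assoc]
      have e2 : (W : Scheme.{u}).presheaf.map (homOfLE (le_top : U ≤ ⊤)).op ≫ t.appLE U ⊤ ht ≫
          (Scheme.ΓSpecIso R).hom = t.appTop ≫ (Scheme.ΓSpecIso R).hom := by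
        rw [Scheme.Hom.map_appLE_assoc]
        exact congrArg (· ≫ _) (Scheme.Hom.app_eq_appLE t (U := ⊤)).symm
      rw [Ideal.map_map, ← CommRingCat.hom_comp, e1, hn, Ideal.mem_bot, ← RingHom.comp_apply,
        ← CommRingCat.hom_comp, e2] at h1
      exact (ConcreteCategory.bijective_of_isIso (Scheme.ΓSpecIso R).hom).1 (h1.trans (map_zero _).symm)
    have := congrArg (· ≫ V.ι) key
    simpa [f', g'] using this
  refine hom_ext_chart a (Spec.map φ) f g fun i => ?_
  let q := chartMap a (Spec.map φ) i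
  show q ≫ f = q ≫ g
  let c₀ := X.affineCover.f i
  let Q := pullback (c₀ ≫ a) (Spec.map φ)
  have hq2 : q ≫ ξ = pullback.snd (c₀ ≫ a) (Spec.map φ) :=
    (pullback.lift_snd _ _ _).trans (Category.comp_id _)
  have : IsAffine Q := inferInstanceAs (IsAffine (pullback (c₀ ≫ a) (Spec.map φ)))
  refine eq_of_separating (P := Q) _ _ s (by simp only [Category.assoc, hfs]) fun c hc => ?_
  let cm := constMap (pullback.snd (c₀ ≫ a) (Spec.map φ)) ⊤
  refine eq_zero_of_forall_mem_pow_map (isPushout_chart (c₀ ≫ a) φ) c fun n => ?_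
  let I := (m ^ n).map cm.hom
  show c ∈ I
  by_contra hcI
  have hne : (Submodule.colon I {c} : Ideal Γ(Q, ⊤)) ≠ ⊤ := fun h => hcI (by
    have := (Ideal.eq_top_iff_one _).1 h
    rw [Submodule.mem_colon_singleton, one_smul] at this
    exact this)
  obtain ⟨M, hM, hIM⟩ := Ideal.exists_le_maximal _ hne
  by_cases hmM : m.map cm.hom ≤ M
  · -- a point over the closed point
    let p : Q := Q.isoSpec.inv (⟨M, hM.isPrime⟩ : PrimeSpectrum Γ(Q, ⊤))
    have hp : ξ (q p) = IsLocalRing.closedPoint A := by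
      rw [← Scheme.Hom.comp_apply, hq2]
      have e : Q.isoSpec.inv ≫ pullback.snd (c₀ ≫ a) (Spec.map φ) = Spec.map cm := by
        rw [Iso.inv_comp_eq]
        show _ = Q.toSpecΓ ≫ _
        rw [show cm = (Scheme.ΓSpecIso (CommRingCat.of A)).inv ≫ (pullback.snd (c₀ ≫ a) (Spec.map φ)).appTop
          from constMap_top _, Spec.map_comp, ← Scheme.toSpecΓ_naturality_assoc, ← Scheme.isoSpec_Spec_inv]
        simp [Scheme.isoSpec]
      show (Q.isoSpec.inv ≫ pullback.snd (c₀ ≫ a) (Spec.map φ)) _ = _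
      rw [e]
      refine PrimeSpectrum.ext ?_
      exact ((IsLocalRing.maximalIdeal.isMaximal A).eq_of_le (Ideal.IsPrime.comap cm.hom).ne_top
        (Ideal.map_le_iff_le_comap.1 hmM)).symm
    obtain ⟨h, hh, hph⟩ := (isAffineOpen_top Q).exists_basicOpen_le (V := q ⁻¹ᵁ W) ⟨p, hW _ hp⟩ trivial
    have hhM : h ∉ M := by
      intro hhM
      have hp' : Q.isoSpec.hom p ∈ PrimeSpectrum.basicOpen h := by
        rw [show PrimeSpectrum.basicOpen h = Q.isoSpec.inv ⁻¹ᵁ Q.basicOpen h from
          (isoSpec_inv_preimage Q h).symm]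
        show Q.isoSpec.inv (Q.isoSpec.hom p) ∈ Q.basicOpen h
        rw [← Scheme.Hom.comp_apply, Iso.hom_inv_id]
        exact hph
      have e : Q.isoSpec.hom p = (⟨M, hM.isPrime⟩ : PrimeSpectrum Γ(Q, ⊤)) := by
        show (Q.isoSpec.inv ≫ Q.isoSpec.hom) _ = _
        rw [Iso.inv_hom_id]
        rfl
      rw [e] at hp'
      exact hp' hhM
    obtain ⟨R', π, hπu, hπI, hπ0⟩ := exists_quot h I
    let t₀ : Spec R' ⟶ Q := Spec.map π ≫ Q.isoSpec.inv
    have ht₀ : Set.range t₀ ⊆ (Q.basicOpen h : Set Q) := by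
      rintro _ ⟨y, rfl⟩
      show Spec.map π y ∈ Q.isoSpec.inv ⁻¹ᵁ Q.basicOpen h
      rw [isoSpec_inv_preimage]
      intro hy
      exact (Ideal.IsPrime.ne_top y.2) (Ideal.eq_top_of_isUnit_mem _ hy hπu)
    have htW : Set.range (t₀ ≫ q) ⊆ Set.range W.ι := by
      rw [Scheme.Opens.range_ι]
      rintro _ ⟨y, rfl⟩
      exact hh (ht₀ ⟨y, rfl⟩)
    let t := IsOpenImmersion.lift W.ι (t₀ ≫ q) htW
    have ht : t ≫ W.ι = t₀ ≫ q := IsOpenImmersion.lift_fac _ _ _
    have hUaff : IsAffineOpen (W.ι ⁻¹ᵁ (q ''ᵁ Q.basicOpen h)) := by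
      refine (((isAffineOpen_top Q).basicOpen h).image_of_isOpenImmersion q).preimage_of_isOpenImmersion W.ι ?_
      rw [Scheme.Opens.opensRange_ι]
      rintro _ ⟨y, hy, rfl⟩
      exact hh hy
    have htU : ⊤ ≤ t ⁻¹ᵁ (W.ι ⁻¹ᵁ (q ''ᵁ Q.basicOpen h)) := by
      intro y _
      show (t ≫ W.ι) y ∈ q ''ᵁ Q.basicOpen h
      rw [ht]
      exact ⟨t₀ y, ht₀ ⟨y, rfl⟩, rfl⟩
    have hξt : t ≫ W.ι ≫ ξ = Spec.map (cm ≫ π) := by
      rw [reassoc_of% ht, hq2, Spec.map_comp]
      have e : Q.isoSpec.inv ≫ pullback.snd (c₀ ≫ a) (Spec.map φ) = Spec.map cm := by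
        rw [Iso.inv_comp_eq]
        show _ = Q.toSpecΓ ≫ _
        rw [show cm = (Scheme.ΓSpecIso (CommRingCat.of A)).inv ≫ (pullback.snd (c₀ ≫ a) (Spec.map φ)).appTop
          from constMap_top _, Spec.map_comp, ← Scheme.toSpecΓ_naturality_assoc, ← Scheme.isoSpec_Spec_inv]
        simp [Scheme.isoSpec]
      rw [Category.assoc, e]
    have hn : (m ^ n).map (cm ≫ π).hom = ⊥ := by
      rw [CommRingCat.hom_comp, ← Ideal.map_map]
      exact hπI
    have hag := hagree _ t _ hUaff htU (cm ≫ π) n hξt hn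
    rw [reassoc_of% ht, reassoc_of% ht] at hag
    have h0 := hc t₀ (by simpa only [Category.assoc] using hag)
    have h1 : π.hom c = 0 := by
      rw [← appTop_SpecMap_isoSpec_inv π, CommRingCat.hom_comp, RingHom.comp_apply, h0, map_zero]
    obtain ⟨l, hl⟩ := hπ0 c h1
    have : h ^ l ∈ M := hIM (Submodule.mem_colon_singleton.2 hl)
    exact hhM (hM.isPrime.mem_of_pow_mem l this)
  · obtain ⟨_, ⟨b, hb, rfl⟩, he⟩ : ∃ e ∈ cm.hom '' m, e ∉ M := by
      by_contra hcon
      push Not at hcon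
      exact hmM (Ideal.map_le_iff_le_comap.2 fun b hb => hcon _ ⟨b, hb, rfl⟩)
    have h2 : cm.hom b ^ n ∈ Submodule.colon I {c} := by
      rw [Submodule.mem_colon_singleton, smul_eq_mul]
      exact Ideal.mul_mem_right _ _ (by rw [← map_pow]; exact Ideal.mem_map_of_mem _ (Ideal.pow_mem_pow hb n))
    exact he (hM.isPrime.mem_of_pow_mem n (hIM h2))

/-- `eq_of_injective_extension` for bundled rings. -/
theorem eq_of_injective_extension' {R K : CommRingCat.{u}} (φ : CommRingCat.of k ⟶ R) (ι : R ⟶ K)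
    (hι : Function.Injective ι.hom) (f g : pullback a (Spec.map φ) ⟶ Z) (s : Z ⟶ Spec (CommRingCat.of k))
    [IsSeparated s] (hfs : f ≫ s = g ≫ s)
    (h : ∀ {T : Scheme.{u}} (u : T ⟶ X) (v : T ⟶ Spec K)
      (w : u ≫ a = (v ≫ Spec.map ι) ≫ Spec.map φ),
      pullback.lift u (v ≫ Spec.map ι) w ≫ f = pullback.lift u (v ≫ Spec.map ι) w ≫ g) : f = g :=
  eq_of_injective_extension a (R := R) (K := K) φ ι hι f g s hfs h

/-- `eq_of_collapse` for bundled rings. -/
theorem eq_of_collapse' [CompactSpace X] [QuasiSeparatedSpace X]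
    (ha : Function.Surjective a.appTop.hom) (x₀ : Spec (CommRingCat.of k) ⟶ X) (hx₀ : x₀ ≫ a = 𝟙 _)
    {A : CommRingCat.{u}} [IsLocalRing A] [IsNoetherianRing A] (φ : CommRingCat.of k ⟶ A)
    (f g : pullback a (Spec.map φ) ⟶ Z) (s : Z ⟶ Spec (CommRingCat.of k)) [IsSeparated s]
    (hfs : f ≫ s = g ≫ s)
    (hsec : pullback.lift (Spec.map φ ≫ x₀) (𝟙 _) (by rw [Category.assoc, hx₀, Category.comp_id, Category.id_comp]) ≫ f =
      pullback.lift (Spec.map φ ≫ x₀) (𝟙 _) (by rw [Category.assoc, hx₀, Category.comp_id, Category.id_comp]) ≫ g)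
    (z₀ : Z) (hf : ∀ p, pullback.snd a (Spec.map φ) p = IsLocalRing.closedPoint A → f p = z₀)
    (hg : ∀ p, pullback.snd a (Spec.map φ) p = IsLocalRing.closedPoint A → g p = z₀) : f = g :=
  eq_of_collapse a ha x₀ hx₀ (A := A) φ f g s hfs hsec z₀ hf hg

end Groth.Agent.AV
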