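import Groth.Agent.L26.AV.InterPic
import Groth.Agent.L26.AV.Degree
import Groth.Agent.L26.AV.DimQF
import Groth.Agent.L26.AV.Image
import Groth.Agent.L22.Inter.Mixed
import Mathlib.RingTheory.MvPolynomial.Homogeneous

/-!
# The degree of homomorphisms of abelian varieties is a homogeneous polynomial of degree `2g`
-/

set_option autoImplicit false
set_option linter.style.haveILetI false
set_option linter.unusedSectionVars false
set_option backward.isDefEq.respectTransparency false

universe u

open CategoryTheory CategoryTheory.Limits MonoidalCategory CartesianMonoidalCategory AlgebraicGeometry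

open scoped MonObj

noncomputable section

namespace Groth.Agent.AV.DegreeForm

open Groth.L22.Inter InterPic

attribute [local instance] Groth.L08.Cube.clMonoid InterPic.picLaw

variable {k : Type u} [Field k] {A B : Over (Spec (CommRingCat.of k))}
  [GrpObj B] [IsProper B.hom] [GeometricallyIntegral B.hom]
  (L : B.left.Modules) (hL : PicF.IsInvertible L)

/-- The pullback class in the Picard group. -/
def F {W : Over (Spec (CommRingCat.of k))} (φ : W ⟶ B) : Additive (PicLoc.PicSet W.left) :=
  Additive.ofMul (pullPic φ.left (PicGrp.cls L hL))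

theorem F_val {W : Over (Spec (CommRingCat.of k))} (φ : W ⟶ B) :
    (F L hL φ).toMul.1 = Groth.L08.Cube.pc L φ := rfl

variable [IsCommMonObj B] {W : Over (Spec (CommRingCat.of k))}

theorem F_one : F L hL (1 : W ⟶ B) = 0 := Subtype.ext (Groth.L08.Cube.pc_one L hL W)

theorem F_cube (x y z : W ⟶ B) : F L hL (x * y * z) + F L hL x + F L hL y + F L hL z =
    F L hL (x * y) + F L hL (x * z) + F L hL (y * z) :=
  Subtype.ext (Groth.L08.Cube.cube_relation L hL x y z)

/-- The bilinear form of the class. -/
def Bil : Additive (W ⟶ B) →+ Additive (W ⟶ B) →+ Additive (PicLoc.PicSet W.left) :=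
  AddMonoidHom.mk' (fun x : Additive (W ⟶ B) => AddMonoidHom.mk'
    (fun y : Additive (W ⟶ B) => F L hL (x.toMul * y.toMul) - F L hL x.toMul - F L hL y.toMul) (fun y z => by
      have h := F_cube L hL (Additive.toMul x) (Additive.toMul y) (Additive.toMul z)
      simp only [toMul_add]
      rw [← mul_assoc, eq_sub_of_add_eq (eq_sub_of_add_eq (eq_sub_of_add_eq h))]
      abel)) fun x x' => by
    refine AddMonoidHom.ext fun y => ?_
    have h := F_cube L hL (Additive.toMul x) (Additive.toMul x') (Additive.toMul y)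
    simp only [AddMonoidHom.mk'_apply, AddMonoidHom.add_apply, toMul_add]
    rw [eq_sub_of_add_eq (eq_sub_of_add_eq (eq_sub_of_add_eq h))]
    abel

variable (hsym : Groth.L08.Cube.pc L (𝟙 B)⁻¹ = Groth.L08.Cube.pc L (𝟙 B))
include hsym

theorem F_inv (x : W ⟶ B) : F L hL x⁻¹ = F L hL x := by
  refine Subtype.ext ?_
  show Groth.L08.Cube.pc L x⁻¹ = Groth.L08.Cube.pc L x
  have e : x⁻¹ = x ≫ (𝟙 B)⁻¹ := by rw [GrpObj.comp_inv, Category.comp_id]
  rw [e, ← Groth.L08.Cube.pullCl_pc, hsym, Groth.L08.Cube.pullCl_pc, Category.comp_id]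

theorem Bil_self (x : W ⟶ B) :
    Bil L hL (Additive.ofMul x) (Additive.ofMul x) = (2 : ℤ) • F L hL x := by
  have h := F_cube L hL x x x⁻¹
  rw [mul_inv_cancel, mul_assoc, mul_inv_cancel, mul_one, F_inv L hL hsym, F_one, add_zero, add_zero] at h
  show F L hL (x * x) - F L hL x - F L hL x = _
  rw [← h]
  abel

omit hsym

variable [GrpObj A] [IsProper A.hom] [GeometricallyIntegral A.hom]

local instance overA : A.left.Over (Spec (CommRingCat.of k)) := ⟨A.hom⟩
local instance : IsProper (A.left ↘ Spec (CommRingCat.of k)) := inferInstanceAs (IsProper A.hom)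
local instance overB : B.left.Over (Spec (CommRingCat.of k)) := ⟨B.hom⟩
local instance : IsProper (B.left ↘ Spec (CommRingCat.of k)) := inferInstanceAs (IsProper B.hom)
local instance : IsIntegral A.left := GeometricallyIntegral.isIntegral_of_subsingleton A.hom
local instance : IsIntegral B.left := GeometricallyIntegral.isIntegral_of_subsingleton B.hom

variable {g : ℕ}

/-- The top self intersection of the pullback of `L`, over that of `L`. -/
def deg (hA : topologicalKrullDim A.left = g) (φ : A ⟶ B) : ℚ :=
  inter k hA.le (fun _ : Fin g => F L hL φ) / altT k (fun _ : Fin g => L) (Coh.structureModule B.left)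

theorem inter_F (hA : topologicalKrullDim A.left = g) (φ : A ⟶ B) :
    inter k hA.le (fun _ : Fin g => F L hL φ) =
      altT k (fun _ : Fin g => (Scheme.Modules.pullback φ.left).obj L) (Coh.structureModule A.left) :=
  interFun_eq k _ fun _ => rfl

omit hL in
theorem altT_pos (hamp : CohB1.IsAmple L) (hB : topologicalKrullDim B.left = g) :
    0 < altT k (fun _ : Fin g => L) (Coh.structureModule B.left) := by
  haveI : IsLocallyNoetherian B.left := LocallyOfFiniteType.isLocallyNoetherian B.hom
  obtain ⟨b, ⟨M, rfl, hM⟩, hb⟩ := Groth.L08.Cube.exists_inverseCl (a := PicF.cl L) ⟨L, rfl, hamp.1⟩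
  have hd : topologicalKrullDim (CohB1.support (Coh.structureModule B.left)) = g := by
    rw [Degree.support_structure, ← hB]
    exact IsHomeomorph.topologicalKrullDim_eq _ (Homeomorph.Set.univ B.left).isHomeomorph
  exact ((mixed k (fun _ : Fin g => L) (fun _ => M) (fun _ => hamp)
    (fun _ => (PicGrp.cl_eq_cl_iff _ _).1 hb) Groth.L16.CohClosedPush.isCoh_structure hd.le).2.2 hd)

/-- For a finite dominant flat morphism the degree is the residue degree. -/
theorem finrank_eq_residueDegree {X Y : Scheme.{u}} [IsIntegral X] [IsIntegral Y] (φ : X ⟶ Y) [IsFinite φ] [Flat φ]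
    [LocallyOfFinitePresentation φ]
    (hξ : φ (genericPoint X) = genericPoint Y) :
    φ.finrank (genericPoint Y) = φ.residueDegree (genericPoint X) := by
  let ξ := genericPoint X
  have huniq : ∀ x' : X, φ x' = genericPoint Y → x' = ξ := fun x' hx' =>
    (Groth.L19.eq_of_specializes_of_isIntegralHom φ
      ((genericPoint_spec X).specializes (trivial : x' ∈ (⊤ : Set X))) (hξ.trans hx'.symm)).symm
  rw [Groth.L22.Cyc.finrank_eq_sum φ, finsum_mem_eq_of_bijOn (fun x => x) (s := ({ξ} : Set X))
    (f := fun x => φ.residueDegree x * (Groth.L22.Cyc.mult φ x).toNat) ?_ (fun _ _ => rfl) |>.symm,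
    finsum_mem_singleton]
  · have hm : Groth.L22.Cyc.mult φ ξ = 1 := by
      letI : Field (X.presheaf.stalk ξ) := inferInstanceAs (Field X.functionField)
      rw [Groth.L22.Cyc.mult, Module.length_eq_one_iff, isSimpleModule_iff_isCoatom, ← Ideal.isMaximal_def]
      have hne : Groth.L22.Cyc.fibIdeal φ ξ ≠ ⊤ := ne_top_of_le_ne_top
        (IsLocalRing.maximalIdeal.isMaximal _).ne_top (IsLocalRing.map_maximalIdeal_le _)
      rw [(Ideal.eq_bot_or_top (Groth.L22.Cyc.fibIdeal φ ξ)).resolve_right hne]
      exact Ideal.bot_isMaximal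
    rw [hm]
    simp [ξ]
  · exact ⟨fun x hx => by rw [Set.mem_singleton_iff.1 hx]; exact hξ, Function.injective_id.injOn,
      fun x hx => ⟨x, huniq x hx, rfl⟩⟩

theorem map_genericPoint {X Y : Scheme.{u}} [IrreducibleSpace X] [IrreducibleSpace Y] (φ : X ⟶ Y) [Surjective φ] :
    φ (genericPoint X) = genericPoint Y := by
  obtain ⟨x₀, hx₀⟩ := φ.surjective (genericPoint Y)
  have h : φ (genericPoint X) ⤳ φ x₀ := ((genericPoint_spec X).specializes trivial).map φ.continuous
  rw [hx₀] at h
  exact (h.antisymm ((genericPoint_spec Y).specializes trivial)).eq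

variable (hamp : CohB1.IsAmple L) (hA : topologicalKrullDim A.left = g) (hB : topologicalKrullDim B.left = g)
include hamp hA hB

/-- A finite homomorphism has degree `deg`. -/
theorem deg_of_isFinite (φ : A ⟶ B) [IsMonHom φ] (hφ : IsFinite φ.left) (b : B.left) :
    (φ.left.finrank b : ℚ) = deg L hL hA φ := by
  haveI := hφ
  haveI : Surjective φ.left := surjective_of_isFinite_of_dim_eq A B φ (hA.trans hB.symm)
  haveI : Flat φ.left := Groth.L08.FlatHom.flat_of_surjective A B φ
  haveI : IsLocallyNoetherian B.left := LocallyOfFiniteType.isLocallyNoetherian B.hom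
  haveI : LocallyOfFinitePresentation φ.left := LocallyOfFinitePresentation.iff_locallyOfFiniteType.2 inferInstance
  have hξ := map_genericPoint φ.left
  rw [(Scheme.Hom.isLocallyConstant_finrank φ.left).apply_eq_of_preconnectedSpace b (genericPoint B.left),
    finrank_eq_residueDegree φ.left hξ, deg, inter_F L hL hA,
    altT_pullback k φ.left (Over.w φ) hξ hA (L := fun _ => L) (fun _ => hL),
    mul_div_cancel_right₀ _ (altT_pos L hamp hB).ne']

/-- A homomorphism which is not finite has `deg = 0`. -/
theorem deg_of_not_isFinite (φ : A ⟶ B) [IsMonHom φ] (hφ : ¬ IsFinite φ.left) :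
    deg L hL hA φ = 0 := by
  obtain ⟨C, gC, i, p, hi, hic, hCp, hCg, hps, hpi, hpm⟩ := exists_image φ
  letI := gC
  haveI : IsIntegral C.left := GeometricallyIntegral.isIntegral_of_subsingleton C.hom
  letI : C.left.Over (Spec (CommRingCat.of k)) := ⟨C.hom⟩
  haveI : IsProper (C.left ↘ Spec (CommRingCat.of k)) := inferInstanceAs (IsProper C.hom)
  obtain ⟨c, -, hc⟩ := Groth.L08.GrpDim.exists_dim C
  have hcg : c + 1 ≤ g := by
    have h1 := i.left.isClosedEmbedding.isInducing.topologicalKrullDim_le
    rw [hc, hB] at h1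
    have h2 : c ≤ g := by exact_mod_cast h1
    refine h2.lt_of_ne fun he => hφ ?_
    haveI : Surjective i.left := surjective_of_isFinite_of_dim_eq C B i (by rw [hc, hB, he])
    haveI : Surjective φ.left := by rw [← hpi, Over.comp_left]; infer_instance
    haveI := locallyQuasiFinite_of_surjective_of_dim_eq A B φ (hA.trans hB.symm)
    haveI : IsProper (φ.left ≫ B.hom) := by rw [Over.w]; infer_instance
    haveI : IsProper φ.left := IsProper.of_comp _ B.hom
    exact IsFinite.of_isProper_of_locallyQuasiFinite _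
  haveI : IsProper (p.left ≫ C.hom) := by rw [Over.w]; infer_instance
  haveI : IsProper p.left := IsProper.of_comp _ C.hom
  have hLi : ∀ _ : Fin g, PicF.IsInvertible ((Scheme.Modules.pullback i.left).obj L) :=
    fun _ => Groth.L18.Ample.isInvertible_pullback i.left hL
  have h := altT_pullback k p.left (Over.w p) (map_genericPoint p.left) hA hLi
  haveI : IsLocallyNoetherian C.left := LocallyOfFiniteType.isLocallyNoetherian C.hom
  rw [altT_eq_zero k hLi Groth.L16.CohClosedPush.isCoh_structure (by
      refine (add_le_add_left ((topologicalKrullDim_subspace_le _ _).trans hc.le) 1).trans ?_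
      exact_mod_cast hcg), mul_zero] at h
  rw [deg, inter_F L hL hA]
  refine div_eq_zero_iff.2 (Or.inl (Eq.trans ?_ h))
  refine InterPic.altT_congr k _ fun _ => ?_
  show PicF.pullCl φ.left (PicF.cl L) = PicF.pullCl p.left (PicF.pullCl i.left (PicF.cl L))
  rw [← PicLoc.pullCl_comp, ← Over.comp_left, hpi]

variable (hsym : Groth.L08.Cube.pc L (𝟙 B)⁻¹ = Groth.L08.Cube.pc L (𝟙 B))
include hsym

/-- `deg` is homogeneous of degree `2g` on combinations. -/
theorem exists_polynomial_deg {n : ℕ} (f : Fin n → (A ⟶ B)) :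
    ∃ P : MvPolynomial (Fin n) ℚ, P.IsHomogeneous (2 * g) ∧
      ∀ m : Fin n → ℤ, deg L hL hA (∏ i, f i ^ m i) = MvPolynomial.eval (fun i => (m i : ℚ)) P := by
  classical
  let e := altT k (fun _ : Fin g => L) (Coh.structureModule B.left)
  let c : Fin n × Fin n → Additive (PicLoc.PicSet A.left) := fun t =>
    Bil L hL (Additive.ofMul (f t.1)) (Additive.ofMul (f t.2))
  refine ⟨∑ r : Fin g → Fin n × Fin n, MvPolynomial.C (inter k hA.le (fun i => c (r i)) / ((2 : ℚ) ^ g * e)) *
    ∏ i, MvPolynomial.X (r i).1 * MvPolynomial.X (r i).2, ?_, fun m => ?_⟩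
  · refine MvPolynomial.IsHomogeneous.sum _ _ _ fun r _ => MvPolynomial.IsHomogeneous.C_mul ?_ _
    have h := MvPolynomial.IsHomogeneous.prod (Finset.univ : Finset (Fin g))
      (fun i => MvPolynomial.X (R := ℚ) (r i).1 * MvPolynomial.X (r i).2) (fun _ => 2)
      fun i _ => (MvPolynomial.isHomogeneous_X ℚ _).mul (MvPolynomial.isHomogeneous_X ℚ _)
    rwa [Finset.sum_const, Finset.card_univ, Fintype.card_fin, smul_eq_mul, mul_comm] at h
  · let φ := ∏ i, f i ^ m i
    have hsum : (2 : ℤ) • F L hL φ = ∑ t : Fin n × Fin n, (m t.1 * m t.2) • c t := by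
      rw [← Bil_self L hL hsym, ofMul_prod]
      simp only [ofMul_zpow, map_sum, AddMonoidHom.finsetSum_apply, map_zsmul, AddMonoidHom.smul_apply]
      rw [Fintype.sum_prod_type, Finset.sum_comm]
      simp only [c, smul_smul, Finset.smul_sum]
      simp only [mul_comm]
    have h1 := inter_zsmul k hA.le (2 : ℤ) (F L hL φ)
    rw [hsum, inter_sum k hA.le] at h1
    show inter k hA.le (fun _ : Fin g => F L hL φ) / e = _
    rw [map_sum]
    simp only [map_mul, map_prod, MvPolynomial.eval_C, MvPolynomial.eval_X]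
    have he : e ≠ 0 := (altT_pos L hamp hB).ne'
    have h2 : ((2 : ℚ) ^ g) ≠ 0 := pow_ne_zero _ two_ne_zero
    push_cast at h1
    calc inter k hA.le (fun _ : Fin g => F L hL φ) / e
        = ((2 : ℚ) ^ g * inter k hA.le (fun _ : Fin g => F L hL φ)) / ((2 : ℚ) ^ g * e) := by
          rw [mul_div_mul_left _ _ h2]
      _ = _ := by
          rw [← h1, Finset.sum_div]
          exact Finset.sum_congr rfl fun r _ => by ring

end Groth.Agent.AV.DegreeForm

namespace Groth.Agent.AV.DegreeForm

variable {k : Type u} [Field k]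

theorem isMonHom_prod_zpow {C D : Over (Spec (CommRingCat.of k))} [GrpObj C] [IsCommMonObj C] [GrpObj D]
    [IsCommMonObj D] {n : ℕ} (f : Fin n → (C ⟶ D)) [∀ i, IsMonHom (f i)] (m : Fin n → ℤ) :
    IsMonHom (∏ i, f i ^ m i) := by
  let T : EndAV.Hom C D →+ Additive (C ⟶ D) :=
    AddMonoidHom.mk' (fun φ => Additive.ofMul φ.toHom) fun _ _ => rfl
  have h : (∑ i, m i • EndAV.Hom.of (f i)).toHom = ∏ i, f i ^ m i := by
    apply Additive.ofMul.injective
    show T (∑ i, m i • EndAV.Hom.of (f i)) = _
    rw [map_sum, ofMul_prod]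
    exact Finset.sum_congr rfl fun i _ => congrArg Additive.ofMul (EndAV.Hom.toHom_zsmul _ _)
  rw [← h]
  infer_instance

end Groth.Agent.AV.DegreeForm
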