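/-
The local fibre dimension of a morphism from a proper group over an algebraically closed field is constant.
-/
import Groth.Agent.L26.AV.RigiditySep
import Groth.Agent.L23.FibreDimBC
import Groth.Agent.L18.KerReduced
import Groth.Agent.L25.Component

set_option autoImplicit false
set_option backward.isDefEq.respectTransparency false

open CategoryTheory Limits MonoidalCategory CartesianMonoidalCategory MonObj GrpObj AlgebraicGeometry

universe u

namespace Groth.Agent.AV

variable {K : Type u} [Field K]

/-- Two sections with the same image point agree. -/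
theorem section_ext {Z : Scheme.{u}} (q : Z ⟶ Spec (CommRingCat.of K))
    {s t : Spec (CommRingCat.of K) ⟶ Z} (hs : s ≫ q = 𝟙 _) (ht : t ≫ q = 𝟙 _)
    (h : s (IsLocalRing.closedPoint K) = t (IsLocalRing.closedPoint K)) : s = t := by
  obtain ⟨⟨z, φ⟩, rfl⟩ := (Scheme.SpecToEquivOfField K Z).symm.surjective s
  obtain ⟨⟨z', φ'⟩, rfl⟩ := (Scheme.SpecToEquivOfField K Z).symm.surjective t
  simp only [Scheme.SpecToEquivOfField, Equiv.coe_fn_symm_mk] at h hs ht ⊢
  obtain rfl : z = z' := by simpa [Scheme.fromSpecResidueField_apply] using h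
  obtain ⟨j, hj⟩ := Spec.map_surjective (Z.fromSpecResidueField z ≫ q)
  rw [Category.assoc, ← hj, ← Spec.map_comp, ← Spec.map_id] at hs ht
  replace hs := Spec.map_injective hs
  replace ht := Spec.map_injective ht
  have hφ : φ = φ' := by
    ext x
    obtain ⟨y, hy⟩ : ∃ y, j.hom y = x := ⟨φ.hom x, φ.hom.injective (by
      rw [← CommRingCat.comp_apply, hs]; rfl)⟩
    rw [← hy, ← CommRingCat.comp_apply, ← CommRingCat.comp_apply, hs, ht]
  rw [hφ]

/-- A morphism from a reduced scheme that is set-theoretically a rational point is constant. -/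
theorem eq_const_of_image [IsAlgClosed K] {W Z : Over (Spec (CommRingCat.of K))} [IsReduced W.left]
    [LocallyOfFiniteType W.hom] [IsSeparated Z.hom] (g : W ⟶ Z) (z₀ : 𝟙_ _ ⟶ Z)
    (h : ∀ w, g.left w = ptImage z₀) : g = toUnit W ≫ z₀ := by
  ext1
  have : JacobsonSpace W.left := LocallyOfFiniteType.jacobsonSpace W.hom
  refine ext_of_fromSpecResidueField_eq g.left _ Z.hom (closedPoints W.left) ?_ ?_
    ((Over.w g).trans (Over.w _).symm)
  · rw [dense_iff_closure_eq]
    exact closure_closedPoints
  · intro p hp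
    rw [← cancel_epi (Spec.map (residueFieldIsoBase W.hom p hp).hom),
      ← Category.assoc, ← Category.assoc]
    change pointOfClosedPoint W.hom p hp ≫ g.left = pointOfClosedPoint W.hom p hp ≫ _
    refine section_ext Z.hom (by rw [Category.assoc, Over.w, pointOfClosedPoint_comp])
      (by rw [Category.assoc, Over.w, pointOfClosedPoint_comp]) ?_
    simp only [Scheme.Hom.comp_apply, pointOfClosedPoint_apply, h, Over.comp_left]
    show z₀.left (IsLocalRing.closedPoint K) = z₀.left _
    exact congrArg z₀.left (Subsingleton.elim (α := (Spec (CommRingCat.of K) : Scheme)) _ _)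

variable {X Z : Over (Spec (CommRingCat.of K))} [GrpObj X] [IsProper X.hom]
    [GeometricallyIntegral X.hom] [IsSeparated Z.hom]

/-- An irreducible subset of a fibre through the unit is contracted by every translate. -/
theorem collapse_translate [IsAlgClosed K] (f : X ⟶ Z) (a : 𝟙_ _ ⟶ X) {z : X.left}
    (hz : z ⤳ ptImage η[X]) (hfz : f.left z = f.left (ptImage η[X])) :
    ((GrpObj.mulRight a).hom ≫ f).left z = ((GrpObj.mulRight a).hom ≫ f).left (ptImage η[X]) := by
  let Zc : TopologicalSpace.Closeds X.left := ⟨closure {z}, isClosed_closure⟩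
  let W₀ := (Scheme.IdealSheafData.vanishingIdeal Zc).subscheme
  let i₀ : W₀ ⟶ X.left := (Scheme.IdealSheafData.vanishingIdeal Zc).subschemeι
  let W : Over (Spec (CommRingCat.of K)) := Over.mk (i₀ ≫ X.hom)
  let i : W ⟶ X := Over.homMk i₀
  have : IsReduced W.left := Groth.L18.isReduced_vanishingIdeal_subscheme Zc
  have : IsProper W.hom := inferInstanceAs (IsProper (i₀ ≫ X.hom))
  have hrange : Set.range i₀ = closure {z} := by
    rw [Scheme.IdealSheafData.range_subschemeι, Scheme.IdealSheafData.coe_support_vanishingIdeal]; rfl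
  have hirr : IrreducibleSpace W.left :=
    Groth.L25.Component.irreducibleSpace_of_range i₀ (hrange.symm ▸ isIrreducible_singleton.closure)
  have : IsIntegral W.left := isIntegral_of_irreducibleSpace_of_isReduced _
  obtain ⟨w, hw⟩ : ptImage η[X] ∈ Set.range i₀ := by rw [hrange]; exact hz.mem_closure
  have hwcl : IsClosed ({w} : Set W₀) := by
    have h1 : IsClosed ({ptImage η[X]} : Set X.left) :=
      ((pointEquivClosedPoint X.hom) ⟨η[X].left, Over.w η[X]⟩).2
    have : ({w} : Set W₀) = i₀ ⁻¹' {ptImage η[X]} := by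
      rw [← hw, ← Set.image_singleton, i₀.isEmbedding.injective.preimage_image]
    rw [this]
    exact h1.preimage i₀.continuous
  let w₀ : 𝟙_ _ ⟶ W := Over.homMk (pointOfClosedPoint W.hom w hwcl) (pointOfClosedPoint_comp _ _ _)
  have hw₀ : w₀ ≫ i = η[X] := by
    ext1
    refine ext_of_apply_closedPoint_eq X.hom (Over.w (w₀ ≫ i)) (Over.w η[X]) ?_
    show i₀ (pointOfClosedPoint W.hom w hwcl _) = _
    rw [pointOfClosedPoint_apply, hw]; rfl
  have hWX : IsIntegral (W ⊗ X).left := by
    have : IsLocallyNoetherian W.left := LocallyOfFiniteType.isLocallyNoetherian W.hom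
    show IsIntegral (pullback W.hom X.hom)
    infer_instance
  let ψ : W ⊗ X ⟶ Z := ((fst W X ≫ i) * snd W X) ≫ f
  have h : lift (𝟙 W) (toUnit W ≫ η[X]) ≫ ψ = toUnit W ≫ η[X] ≫ f := by
    simp only [ψ, ← Category.assoc, MonObj.comp_mul, lift_fst, lift_snd, Category.id_comp,
      ← Hom.one_def, _root_.mul_one]
    refine (eq_const_of_image _ (η[X] ≫ f) fun y => ?_).trans ?_
    · obtain ⟨t, ht⟩ : ∃ t, i₀ y = t := ⟨_, rfl⟩
      show f.left (i₀ y) = f.left (ptImage η[X])
      have hcl : IsClosed ({f.left (ptImage η[X])} : Set Z.left) := by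
        have := isClosedImmersion_of_comp_eq_id Z.hom (η[X] ≫ f).left (Over.w _)
        have h1 := (η[X] ≫ f).left.isClosedMap _ (isClosed_discrete {IsLocalRing.closedPoint K})
        rw [Set.image_singleton] at h1
        exact h1
      have hy : i₀ y ∈ closure {z} := hrange ▸ ⟨y, rfl⟩
      have := map_mem_closure f.left.continuous hy
        (t := {f.left (ptImage η[X])}) (by rintro _ rfl; exact hfz)
      rwa [hcl.closure_eq] at this
    · rw [Hom.one_def, Category.assoc]
  have key := rigidity_sep ψ w₀ η[X] (η[X] ≫ f) h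
  have h2 := congrArg (lift (𝟙 W) (toUnit W ≫ a) ≫ ·) key
  simp only [ψ, ← Category.assoc, MonObj.comp_mul, lift_fst, lift_snd, Category.id_comp] at h2
  simp only [Category.assoc] at h2
  have hone : ∀ {T : Over (Spec (CommRingCat.of K))}, toUnit T ≫ w₀ ≫ i = (1 : T ⟶ X) := fun {T} => by
    rw [hw₀, Hom.one_def]
  simp only [hone, MonObj.comp_one, _root_.one_mul] at h2
  have hlhs : i ≫ (GrpObj.mulRight a).hom ≫ f = (i * (toUnit W ≫ a)) ≫ f := by
    rw [GrpObj.mulRight_hom, ← Category.assoc, ← Category.assoc]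
    congr 1
    rw [Hom.mul_def]
    simp [comp_lift_assoc]
  obtain ⟨y, hy⟩ : z ∈ Set.range i₀ := by rw [hrange]; exact subset_closure rfl
  have h3 : ∀ t : W.left, ((GrpObj.mulRight a).hom ≫ f).left (i₀ t) = (a ≫ f).left
      (IsLocalRing.closedPoint K) := fun t => by
    show (i ≫ (GrpObj.mulRight a).hom ≫ f).left t = _
    rw [hlhs, h2]
    show (a ≫ f).left _ = _
    congr 1
    exact Subsingleton.elim (α := (Spec (CommRingCat.of K) : Scheme)) _ _
  rw [← hy, ← hw, h3, h3]

theorem fibreDimAt_eq_of_collapse (f g : X ⟶ Z)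
    (h : ∀ z : X.left, z ⤳ ptImage η[X] →
      (f.left z = f.left (ptImage η[X]) ↔ g.left z = g.left (ptImage η[X]))) :
    FlatMor.fibreDimAt f.left (ptImage η[X]) ≤ FlatMor.fibreDimAt g.left (ptImage η[X]) := by
  set e := ptImage η[X]
  have hcl : ∀ φ : X ⟶ Z, IsClosedImmersion (φ.left.fiberι (φ.left e)) := fun φ => by
    have : IsClosed ({φ.left e} : Set Z.left) := by
      have := isClosedImmersion_of_comp_eq_id Z.hom (η[X] ≫ φ).left (Over.w _)
      have h1 := (η[X] ≫ φ).left.isClosedMap _ (isClosed_discrete {IsLocalRing.closedPoint K})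
      rw [Set.image_singleton] at h1
      exact h1
    have : IsClosedImmersion (Z.left.fromSpecResidueField (φ.left e)) :=
      isClosed_singleton_iff_isClosedImmersion.mp this
    show IsClosedImmersion (pullback.fst _ _)
    infer_instance
  have := hcl f
  have := hcl g
  let F := f.left.fiber (f.left e)
  let G := g.left.fiber (g.left e)
  let fe : F := f.left.asFiber e
  let ge : G := g.left.asFiber e
  let ιf : F ⟶ X.left := f.left.fiberι (f.left e)
  let ιg : G ⟶ X.left := g.left.fiberι (g.left e)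
  letI : F.Over (Spec (CommRingCat.of K)) := ⟨ιf ≫ X.hom⟩
  letI : G.Over (Spec (CommRingCat.of K)) := ⟨ιg ≫ X.hom⟩
  haveI : LocallyOfFiniteType (F ↘ Spec (CommRingCat.of K)) :=
    inferInstanceAs (LocallyOfFiniteType (ιf ≫ X.hom))
  haveI : LocallyOfFiniteType (G ↘ Spec (CommRingCat.of K)) :=
    inferInstanceAs (LocallyOfFiniteType (ιg ≫ X.hom))
  show FlatMor.localDim F fe ≤ FlatMor.localDim G ge
  rw [Groth.L22.FibreSemicont.localDim_eq_iSup K, Groth.L22.FibreSemicont.localDim_eq_iSup K]
  refine iSup_le fun ⟨η', hη⟩ => ?_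
  have hfe : ιf fe = e := f.left.fiberι_asFiber e
  have hge : ιg ge = e := g.left.fiberι_asFiber e
  have h1 : ιf η' ⤳ e := hfe ▸ hη.map ιf.continuous
  have h2 : f.left (ιf η') = f.left e := (f.left.range_fiberι _).subset ⟨η', rfl⟩
  obtain ⟨η'', h3⟩ : ιf η' ∈ Set.range ιg := by
    rw [Scheme.Hom.range_fiberι]; exact (h _ h1).1 h2
  refine le_iSup_of_le ⟨η'', ?_⟩ (le_of_eq ?_)
  · rw [← ιg.isEmbedding.isInducing.specializes_iff, hge, h3]; exact h1
  · have he1 := Groth.L22.SchemeDim.topologicalKrullDim_eq_of_isEmbedding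
      (S := (closure {ιf η'} : Set X.left))
      (ιf.isEmbedding.comp (Topology.IsEmbedding.subtypeVal (p := (· ∈ (closure {η'} : Set F))))) (by
        rw [Set.range_comp, Subtype.range_coe, ← ιf.isClosedEmbedding.closure_image_eq, Set.image_singleton])
    have he2 := Groth.L22.SchemeDim.topologicalKrullDim_eq_of_isEmbedding
      (S := (closure {ιg η''} : Set X.left))
      (ιg.isEmbedding.comp (Topology.IsEmbedding.subtypeVal (p := (· ∈ (closure {η''} : Set G))))) (by
        rw [Set.range_comp, Subtype.range_coe, ← ιg.isClosedEmbedding.closure_image_eq, Set.image_singleton])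
    show topologicalKrullDim (closure {η'} : Set F) = topologicalKrullDim (closure {η''} : Set G)
    rw [← he1, ← he2, h3]

/-- The fibre dimension at a rational point equals the fibre dimension at the unit. -/
theorem fibreDimAt_rational_eq [IsAlgClosed K] (f : X ⟶ Z) (a : 𝟙_ _ ⟶ X) :
    FlatMor.fibreDimAt f.left (ptImage a) = FlatMor.fibreDimAt f.left (ptImage η[X]) := by
  let t := GrpObj.mulRight a
  let g : X ⟶ Z := t.hom ≫ f
  have hte : η[X] ≫ t.hom = a := by
    simp only [t, GrpObj.mulRight_hom, comp_lift_assoc, Category.comp_id]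
    rw [← Category.assoc η[X] (toUnit X), toUnit_unique (η[X] ≫ toUnit X) (𝟙 _), Category.id_comp,
      show (η[X] : 𝟙_ _ ⟶ X) = 1 by rw [Hom.one_def, toUnit_unique (toUnit _) (𝟙 _), Category.id_comp],
      ← Hom.mul_def, _root_.one_mul]
  have hg : FlatMor.fibreDimAt g.left (ptImage η[X]) = FlatMor.fibreDimAt f.left (ptImage a) := by
    haveI : IsIso t.hom.left := inferInstanceAs (IsIso ((Over.forget _).map t.hom))
    have sq : IsPullback t.hom.left g.left f.left (𝟙 Z.left) :=
      IsPullback.of_horiz_isIso ⟨by simp [g]⟩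
    haveI : LocallyOfFiniteType (f.left ≫ Z.hom) := by rw [Over.w]; infer_instance
    haveI : LocallyOfFiniteType f.left := locallyOfFiniteType_of_comp _ Z.hom
    rw [Groth.L23.fibreDimAt_of_isPullback sq, show t.hom.left (ptImage η[X]) = ptImage a from ?_]
    show (η[X] ≫ t.hom).left _ = _
    rw [hte]
  have hiff : ∀ z : X.left, z ⤳ ptImage η[X] →
      (f.left z = f.left (ptImage η[X]) ↔ g.left z = g.left (ptImage η[X])) := fun z hz => by
    refine ⟨fun h => collapse_translate f a hz h, fun h => ?_⟩
    have := collapse_translate g a⁻¹ hz h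
    have e : (GrpObj.mulRight (a⁻¹)).hom ≫ g = f := by
      have : (GrpObj.mulRight (a⁻¹)).hom ≫ t.hom = 𝟙 X := by
        simp only [t, GrpObj.mulRight_hom, ← Hom.mul_def, MonObj.comp_mul, Category.comp_id]
        rw [← Category.assoc _ (toUnit X), toUnit_unique (_ ≫ toUnit X) (toUnit X),
          _root_.mul_assoc, ← MonObj.comp_mul, inv_mul_cancel, MonObj.comp_one, _root_.mul_one]
      show _ ≫ t.hom ≫ f = f
      rw [← Category.assoc, this, Category.id_comp]
    rwa [e] at this
  rw [← hg]
  exact le_antisymm (fibreDimAt_eq_of_collapse g f fun z hz => (hiff z hz).symm)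
    (fibreDimAt_eq_of_collapse f g hiff)

end Groth.Agent.AV
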