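/-
A proper variety over an algebraically closed field with a unital composition law: left translations are isomorphisms.
-/
import Groth.Agent.L26.AV.FibreDim
import Groth.Agent.S7798

set_option autoImplicit false
set_option backward.isDefEq.respectTransparency false

open CategoryTheory Limits MonoidalCategory CartesianMonoidalCategory AlgebraicGeometry

universe u

namespace Groth.Agent.AV

theorem dim_eq_zero_of_subsingleton (T : Type*) [TopologicalSpace T] [Subsingleton T] [Nonempty T] :
    topologicalKrullDim T = 0 := by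
  rw [topologicalKrullDim]
  have : Subsingleton (TopologicalSpace.IrreducibleCloseds T) :=
    ⟨fun a b => TopologicalSpace.IrreducibleCloseds.ext (by
      rw [Subsingleton.eq_univ_of_nonempty a.isIrreducible.nonempty,
        Subsingleton.eq_univ_of_nonempty b.isIrreducible.nonempty])⟩
  have : Nonempty (TopologicalSpace.IrreducibleCloseds T) :=
    ⟨⟨Set.univ, ⟨Set.univ_nonempty, Set.subsingleton_univ.isPreirreducible⟩, isClosed_univ⟩⟩
  exact Order.krullDim_eq_zero

variable {K : Type u} [Field K] [IsAlgClosed K]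

/-- A fibre with a single closed point has dimension zero. -/
theorem dim_fiber_eq_zero {W X : Scheme.{u}} (p : W ⟶ Spec (CommRingCat.of K)) [LocallyOfFiniteType p]
    (f : W ⟶ X) {y : X} (hy : IsClosed ({y} : Set X)) (w : W) (hw : f w = y)
    (h : ∀ v, IsClosed ({v} : Set W) → f v = y → v = w) :
    topologicalKrullDim ↥(f.fiber y) = 0 := by
  have : IsClosedImmersion (X.fromSpecResidueField y) := isClosed_singleton_iff_isClosedImmersion.mp hy
  have : IsClosedImmersion (f.fiberι y) := by show IsClosedImmersion (pullback.fst _ _); infer_instance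
  have : JacobsonSpace ↥(f.fiber y) := LocallyOfFiniteType.jacobsonSpace (f.fiberι y ≫ p)
  obtain ⟨w₀, hw₀⟩ : w ∈ Set.range (f.fiberι y) := by rw [Scheme.Hom.range_fiberι]; exact hw
  have hcp : closedPoints ↥(f.fiber y) ⊆ {w₀} := fun v hv => by
    refine (f.fiberι y).isEmbedding.injective ?_
    rw [hw₀]
    refine h _ ?_ ((f.range_fiberι y).subset ⟨v, rfl⟩)
    have hv' := (f.fiberι y).isClosedMap _ (mem_closedPoints_iff.1 hv)
    rwa [Set.image_singleton] at hv'
  have : Subsingleton ↥(f.fiber y) := by
    have hall : ∀ v : ↥(f.fiber y), v = w₀ := fun v => by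
      obtain ⟨c, -, hc⟩ := nonempty_inter_closedPoints (X := ↥(f.fiber y)) (Z := Set.univ)
        ⟨w₀, trivial⟩ isOpen_univ.isLocallyClosed
      have hwc : w₀ ∈ closedPoints ↥(f.fiber y) := (hcp hc) ▸ hc
      have h1 : closure ({w₀} : Set ↥(f.fiber y)) = Set.univ := by
        refine Set.univ_subset_iff.1 ?_
        rw [← closure_closedPoints]
        exact closure_mono hcp
      rw [(mem_closedPoints_iff.1 hwc).closure_eq] at h1
      exact h1.ge (Set.mem_univ v)
    exact ⟨fun a b => (hall a).trans (hall b).symm⟩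
  have : Nonempty ↥(f.fiber y) := ⟨w₀⟩
  exact dim_eq_zero_of_subsingleton _

variable {X : Over (Spec (CommRingCat.of K))} [IsProper X.hom] [GeometricallyIntegral X.hom]

/-- The left translation of a composition law. -/
noncomputable abbrev ltr (m : X ⊗ X ⟶ X) (a : 𝟙_ (Over (Spec (CommRingCat.of K))) ⟶ X) : X ⟶ X :=
  lift (toUnit X ≫ a) (𝟙 X) ≫ m

set_option maxHeartbeats 800000 in
/-- Left translations of a unital law on a proper variety are isomorphisms. -/
theorem isIso_ltr (e : 𝟙_ (Over (Spec (CommRingCat.of K))) ⟶ X) (m : X ⊗ X ⟶ X)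
    (h₁ : lift (𝟙 X) (toUnit X ≫ e) ≫ m = 𝟙 X) (h₂ : lift (toUnit X ≫ e) (𝟙 X) ≫ m = 𝟙 X)
    (a : 𝟙_ _ ⟶ X) : IsIso (ltr m a) := by
  let S := Spec (CommRingCat.of K)
  have : IsIntegral X.left := GeometricallyIntegral.isIntegral_of_subsingleton X.hom
  have : IsLocallyNoetherian X.left := LocallyOfFiniteType.isLocallyNoetherian X.hom
  have : IsIntegral (X ⊗ X).left := by show IsIntegral (pullback X.hom X.hom); infer_instance
  have : IsProper (X ⊗ X).hom := by dsimp; infer_instance
  have : IsProper (fst X X).left := by dsimp; infer_instance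
  letI : X.left.Over S := ⟨X.hom⟩
  letI : (X ⊗ X).left.Over S := ⟨(X ⊗ X).hom⟩
  haveI : LocallyOfFiniteType (X.left ↘ S) := inferInstanceAs (LocallyOfFiniteType X.hom)
  haveI : LocallyOfFiniteType ((X ⊗ X).left ↘ S) := inferInstanceAs (LocallyOfFiniteType (X ⊗ X).hom)
  haveI : LocallyOfFiniteType m.left := by
    have : LocallyOfFiniteType (m.left ≫ X.hom) := by rw [Over.w]; infer_instance
    exact locallyOfFiniteType_of_comp _ X.hom
  let ξ := genericPoint (X ⊗ X).left
  let u : (X ⊗ X).left := ptImage (lift e e)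
  obtain ⟨g, hg, -⟩ := Groth.L22.SchemeDim.exists_dim_closure_eq_trdeg K X.left (genericPoint X.left)
  rw [show closure ({genericPoint X.left} : Set X.left) = Set.univ from genericPoint_closure _] at hg
  have hgX : topologicalKrullDim X.left = g := by
    rw [← hg]; exact (Homeomorph.Set.univ X.left).isHomeomorph.topologicalKrullDim_eq.symm
  have hsurjm : Surjective m.left := by
    have : Surjective ((lift (𝟙 X) (toUnit X ≫ e)).left ≫ m.left) := by
      rw [← Over.comp_left, h₁]; infer_instance
    exact Surjective.of_comp (lift (𝟙 X) (toUnit X ≫ e)).left m.left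
  -- the generic point of X × X has dimension at least 2g
  obtain ⟨c, hc, -⟩ := Groth.L22.SchemeDim.exists_dim_closure_eq_trdeg K (X ⊗ X).left ξ
  have h2g : g + g ≤ c := by
    -- the fibres of the projection have dimension at least g
    have hall : ∀ v : (X ⊗ X).left, (g : WithBot ℕ∞) ≤ FlatMor.fibreDimAt (fst X X).left v := by
      intro v
      have sq : IsPullback (snd X X).left (fst X X).left X.hom X.hom :=
        (IsPullback.of_hasPullback X.hom X.hom).flip
      letI : S.Over S := ⟨𝟙 S⟩
      haveI : LocallyOfFiniteType (S ↘ S) := inferInstanceAs (LocallyOfFiniteType (𝟙 S))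
      rw [Groth.L23.fibreDimAt_of_isPullback sq v, Groth.L22.FibreSemicont.le_fibreDimAt_iff K (X := X.left) (Y := S) X.hom (by
        show X.hom ≫ 𝟙 _ = X.hom
        simp) _ g]
      refine ⟨genericPoint X.left, g, 0, genericPoint_specializes _, Subsingleton.elim (α := PrimeSpectrum K) _ _, ?_, ?_, le_rfl⟩
      · rw [show closure ({genericPoint X.left} : Set X.left) = Set.univ from genericPoint_closure _, hg]
      · have : Subsingleton (closure ({X.hom ((snd X X).left v)} : Set S)) :=
          ⟨fun p q => Subtype.ext (Subsingleton.elim (α := PrimeSpectrum K) _ _)⟩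
        have : Nonempty (closure ({X.hom ((snd X X).left v)} : Set S)) := ⟨⟨_, subset_closure rfl⟩⟩
        exact dim_eq_zero_of_subsingleton _
    have hfw : (fst X X).left ≫ X.hom = (X ⊗ X).hom := Over.w _
    obtain ⟨z, cz, a', -, hfz, hcz, ha', hle⟩ :=
      (Groth.L22.FibreSemicont.le_fibreDimAt_iff K (X := (X ⊗ X).left) (Y := X.left) (fst X X).left hfw ξ g).1 (hall ξ)
    have hzc : cz ≤ c := by
      have := Groth.L22.SchemeDim.topologicalKrullDim_mono
        (show closure ({z} : Set (X ⊗ X).left) ⊆ closure {ξ} by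
          rw [show closure ({ξ} : Set (X ⊗ X).left) = Set.univ from genericPoint_closure _]; exact Set.subset_univ _)
      rw [hcz, hc] at this
      exact_mod_cast this
    have hfξ : closure ({(fst X X).left ξ} : Set X.left) = Set.univ := by
      refine Set.univ_subset_iff.1 fun t _ => ?_
      have : (fst X X).left ξ ⤳ t := by
        have hi : (lift (𝟙 X) (toUnit X ≫ e) ≫ fst X X).left t = t := by rw [lift_fst]; rfl
        rw [← hi, Over.comp_left, Scheme.Hom.comp_apply]
        exact (genericPoint_specializes _).map (fst X X).left.continuous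
      exact this.mem_closure
    rw [hfξ, hg] at ha'
    have : a' = g := by exact_mod_cast ha'.symm
    omega
  -- a component of the fibre over the unit
  have hmw : m.left ≫ X.hom = (X ⊗ X).hom := Over.w m
  have hξm : closure ({m.left ξ} : Set X.left) = Set.univ := by
    refine Set.univ_subset_iff.1 fun t _ => ?_
    obtain ⟨v, rfl⟩ := hsurjm.surj t
    exact ((genericPoint_specializes v).map m.left.continuous).mem_closure
  have hgξ : (g : WithBot ℕ∞) ≤ FlatMor.fibreDimAt m.left ξ :=
    (Groth.L22.FibreSemicont.le_fibreDimAt_iff K (X := (X ⊗ X).left) (Y := X.left) m.left hmw ξ g).2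
      ⟨ξ, c, g, specializes_refl _, rfl, hc, by rw [hξm, hg], h2g⟩
  have hgu : (g : WithBot ℕ∞) ≤ FlatMor.fibreDimAt m.left u := by
    have h1 := (Groth.L22.FibreSemicont.isClosed_le_fibreDimAt K (X := (X ⊗ X).left) (Y := X.left) m.left hmw g).closure_subset_iff.2
      (Set.singleton_subset_iff.2 (show ξ ∈ {x : (X ⊗ X).left | (g : WithBot ℕ∞) ≤ FlatMor.fibreDimAt m.left x} from hgξ))
    rw [show closure ({ξ} : Set (X ⊗ X).left) = Set.univ from genericPoint_closure _] at h1
    exact h1 (Set.mem_univ u)
  obtain ⟨z, cz, a', hzu, hmz, hcz, -, hle⟩ :=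
    (Groth.L22.FibreSemicont.le_fibreDimAt_iff K (X := (X ⊗ X).left) (Y := X.left) m.left hmw u g).1 hgu
  let Zc : TopologicalSpace.Closeds (X ⊗ X).left := ⟨closure {z}, isClosed_closure⟩
  let W₀ := (Scheme.IdealSheafData.vanishingIdeal Zc).subscheme
  let i₀ : W₀ ⟶ (X ⊗ X).left := (Scheme.IdealSheafData.vanishingIdeal Zc).subschemeι
  let W : Over S := Over.mk (i₀ ≫ (X ⊗ X).hom)
  let i : W ⟶ X ⊗ X := Over.homMk i₀
  have : IsReduced W.left := Groth.L18.isReduced_vanishingIdeal_subscheme Zc
  have : IsProper W.hom := inferInstanceAs (IsProper (i₀ ≫ (X ⊗ X).hom))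
  have hrange : Set.range i₀ = closure {z} := by
    rw [Scheme.IdealSheafData.range_subschemeι, Scheme.IdealSheafData.coe_support_vanishingIdeal]; rfl
  have : IrreducibleSpace W.left :=
    Groth.L25.Component.irreducibleSpace_of_range i₀ (hrange.symm ▸ isIrreducible_singleton.closure)
  have : IsIntegral W.left := isIntegral_of_irreducibleSpace_of_isReduced _
  have : IsLocallyNoetherian W.left := LocallyOfFiniteType.isLocallyNoetherian W.hom
  have : IsIntegral (W ⊗ X).left := by show IsIntegral (pullback W.hom X.hom); infer_instance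
  have hdimW : topologicalKrullDim X.left ≤ topologicalKrullDim W.left := by
    rw [hgX]
    refine le_of_le_of_eq ?_ (Groth.L22.SchemeDim.topologicalKrullDim_eq_of_isEmbedding i₀.isEmbedding hrange)
    rw [hcz]
    exact_mod_cast (show g ≤ cz by omega)
  have hecl : IsClosed ({ptImage e} : Set X.left) := ((pointEquivClosedPoint X.hom) ⟨e.left, Over.w e⟩).2
  have hme : m.left u = ptImage e := by
    have : lift e e ≫ m = e := by
      conv_lhs => rw [show lift e e = e ≫ lift (𝟙 X) (toUnit X ≫ e) by simp [comp_lift]]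
      rw [Category.assoc, h₁, Category.comp_id]
    show (lift e e ≫ m).left _ = _
    rw [this]
  have hmW : i ≫ m = toUnit W ≫ e := eq_const_of_image _ e fun w => by
    have hy : i₀ w ∈ closure {z} := hrange ▸ ⟨w, rfl⟩
    have := map_mem_closure m.left.continuous hy (t := {ptImage e}) (by rintro _ rfl; exact hmz.trans hme)
    rwa [hecl.closure_eq] at this
  obtain ⟨w₁, hw₁⟩ : u ∈ Set.range i₀ := by rw [hrange]; exact hzu.mem_closure
  have hucl : IsClosed ({u} : Set (X ⊗ X).left) :=
    ((pointEquivClosedPoint (X ⊗ X).hom) ⟨(lift e e).left, Over.w _⟩).2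
  have hw₁cl : IsClosed ({w₁} : Set W₀) := by
    have : ({w₁} : Set W₀) = i₀ ⁻¹' {u} := by
      rw [← hw₁, ← Set.image_singleton, i₀.isEmbedding.injective.preimage_image]
    rw [this]; exact hucl.preimage i₀.continuous
  let l : W ⟶ X := i ≫ fst X X
  let r : W ⟶ X := i ≫ snd X X
  have hpt : ∀ (v : W.left) (hv : IsClosed ({v} : Set W.left)),
      ∃ q : 𝟙_ (Over S) ⟶ W, ptImage q = v := fun v hv =>
    ⟨Over.homMk (pointOfClosedPoint W.hom v hv) (pointOfClosedPoint_comp _ _ hv), pointOfClosedPoint_apply _ _ hv _⟩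
  have hptext : ∀ (Y : Over S) [LocallyOfFiniteType Y.hom] (p q : 𝟙_ (Over S) ⟶ Y),
      ptImage p = ptImage q → p = q := fun Y _ p q h => by
    ext1; exact ext_of_apply_closedPoint_eq Y.hom (Over.w p) (Over.w q) h
  have hwhole : ∀ q : 𝟙_ (Over S) ⟶ W, lift (q ≫ l) (q ≫ r) ≫ m = e := fun q => by
    have : lift (q ≫ l) (q ≫ r) = q ≫ i := by
      apply CartesianMonoidalCategory.hom_ext <;> simp [l, r]
    rw [this, Category.assoc, hmW, ← Category.assoc, toUnit_unique (q ≫ toUnit W) (𝟙 _), Category.id_comp]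
  have hru : r.left w₁ = ptImage e := by
    show (snd X X).left (i₀ w₁) = _
    rw [hw₁]
    show (lift e e ≫ snd X X).left _ = _
    rw [lift_snd]
  have hfib : topologicalKrullDim ↥(r.left.fiber (ptImage e)) = 0 := by
    refine dim_fiber_eq_zero W.hom r.left hecl w₁ hru fun v hv hrv => ?_
    obtain ⟨q, rfl⟩ := hpt v hv
    apply i₀.isEmbedding.injective
    rw [hw₁]
    have h1 : q ≫ r = e := hptext X _ _ hrv
    have h2 : q ≫ l = e := by
      have := hwhole q
      rw [h1, show lift (q ≫ l) e = (q ≫ l) ≫ lift (𝟙 X) (toUnit X ≫ e) by simp [comp_lift],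
        Category.assoc, h₁, Category.comp_id] at this
      exact this
    show (q ≫ i).left _ = (lift e e).left _
    rw [show q ≫ i = lift e e by
      apply CartesianMonoidalCategory.hom_ext
      · rw [lift_fst, Category.assoc]; exact h2
      · rw [lift_snd, Category.assoc]; exact h1]
  have hrsurj : Surjective r.left :=
    (Groth.Agent.S7798.result K W.hom X.hom hdimW r.left (Over.w r) _ hfib).1
  -- every point has a left inverse
  have haW : ∃ q : 𝟙_ (Over S) ⟶ W, q ≫ r = a := by
    have hacl : IsClosed ({ptImage a} : Set X.left) := ((pointEquivClosedPoint X.hom) ⟨a.left, Over.w a⟩).2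
    have : JacobsonSpace W.left := LocallyOfFiniteType.jacobsonSpace W.hom
    obtain ⟨v, hv⟩ := hrsurj.surj (ptImage a)
    obtain ⟨v', hv', hv''⟩ := nonempty_inter_closedPoints (Z := r.left ⁻¹' {ptImage a}) ⟨v, hv⟩
      (hacl.preimage r.left.continuous).isLocallyClosed
    obtain ⟨q, rfl⟩ := hpt v' hv''
    exact ⟨q, hptext X _ _ hv'⟩
  obtain ⟨q, rfl⟩ := haW
  let w₀ : 𝟙_ (Over S) ⟶ W := Over.homMk (pointOfClosedPoint W.hom w₁ hw₁cl) (pointOfClosedPoint_comp _ _ _)
  have hw₀ : w₀ ≫ i = lift e e := by
    refine hptext (X ⊗ X) _ _ ?_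
    show i₀ (pointOfClosedPoint W.hom w₁ hw₁cl _) = u
    rw [pointOfClosedPoint_apply, hw₁]
  let ψ : W ⊗ X ⟶ X := lift (fst W X ≫ l) (lift (fst W X ≫ r) (snd W X) ≫ m) ≫ m
  have hax : lift (𝟙 W) (toUnit W ≫ e) ≫ ψ = toUnit W ≫ e := by
    simp only [ψ, ← Category.assoc, comp_lift, lift_fst, lift_snd, Category.id_comp]
    rw [show lift r (toUnit W ≫ e) ≫ m = r from by
      rw [show lift r (toUnit W ≫ e) = r ≫ lift (𝟙 X) (toUnit X ≫ e) by simp [comp_lift],
        Category.assoc, h₁, Category.comp_id],
      show lift l r = i by apply CartesianMonoidalCategory.hom_ext <;> simp [l, r]]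
    exact hmW
  have key := congrArg (lift (toUnit X ≫ q) (𝟙 X) ≫ ·) (rigidity_sep ψ w₀ e e hax)
  simp only [ψ, ← Category.assoc, comp_lift, lift_fst, lift_snd, Category.id_comp] at key
  have hwl : (toUnit X ≫ w₀) ≫ l = toUnit X ≫ e := by
    rw [Category.assoc]; simp only [l, ← Category.assoc w₀, hw₀, lift_fst]
  have hwr : (toUnit X ≫ w₀) ≫ r = toUnit X ≫ e := by
    rw [Category.assoc]; simp only [r, ← Category.assoc w₀, hw₀, lift_snd]
  rw [hwl, hwr, h₂, h₂] at key
  have hleft : ltr m (q ≫ r) ≫ ltr m (q ≫ l) = 𝟙 X := by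
    rw [ltr, ltr, ← Category.assoc (lift _ _ ≫ m), comp_lift, Category.comp_id,
      ← Category.assoc _ (toUnit X), toUnit_unique (_ ≫ toUnit X) (toUnit X)]
    simpa only [Category.assoc] using key
  -- conclude
  let L := ltr m (q ≫ r)
  let L' := ltr m (q ≫ l)
  have : IsSeparated L'.left := by
    have : IsSeparated (L'.left ≫ X.hom) := by rw [Over.w]; infer_instance
    exact IsSeparated.of_comp L'.left X.hom
  have hLL' : L.left ≫ L'.left = 𝟙 X.left := by rw [← Over.comp_left, hleft]; rfl
  have hci : IsClosedImmersion L.left := by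
    have : IsClosedImmersion (L.left ≫ L'.left) := by rw [hLL']; infer_instance
    exact IsClosedImmersion.of_comp L.left L'.left
  have : JacobsonSpace X.left := LocallyOfFiniteType.jacobsonSpace X.hom
  obtain ⟨x₁, -, hx₁⟩ := nonempty_inter_closedPoints (X := X.left) (Z := Set.univ)
    ⟨ptImage e, trivial⟩ isOpen_univ.isLocallyClosed
  have hsurjL : Surjective L.left := (Groth.Agent.S7798.result K X.hom X.hom le_rfl L.left (Over.w L) _
    (dim_fiber_eq_zero X.hom L.left (y := L.left x₁) (by
      have := L.left.isClosedMap _ (mem_closedPoints_iff.1 hx₁)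
      rwa [Set.image_singleton] at this) x₁ rfl
      fun v _ hv => L.left.isClosedEmbedding.injective hv)).1
  have : IsIso L.left := isIso_of_isClosedImmersion_of_surjective L.left
  have : IsIso ((Over.forget _).map L) := ‹_›
  exact isIso_of_reflects_iso L (Over.forget _)

end Groth.Agent.AV
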