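/-
The shear map of a unital law on a proper flat family with geometrically integral fibres is an isomorphism.
-/
import Groth.Agent.L26.AV.UnitalField
import Groth.Agent.L05.Point.FibreGlobal
import Mathlib.AlgebraicGeometry.Morphisms.FlatDescent
import Mathlib.FieldTheory.IsAlgClosed.AlgebraicClosure

set_option autoImplicit false
set_option backward.isDefEq.respectTransparency false
set_option synthInstance.maxHeartbeats 200000
set_option maxHeartbeats 800000

open CategoryTheory CategoryTheory.Limits MonoidalCategory CartesianMonoidalCategory Functor AlgebraicGeometry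

universe u

namespace Groth.Agent.AV

variable {S : Scheme.{u}}

theorem isIso_shear (X : Over S) [IsProper X.hom] [Flat X.hom] [LocallyOfFinitePresentation X.hom]
    [GeometricallyIntegral X.hom] (e : 𝟙_ (Over S) ⟶ X) (m : X ⊗ X ⟶ X)
    (h₁ : lift (𝟙 X) (toUnit X ≫ e) ≫ m = 𝟙 X) (h₂ : lift (toUnit X ≫ e) (𝟙 X) ≫ m = 𝟙 X) :
    IsIso (lift (fst X X) m) := by
  let φ := lift (fst X X) m
  have w : φ.left ≫ (fst X X).left = (fst X X).left := by
    rw [← Over.comp_left, lift_fst]
  have : Flat (fst X X).left := inferInstanceAs (Flat (pullback.fst X.hom X.hom))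
  have : LocallyOfFinitePresentation (fst X X).left :=
    MorphismProperty.pullback_fst X.hom X.hom ‹LocallyOfFinitePresentation X.hom›
  suffices h : IsIso φ.left by
    have : IsIso ((Over.forget _).map φ) := h
    exact isIso_of_reflects_iso φ (Over.forget _)
  refine (Groth.L05.Point.isIso_iff_fibres (fst X X).left (fst X X).left φ.left w).2 fun x => ?_
  let Ω := AlgebraicClosure (X.left.residueField x)
  let j : X.left.residueField x ⟶ CommRingCat.of Ω := CommRingCat.ofHom (algebraMap (X.left.residueField x) Ω)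
  let xb : Spec (CommRingCat.of Ω) ⟶ X.left := Spec.map j ≫ X.left.fromSpecResidueField x
  let b : Spec (CommRingCat.of Ω) ⟶ S := xb ≫ X.hom
  let F := Over.pullback b
  have : IsProper (F.obj X).hom := inferInstanceAs (IsProper (pullback.snd X.hom b))
  have : GeometricallyIntegral (F.obj X).hom := inferInstanceAs (GeometricallyIntegral (pullback.snd X.hom b))
  let a : 𝟙_ (Over (Spec (CommRingCat.of Ω))) ⟶ F.obj X :=
    Over.homMk (pullback.lift xb (𝟙 _) (Category.id_comp _).symm) (pullback.lift_snd _ _ _)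
  let e' : 𝟙_ _ ⟶ F.obj X := LaxMonoidal.ε F ≫ F.map e
  let m' : F.obj X ⊗ F.obj X ⟶ F.obj X := LaxMonoidal.μ F X X ≫ F.map m
  have hu : ∀ (T : Over S), toUnit (F.obj T) ≫ e' = F.map (toUnit T ≫ e) := fun T => by
    rw [F.map_comp, map_toUnit, Category.assoc]
  have h₁' : lift (𝟙 (F.obj X)) (toUnit (F.obj X) ≫ e') ≫ m' = 𝟙 (F.obj X) := by
    rw [hu, ← F.map_id X, ← Category.assoc, Monoidal.lift_μ, ← F.map_comp, h₁]
  have h₂' : lift (toUnit (F.obj X) ≫ e') (𝟙 (F.obj X)) ≫ m' = 𝟙 (F.obj X) := by
    rw [hu, ← F.map_id X, ← Category.assoc, Monoidal.lift_μ, ← F.map_comp, h₂]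
  have := isIso_ltr e' m' h₁' h₂' a
  let L := ltr m' a
  have : IsIso L.left := inferInstanceAs (IsIso ((Over.forget _).map L))
  -- the fibre of the first projection
  let J : (F.obj X).left ⟶ (X ⊗ X).left :=
    pullback.lift (pullback.snd X.hom b ≫ xb) (pullback.fst X.hom b) (by
      rw [Category.assoc]; exact pullback.condition.symm)
  have hJ1 : J ≫ (fst X X).left = pullback.snd X.hom b ≫ xb := pullback.lift_fst _ _ _
  have hJ2 : J ≫ (snd X X).left = pullback.fst X.hom b := pullback.lift_snd _ _ _
  have sq₁ : IsPullback J (pullback.snd X.hom b) (fst X X).left xb := by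
    refine IsPullback.of_right (h₁₂ := (snd X X).left) (h₂₂ := X.hom) (v₁₃ := X.hom) ?_ hJ1
      (IsPullback.of_hasPullback X.hom X.hom).flip
    rw [hJ2]
    exact IsPullback.of_hasPullback X.hom b
  have hG : (lift (toUnit (F.obj X) ≫ a) (𝟙 (F.obj X)) ≫ LaxMonoidal.μ F X X).left ≫
      pullback.fst (X ⊗ X).hom b = J := by
    let G := lift (toUnit (F.obj X) ≫ a) (𝟙 (F.obj X)) ≫ LaxMonoidal.μ F X X
    have g1 : G ≫ F.map (fst X X) = toUnit _ ≫ a := by
      rw [Category.assoc, Monoidal.μ_fst, lift_fst]
    have g2 : G ≫ F.map (snd X X) = 𝟙 _ := by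
      rw [Category.assoc, Monoidal.μ_snd, lift_snd]
    have k : ∀ (q : X ⊗ X ⟶ X), G.left ≫ pullback.fst (X ⊗ X).hom b ≫ q.left =
        (G ≫ F.map q).left ≫ pullback.fst X.hom b := fun q => by
      show G.left ≫ pullback.fst (X ⊗ X).hom b ≫ q.left =
        (G.left ≫ (F.map q).left) ≫ pullback.fst X.hom b
      refine Eq.trans ?_ (Category.assoc _ _ _).symm
      exact congrArg (G.left ≫ ·) (pullback.lift_fst (f := X.hom) (g := b) _ _ _).symm
    apply pullback.hom_ext
    · refine (Category.assoc _ _ _).trans ((k (fst X X)).trans ?_)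
      rw [g1, Over.comp_left, Category.assoc]
      refine Eq.trans ?_ hJ1.symm
      congr 1
      exact pullback.lift_fst _ _ _
    · refine (Category.assoc _ _ _).trans ((k (snd X X)).trans ?_)
      rw [g2]
      exact (Category.id_comp _).trans hJ2.symm
  have hLw : L.left ≫ pullback.snd X.hom b = pullback.snd X.hom b := Over.w L
  have hcomm : L.left ≫ J = J ≫ φ.left := by
    apply pullback.hom_ext
    · show (L.left ≫ J) ≫ (fst X X).left = (J ≫ φ.left) ≫ (fst X X).left
      rw [Category.assoc, Category.assoc, w, hJ1, reassoc_of% hLw]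
    · show (L.left ≫ J) ≫ (snd X X).left = (J ≫ φ.left) ≫ (snd X X).left
      rw [Category.assoc, Category.assoc, hJ2, show φ.left ≫ (snd X X).left = m.left from congrArg (fun q => q.left) (lift_snd (fst X X) m), ← hG]
      show ((lift (toUnit (F.obj X) ≫ a) (𝟙 (F.obj X)) ≫ LaxMonoidal.μ F X X ≫ F.map m).left) ≫ _ = _
      rw [← Category.assoc (lift _ _), Over.comp_left, Category.assoc, Category.assoc]
      congr 1
      exact pullback.lift_fst _ _ _
  have sq₂ : IsPullback J L.left φ.left J := by
    refine IsPullback.of_bot (v₂₁ := pullback.snd X.hom b) (v₂₂ := (fst X X).left) (h₃₁ := xb)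
      ?_ hcomm.symm sq₁
    rw [hLw, w]
    exact sq₁
  let ι := (fst X X).left.fiberι x
  let n : (F.obj X).left ⟶ (fst X X).left.fiber x :=
    pullback.lift J (pullback.snd X.hom b ≫ Spec.map j) (by rw [Category.assoc]; exact hJ1)
  have hn : n ≫ ι = J := pullback.lift_fst _ _ _
  have sqn : IsPullback n (pullback.snd X.hom b)
      ((fst X X).left.fiberToSpecResidueField x) (Spec.map j) := by
    refine IsPullback.of_right (h₁₂ := ι) (h₂₂ := X.left.fromSpecResidueField x) (v₁₃ := (fst X X).left) ?_
      (pullback.lift_snd _ _ _) (IsPullback.of_hasPullback _ _)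
    rw [hn]
    exact sq₁
  haveI : Flat (Spec.map j) := by
    rw [HasRingHomProperty.Spec_iff (P := @Flat)]
    show RingHom.Flat (algebraMap (X.left.residueField x) Ω)
    rw [RingHom.flat_algebraMap_iff]
    infer_instance
  haveI : Surjective (Spec.map j) :=
    ⟨fun t => ⟨IsLocalRing.closedPoint Ω, Subsingleton.elim (α := PrimeSpectrum (X.left.residueField x)) _ _⟩⟩
  have hQ : (@Surjective ⊓ @Flat ⊓ @QuasiCompact : MorphismProperty Scheme.{u}) n :=
    ⟨⟨MorphismProperty.of_isPullback sqn.flip ‹Surjective (Spec.map j)›,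
      MorphismProperty.of_isPullback sqn.flip ‹Flat (Spec.map j)›⟩,
      MorphismProperty.of_isPullback sqn.flip (inferInstanceAs (QuasiCompact (Spec.map j)))⟩
  let k : (F.obj X).left ⟶ pullback φ.left ι :=
    pullback.lift J (L.left ≫ n) (by rw [Category.assoc, hn, hcomm])
  have sq₃ : IsPullback k L.left (pullback.snd φ.left ι) n := by
    refine IsPullback.of_right (h₁₂ := pullback.fst φ.left ι) (h₂₂ := ι) (v₁₃ := φ.left) ?_
      (pullback.lift_snd _ _ _) (IsPullback.of_hasPullback _ _)
    rw [hn, pullback.lift_fst]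
    exact sq₂
  exact MorphismProperty.of_isPullback_of_descendsAlong (P := MorphismProperty.isomorphisms Scheme.{u})
    (Q := @Surjective ⊓ @Flat ⊓ @QuasiCompact) sq₃.flip hQ (inferInstanceAs (IsIso L.left))

end Groth.Agent.AV
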