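import Groth.Agent.L08.Cube.SliceFibre
import Groth.Agent.L08.SubgroupObj
import Groth.Agent.L25.GeomRed
import Groth.Agent.L18.AmpleAvoid
import Groth.Agent.L25.Component

/-!
# The closure of a group of rational points is a subgroup scheme
-/

set_option autoImplicit false
set_option linter.style.haveILetI false
set_option backward.isDefEq.respectTransparency.types false

universe u

open CategoryTheory CategoryTheory.Limits MonoidalCategory CartesianMonoidalCategory MonObj AlgebraicGeometry

noncomputable section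

namespace Groth.Agent.AV.PointClosure

open Groth.L08.Cube (kpt exists_kpt isClosed_kpt)

variable {k : Type u} [Field k] [IsAlgClosed k]

theorem kpt_comp {A C : Over (Spec (CommRingCat.of k))} (a : 𝟙_ (Over (Spec (CommRingCat.of k))) ⟶ A)
    (f : A ⟶ C) : f.left (kpt a) = kpt (a ≫ f) := by
  rfl

variable {A : Over (Spec (CommRingCat.of k))} [GrpObj A] [IsCommMonObj A] [LocallyOfFiniteType A.hom]

/-- The closure of a subgroup of rational points underlies a closed subgroup scheme. -/
theorem exists_closureSubgroup (H : Subgroup (𝟙_ (Over (Spec (CommRingCat.of k))) ⟶ A)) :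
    ∃ (K : Over (Spec (CommRingCat.of k))) (_ : GrpObj K) (i : K ⟶ A), IsMonHom i ∧ IsClosedImmersion i.left ∧
      Set.range i.left = closure {x | ∃ h ∈ H, x = kpt h} ∧
      ∀ h ∈ H, ∃ b : 𝟙_ (Over (Spec (CommRingCat.of k))) ⟶ K, b ≫ i = h := by
  let Z : Set A.left := closure {x | ∃ h ∈ H, x = kpt h}
  have hHZ : ∀ h ∈ H, kpt h ∈ Z := fun h hh => subset_closure ⟨h, hh, rfl⟩
  let T : (𝟙_ (Over (Spec (CommRingCat.of k))) ⟶ A) → (A ⟶ A) := fun a => (toUnit A ≫ a) * 𝟙 A
  have hT : ∀ a b, b ≫ T a = a * b := by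
    intro a b
    show b ≫ ((toUnit A ≫ a) * 𝟙 A) = a * b
    rw [MonObj.comp_mul, ← Category.assoc, toUnit_unique (b ≫ toUnit A) (𝟙 _), Category.id_comp,
      Category.comp_id]
  have hTcl : ∀ a, (∀ h ∈ H, (T a).left (kpt h) ∈ Z) → Set.MapsTo (T a).left Z Z := by
    intro a ha
    have h1 := Set.MapsTo.closure (show Set.MapsTo (T a).left {x | ∃ h ∈ H, x = kpt h} Z from
      fun x ⟨h, hh, hx⟩ => hx ▸ ha h hh) (T a).left.continuous
    rwa [show closure Z = Z from closure_closure] at h1
  have hHpres : ∀ h ∈ H, Set.MapsTo (T h).left Z Z := fun h hh =>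
    hTcl h fun h' hh' => by rw [kpt_comp, hT]; exact hHZ _ (H.mul_mem hh hh')
  have hmulZ : ∀ a b, kpt a ∈ Z → kpt b ∈ Z → kpt (a * b) ∈ Z := by
    intro a b ha hb
    have h1 := hTcl a (fun h hh => by
      have h2 := hHpres h hh ha
      rw [kpt_comp, hT] at h2
      rw [kpt_comp, hT, mul_comm]
      exact h2) hb
    rwa [kpt_comp, hT] at h1
  have hinvZ : Set.MapsTo ((𝟙 A)⁻¹ : A ⟶ A).left Z Z := by
    have h1 := Set.MapsTo.closure (show Set.MapsTo ((𝟙 A)⁻¹ : A ⟶ A).left {x | ∃ h ∈ H, x = kpt h} Z from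
      fun x ⟨h, hh, hx⟩ => by
        rw [hx, kpt_comp, GrpObj.comp_inv, Category.comp_id]
        exact hHZ _ (H.inv_mem hh)) ((𝟙 A)⁻¹ : A ⟶ A).left.continuous
    rwa [show closure Z = Z from closure_closure] at h1
  let C : TopologicalSpace.Closeds A.left := ⟨Z, isClosed_closure⟩
  let I := Scheme.IdealSheafData.vanishingIdeal C
  haveI : IsReduced I.subscheme := Groth.L18.isReduced_vanishingIdeal_subscheme C
  let K : Over (Spec (CommRingCat.of k)) := Over.mk (I.subschemeι ≫ A.hom)
  let i : K ⟶ A := Over.homMk I.subschemeι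
  haveI : IsClosedImmersion i.left := inferInstanceAs (IsClosedImmersion I.subschemeι)
  haveI : Mono i := Groth.L08.mono_of_closedImmersion i
  have hr : Set.range i.left = Z :=
    I.range_subschemeι.trans (Scheme.IdealSheafData.coe_support_vanishingIdeal C)
  haveI : LocallyOfFiniteType K.hom := inferInstanceAs (LocallyOfFiniteType (I.subschemeι ≫ A.hom))
  haveI : IsReduced K.left := ‹IsReduced I.subscheme›
  haveI : IsReduced (K ⊗ K).left := Groth.L25.GeomRed.isReduced_pullback K.hom K.hom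
  haveI : IsReduced (𝟙_ (Over (Spec (CommRingCat.of k)))).left :=
    inferInstanceAs (IsReduced (Spec (CommRingCat.of k)))
  have hfac : ∀ {S : Over (Spec (CommRingCat.of k))} [IsReduced S.left] (f : S ⟶ A),
      (∀ x, f.left x ∈ Z) → ∃ z : S ⟶ K, z ≫ i = f := by
    intro S _ f hf
    haveI : Surjective (pullback.snd i.left f.left) := ⟨fun y => by
      obtain ⟨z, hz⟩ := (hr.symm ▸ hf y : f.left y ∈ Set.range i.left)
      obtain ⟨w, -, hw⟩ := Scheme.Pullback.exists_preimage_pullback z y hz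
      exact ⟨w, hw⟩⟩
    obtain ⟨c, hc⟩ := Groth.L25.GeomRed.exists_factor (pullback.snd i.left f.left) (𝟙 _)
    refine ⟨Over.homMk (c ≫ pullback.fst i.left f.left) ?_, Over.OverMorphism.ext ?_⟩
    · rw [← Over.w i, Category.assoc, pullback.condition_assoc, Over.w f, reassoc_of% hc]
    · show (c ≫ pullback.fst _ _) ≫ i.left = f.left
      rw [Category.assoc, pullback.condition, reassoc_of% hc]
  have hjac : ∀ {S : Over (Spec (CommRingCat.of k))} [LocallyOfFiniteType S.hom] (f : S ⟶ A),
      (∀ a, f.left (kpt a) ∈ Z) → ∀ x, f.left x ∈ Z := by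
    intro S _ f hf x
    haveI : JacobsonSpace S.left := LocallyOfFiniteType.jacobsonSpace S.hom
    by_contra hx
    obtain ⟨y, hy, hyc⟩ := nonempty_inter_closedPoints (Z := (f.left ⁻¹' Z)ᶜ) ⟨x, hx⟩
      (isClosed_closure.preimage f.left.continuous).isOpen_compl.isLocallyClosed
    obtain ⟨a, ha⟩ := exists_kpt y hyc
    exact hy (ha ▸ hf a)
  have hiZ : ∀ a : 𝟙_ (Over (Spec (CommRingCat.of k))) ⟶ K, kpt (a ≫ i) ∈ Z := fun a => by
    rw [← kpt_comp]; exact hr ▸ ⟨_, rfl⟩
  haveI : LocallyOfFiniteType (K ⊗ K).hom :=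
    inferInstanceAs (LocallyOfFiniteType (pullback.fst K.hom K.hom ≫ K.hom))
  obtain ⟨gK, hiK⟩ := Groth.L08.exists_grpObj_of_mono i
    (hfac η[A] (fun x => by
      rw [show x = IsLocalRing.closedPoint k from Subsingleton.elim (α := PrimeSpectrum k) _ _]
      have := hHZ 1 H.one_mem
      rwa [Hom.one_def, toUnit_unique (toUnit _) (𝟙 _), Category.id_comp] at this))
    (hfac _ (hjac _ fun a => by
      rw [kpt_comp, MonObj.comp_mul]
      exact hmulZ _ _ (by rw [← Category.assoc]; exact hiZ _) (by rw [← Category.assoc]; exact hiZ _)))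
    (hfac _ (hjac _ fun a => by
      have h1 := hinvZ (hiZ a)
      rw [kpt_comp, GrpObj.comp_inv, Category.comp_id] at h1
      rw [kpt_comp, GrpObj.comp_inv]
      exact h1))
  refine ⟨K, gK, i, hiK, inferInstance, hr, fun h hh => hfac h fun x => ?_⟩
  rw [show x = IsLocalRing.closedPoint k from Subsingleton.elim (α := PrimeSpectrum k) _ _]
  exact hHZ h hh

end Groth.Agent.AV.PointClosure
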