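import Groth.Agent.L26.AV.TateBaseChange

/-!
# Maps into a base change, seen over the smaller field
-/

set_option autoImplicit false
set_option linter.style.haveILetI false
set_option linter.unusedSectionVars false
set_option backward.isDefEq.respectTransparency false

universe u

open CategoryTheory CategoryTheory.Limits MonoidalCategory CartesianMonoidalCategory AlgebraicGeometry
open scoped MonObj

noncomputable section

namespace Groth.Agent.AV.BCAdjoint

/-- The adjoint of a map into the base change. -/
def down {k : Type u} [Field k] (K : Type u) [Field K] [Algebra k K] {A : Over (Spec (CommRingCat.of k))} {U : Over (Spec (CommRingCat.of K))} (f : U ⟶ TateBaseChange.bc K A) :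
    Over.mk (U.hom ≫ TateBaseChange.st (k := k) K) ⟶ A :=
  Over.homMk (f.left ≫ pullback.fst A.hom (TateBaseChange.st (k := k) K)) (by
    show (f.left ≫ pullback.fst A.hom _) ≫ A.hom = U.hom ≫ _
    rw [Category.assoc, pullback.condition, ← Category.assoc]
    exact congrArg (· ≫ _) (Over.w f))

theorem down_mul {k : Type u} [Field k] (K : Type u) [Field K] [Algebra k K] {A : Over (Spec (CommRingCat.of k))} [GrpObj A] {U : Over (Spec (CommRingCat.of K))} (f g : U ⟶ TateBaseChange.bc K A) :
    down K (f * g) = down K f * down K g := by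
  let P := Over.pullback (TateBaseChange.st (k := k) K)
  let W := Over.mk (U.hom ≫ TateBaseChange.st (k := k) K)
  let unit : U ⟶ P.obj W := Over.homMk (pullback.lift (𝟙 _) U.hom (by rw [Category.id_comp]; rfl)) (pullback.lift_snd _ _ _)
  have h1 : ∀ (φ : W ⟶ A) (h : U ⟶ TateBaseChange.bc K A), h = unit ≫ P.map φ → down K h = φ := fun φ h e => by
    subst e
    refine Over.OverMorphism.ext ?_
    show (pullback.lift (𝟙 _) U.hom _ ≫ _) ≫ _ = _
    rw [Category.assoc]
    erw [pullback.lift_fst]
    rw [pullback.lift_fst_assoc, Category.id_comp]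
  have h2 : ∀ h : U ⟶ TateBaseChange.bc K A, h = unit ≫ P.map (down K h) := fun h => by
    refine Over.OverMorphism.ext (pullback.hom_ext ?_ ((Over.w h).trans (Over.w (unit ≫ P.map (down K h))).symm))
    show _ = (pullback.lift (𝟙 _) U.hom _ ≫ _) ≫ _
    rw [Category.assoc]
    erw [pullback.lift_fst]
    rw [pullback.lift_fst_assoc, Category.id_comp]
    rfl
  refine h1 _ _ ?_
  show f * g = unit ≫ P.homMonoidHom (down K f * down K g)
  rw [map_mul, MonObj.comp_mul]
  exact congrArg₂ (· * ·) (h2 f) (h2 g)

end Groth.Agent.AV.BCAdjoint
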