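import Groth.Agent.L26.AV.FrobRH
import Mathlib.RingTheory.Flat.Basic
import Mathlib.RingTheory.Localization.Integral

/-!
# The characteristic and the minimal polynomial of an endomorphism
-/

set_option autoImplicit false
set_option linter.style.haveILetI false
set_option linter.unusedSectionVars false
set_option backward.isDefEq.respectTransparency.types false

universe u

open CategoryTheory CategoryTheory.Limits AlgebraicGeometry
open scoped MonObj
open Polynomial
open scoped TensorProduct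

noncomputable section

namespace Groth.Agent.AV.CharMin

variable {k : Type u} [Field k] {A : Over (Spec (CommRingCat.of k))}
  [GrpObj A] [IsCommMonObj A] [IsProper A.hom] [GeometricallyIntegral A.hom]

theorem free_end : Module.Free ℤ (EndAV.End A) ∧ Module.Finite ℤ (EndAV.End A) := by
  obtain ⟨g, -, hg⟩ := Groth.L08.GrpDim.exists_dim A
  exact ⟨(HomFin.finite_free k A A hg hg).1, (HomFin.finite_free k A A hg hg).2.1⟩

/-- `End A ⟶ End⁰ A` is injective. -/
theorem toEnd0_injective : Function.Injective (EndAV.toEnd0 (A := A)) := by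
  haveI : Module.Free ℤ (EndAV.End A) := free_end.1
  exact Algebra.TensorProduct.includeRight_injective (B := EndAV.End A) (algebraMap ℤ ℚ).injective_int

theorem aeval_toEnd0 (φ : EndAV.End A) (G : ℤ[X]) :
    aeval (EndAV.toEnd0 φ) (G.map (Int.castRingHom ℚ)) = EndAV.toEnd0 (aeval φ G) := by
  rw [show Int.castRingHom ℚ = algebraMap ℤ ℚ from rfl, aeval_map_algebraMap]
  exact FrobRH.aeval_ringHom (EndAV.toEnd0 (A := A)).toRingHom φ G

/-- The action on Tate modules is faithful. -/
theorem eq_zero_of_tateRep (K : Type u) [Field K] [Algebra k K] [IsAlgClosed K] (l : ℕ) [Fact l.Prime]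
    (hl : (l : k) ≠ 0) (x : EndAV.End A) (hx : EndAV.End.tateRep l (Isogeny.geomPt k K) x = 0) : x = 0 := by
  by_contra hne
  haveI : Module.Free ℤ (EndAV.Hom A A) := free_end.1
  have h := HomFin.linearIndependent_tateMap A A K l hl (fun _ : Fin 1 => x)
    (LinearIndependent.of_subsingleton 0 hne)
  exact h.ne_zero 0 hx

/-- The Cayley-Hamilton theorem. -/
theorem aeval_char (K : Type u) [Field K] [Algebra k K] [IsAlgClosed K] (l : ℕ) [Fact l.Prime] (hl : (l : k) ≠ 0)
    [Module.Free ℤ_[l] (AbDual.TateMod A l (Isogeny.geomPt k K))]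
    [Module.Finite ℤ_[l] (AbDual.TateMod A l (Isogeny.geomPt k K))] (φ : EndAV.End A) (P : ℤ[X])
    (hP : (EndAV.End.tateRep l (Isogeny.geomPt k K) φ).charpoly = P.map (Int.castRingHom ℤ_[l])) :
    aeval φ P = 0 := by
  refine eq_zero_of_tateRep K l hl _ ?_
  rw [← FrobRH.aeval_ringHom, ← aeval_map_algebraMap ℤ_[l],
    show P.map (algebraMap ℤ ℤ_[l]) = P.map (Int.castRingHom ℤ_[l]) from rfl, ← hP, LinearMap.aeval_self_charpoly]

/-- The minimal polynomial divides the characteristic polynomial and has all its complex roots. -/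
theorem minpoly_dvd_and_roots (K : Type u) [Field K] [Algebra k K] [IsAlgClosed K] (l : ℕ) [Fact l.Prime]
    (hl : (l : k) ≠ 0) [Module.Free ℤ_[l] (AbDual.TateMod A l (Isogeny.geomPt k K))]
    [Module.Finite ℤ_[l] (AbDual.TateMod A l (Isogeny.geomPt k K))] (φ : EndAV.End A) (P : ℤ[X])
    (hP : (EndAV.End.tateRep l (Isogeny.geomPt k K) φ).charpoly = P.map (Int.castRingHom ℤ_[l])) :
    minpoly ℚ (EndAV.toEnd0 φ) ∣ P.map (Int.castRingHom ℚ) ∧
      ∀ α ∈ (P.map (Int.castRingHom ℂ)).roots, aeval α (minpoly ℚ (EndAV.toEnd0 φ)) = 0 := by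
  refine ⟨minpoly.dvd ℚ _ (by rw [aeval_toEnd0, aeval_char K l hl φ P hP, map_zero]), fun α hα => ?_⟩
  let m := minpoly ℚ (EndAV.toEnd0 φ)
  obtain ⟨c, hc, hν⟩ := IsLocalization.integerNormalization_spec (S := ℚ) (nonZeroDivisors ℤ) m
  set ν := IsLocalization.integerNormalization (nonZeroDivisors ℤ) m with hνdef
  have hν' : ν.map (Int.castRingHom ℚ) = (c : ℤ) • m := by
    rw [show Int.castRingHom ℚ = algebraMap ℤ ℚ from rfl, hν]
  have h0 : aeval φ ν = 0 := toEnd0_injective (by
    rw [← aeval_toEnd0, hν', map_zsmul, minpoly.aeval, smul_zero, map_zero])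
  have h1 := FrobRH.aeval_root_eq_zero φ.toHom l (Isogeny.geomPt k K) P ν
    (by rw [← EndAV.End.tateRep_apply]; exact hP) h0 α hα
  have h2 : aeval α (ν.map (Int.castRingHom ℚ)) = 0 := by
    rw [show Int.castRingHom ℚ = algebraMap ℤ ℚ from rfl, aeval_map_algebraMap]
    exact h1
  rw [hν', map_zsmul, smul_eq_zero] at h2
  exact h2.resolve_left (nonZeroDivisors.ne_zero hc)

/-- An irreducible minimal polynomial has the characteristic polynomial as a power. -/
theorem eq_pow_of_irreducible {m p : ℚ[X]} (hm : m.Monic) (hirr : Irreducible m) (hp : p.Monic)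
    (hroots : ∀ α ∈ (p.map (algebraMap ℚ ℂ)).roots, aeval α m = 0) : p = m ^ (p.natDegree / m.natDegree) := by
  have key : ∀ (n : ℕ) (p : ℚ[X]), p.natDegree ≤ n → p.Monic →
      (∀ α ∈ (p.map (algebraMap ℚ ℂ)).roots, aeval α m = 0) → p = m ^ (p.natDegree / m.natDegree) := by
    intro n
    induction n with
    | zero =>
      intro p hd hp _
      rw [hp.natDegree_eq_zero.1 (Nat.le_zero.1 hd), natDegree_one, Nat.zero_div, pow_zero]
    | succ n ih =>
      intro p hd hp hr
      rcases Nat.eq_zero_or_pos p.natDegree with h0 | hpos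
      · rw [hp.natDegree_eq_zero.1 h0, natDegree_one, Nat.zero_div, pow_zero]
      obtain ⟨α, hα⟩ := IsAlgClosed.exists_root (p.map (algebraMap ℚ ℂ)) (by
        rw [hp.degree_map]; exact (natDegree_pos_iff_degree_pos.1 hpos).ne')
      have h1 := hr α (mem_roots'.2 ⟨(hp.map _).ne_zero, hα⟩)
      have hmin : minpoly ℚ α = m := (minpoly.eq_of_irreducible_of_monic hirr h1 hm).symm
      have hdvd : m ∣ p := hmin ▸ minpoly.dvd ℚ α (by rw [← eval_map_algebraMap]; exact hα)
      obtain ⟨r, rfl⟩ := hdvd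
      have hrm : r.Monic := hm.of_mul_monic_left hp
      have hmd : 0 < m.natDegree := hirr.natDegree_pos
      rw [hm.natDegree_mul hrm] at hd ⊢
      rw [Nat.add_div_left _ hmd, pow_succ', ← ih r (by omega) hrm fun β hβ => hr β ?_]
      rw [Polynomial.map_mul, roots_mul (mul_ne_zero (hm.map _).ne_zero (hrm.map _).ne_zero)]
      exact Multiset.mem_add.2 (Or.inr hβ)
  exact key _ p le_rfl hp hroots

end Groth.Agent.AV.CharMin

namespace Groth.Agent.AV.CharMin

open scoped MonObj

variable {k : Type u} [Field k] {A : Over (Spec (CommRingCat.of k))}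
  [GrpObj A] [IsCommMonObj A] [IsProper A.hom] [GeometricallyIntegral A.hom]

/-- The minimal polynomial of an endomorphism is integral. -/
theorem exists_int_min (K : Type u) [Field K] [Algebra k K] [IsAlgClosed K] (l : ℕ) [Fact l.Prime] (hl : (l : k) ≠ 0)
    [Module.Free ℤ_[l] (AbDual.TateMod A l (Isogeny.geomPt k K))]
    [Module.Finite ℤ_[l] (AbDual.TateMod A l (Isogeny.geomPt k K))] (φ : EndAV.End A) :
    ∃ ν : ℤ[X], ν.Monic ∧ ν.map (Int.castRingHom ℚ) = minpoly ℚ (EndAV.toEnd0 φ) ∧ aeval φ ν = 0 := by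
  obtain ⟨P, hm, -, hT, -⟩ := CharTateExt.exists_char K φ.toHom
  have hP := (hT l hl).1
  have hdvd := (minpoly_dvd_and_roots K l hl φ P hP).1
  have hint : _root_.IsIntegral ℚ (EndAV.toEnd0 φ) := ⟨P.map (Int.castRingHom ℚ), hm.map _, by
    rw [← aeval_def, aeval_toEnd0, aeval_char K l hl φ P hP, map_zero]⟩
  obtain ⟨ν, hν⟩ := IsIntegrallyClosed.eq_map_mul_C_of_dvd ℚ hm
    (show minpoly ℚ (EndAV.toEnd0 φ) ∣ P.map (algebraMap ℤ ℚ) from hdvd)
  rw [(minpoly.monic hint).leadingCoeff, C_1, mul_one] at hν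
  change ν.map (Int.castRingHom ℚ) = _ at hν
  refine ⟨ν, monic_of_injective (f := Int.castRingHom ℚ) Int.cast_injective (hν ▸ minpoly.monic hint), hν,
    toEnd0_injective ?_⟩
  rw [← aeval_toEnd0, hν, minpoly.aeval, map_zero]

/-- The degree of the characteristic polynomial. -/
theorem natDegree_char (K : Type u) [Field K] [Algebra k K] [IsAlgClosed K] (l : ℕ) [Fact l.Prime] (hl : (l : k) ≠ 0)
    [Module.Free ℤ_[l] (AbDual.TateMod A l (Isogeny.geomPt k K))]
    [Module.Finite ℤ_[l] (AbDual.TateMod A l (Isogeny.geomPt k K))] {g : ℕ} (hg : topologicalKrullDim A.left = g)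
    (T : Module.End ℤ_[l] (AbDual.TateMod A l (Isogeny.geomPt k K))) (P : ℤ[X])
    (hP : T.charpoly = P.map (Int.castRingHom ℤ_[l])) : P.Monic ∧ P.natDegree = 2 * g := by
  have hm : P.Monic := monic_of_injective (f := Int.castRingHom ℤ_[l]) Int.cast_injective
    (hP ▸ LinearMap.charpoly_monic _)
  obtain ⟨b⟩ := TateRankGeom.nonempty_basis (A := A) K l hl hg
  have h1 := congrArg natDegree hP
  rw [hm.natDegree_map, LinearMap.charpoly_natDegree, Module.finrank_eq_card_basis b, Fintype.card_fin] at h1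
  exact ⟨hm, h1.symm⟩

end Groth.Agent.AV.CharMin
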