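import Groth.Agent.L26.AV.DegreeForm
import Groth.Agent.L26.Misc.FormNorm
import Groth.Prelude.Def_EndRing

/-!
# The degree on the endomorphism ring of an abelian variety
-/

set_option autoImplicit false
set_option linter.style.haveILetI false
set_option linter.unusedSectionVars false
set_option backward.isDefEq.respectTransparency false

universe u

open CategoryTheory CategoryTheory.Limits MonoidalCategory CartesianMonoidalCategory AlgebraicGeometry

open scoped MonObj

noncomputable section

namespace Groth.Agent.AV.DegreeNorm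

open Groth.L22.Inter InterPic DegreeForm

attribute [local instance] Groth.L08.Cube.clMonoid InterPic.picLaw

variable {k : Type u} [Field k] {A B : Over (Spec (CommRingCat.of k))}
  [GrpObj A] [IsProper A.hom] [GeometricallyIntegral A.hom]
  [GrpObj B] [IsProper B.hom] [GeometricallyIntegral B.hom]

local instance overA : A.left.Over (Spec (CommRingCat.of k)) := ⟨A.hom⟩
local instance : IsProper (A.left ↘ Spec (CommRingCat.of k)) := inferInstanceAs (IsProper A.hom)
local instance overB : B.left.Over (Spec (CommRingCat.of k)) := ⟨B.hom⟩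
local instance : IsProper (B.left ↘ Spec (CommRingCat.of k)) := inferInstanceAs (IsProper B.hom)
local instance : IsIntegral A.left := GeometricallyIntegral.isIntegral_of_subsingleton A.hom
local instance : IsIntegral B.left := GeometricallyIntegral.isIntegral_of_subsingleton B.hom

variable [IsCommMonObj B] (L : B.left.Modules) (hL : PicF.IsInvertible L) {g : ℕ} (hamp : CohB1.IsAmple L)
  (hA : topologicalKrullDim A.left = g) (hB : topologicalKrullDim B.left = g)
include hamp

/-- The projection formula for homomorphisms. -/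
theorem inter_pullPic (φ : A ⟶ B) [IsMonHom φ] (u : Fin g → Additive (PicLoc.PicSet B.left)) :
    inter k hA.le (fun i => Additive.ofMul (pullPic φ.left (u i).toMul)) =
      deg L hL hA φ * inter k hB.le u := by
  have hu : ∀ i, PicF.IsInvertible (rep (u i).toMul) := fun i => isInvertible_rep _
  have e : inter k hA.le (fun i => Additive.ofMul (pullPic φ.left (u i).toMul)) =
      altT k (fun i => (Scheme.Modules.pullback φ.left).obj (rep (u i).toMul)) (Coh.structureModule A.left) :=
    interFun_eq k _ fun i => congrArg (PicF.pullCl φ.left) (cl_rep _)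
  by_cases hφ : IsFinite φ.left
  · haveI := hφ
    haveI : Surjective φ.left := surjective_of_isFinite_of_dim_eq A B φ (hA.trans hB.symm)
    haveI : Flat φ.left := Groth.L08.FlatHom.flat_of_surjective A B φ
    haveI : IsLocallyNoetherian B.left := LocallyOfFiniteType.isLocallyNoetherian B.hom
    haveI : LocallyOfFinitePresentation φ.left := LocallyOfFinitePresentation.iff_locallyOfFiniteType.2 inferInstance
    have hξ := map_genericPoint φ.left
    rw [e, altT_pullback k φ.left (Over.w φ) hξ hA hu,
      ← deg_of_isFinite L hL hamp hA hB φ hφ (genericPoint B.left), finrank_eq_residueDegree φ.left hξ]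
    rfl
  · rw [deg_of_not_isFinite L hL hamp hA hB φ hφ, zero_mul, e]
    obtain ⟨C, gC, i, p, hi, hic, hCp, hCg, hps, hpi, hpm⟩ := exists_image φ
    letI := gC
    haveI : IsIntegral C.left := GeometricallyIntegral.isIntegral_of_subsingleton C.hom
    letI : C.left.Over (Spec (CommRingCat.of k)) := ⟨C.hom⟩
    haveI : IsProper (C.left ↘ Spec (CommRingCat.of k)) := inferInstanceAs (IsProper C.hom)
    obtain ⟨c, -, hc⟩ := Groth.L08.GrpDim.exists_dim C
    have hcg : c + 1 ≤ g := by
      have h1 := i.left.isClosedEmbedding.isInducing.topologicalKrullDim_le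
      rw [hc, hB] at h1
      have h2 : c ≤ g := by exact_mod_cast h1
      refine h2.lt_of_ne fun he => hφ ?_
      haveI : Surjective i.left := surjective_of_isFinite_of_dim_eq C B i (by rw [hc, hB, he])
      haveI : Surjective φ.left := by rw [← hpi, Over.comp_left]; infer_instance
      haveI := locallyQuasiFinite_of_surjective_of_dim_eq A B φ (hA.trans hB.symm)
      haveI : IsProper (φ.left ≫ B.hom) := by rw [Over.w]; infer_instance
      haveI : IsProper φ.left := IsProper.of_comp _ B.hom
      exact IsFinite.of_isProper_of_locallyQuasiFinite _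
    haveI : IsProper (p.left ≫ C.hom) := by rw [Over.w]; infer_instance
    haveI : IsProper p.left := IsProper.of_comp _ C.hom
    have hLi : ∀ j : Fin g, PicF.IsInvertible ((Scheme.Modules.pullback i.left).obj (rep (u j).toMul)) :=
      fun j => Groth.L18.Ample.isInvertible_pullback i.left (hu j)
    have h := altT_pullback k p.left (Over.w p) (map_genericPoint p.left) hA hLi
    haveI : IsLocallyNoetherian C.left := LocallyOfFiniteType.isLocallyNoetherian C.hom
    rw [altT_eq_zero k hLi Groth.L16.CohClosedPush.isCoh_structure (by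
        refine (add_le_add_left ((topologicalKrullDim_subspace_le _ _).trans hc.le) 1).trans ?_
        exact_mod_cast hcg), mul_zero] at h
    refine Eq.trans ?_ h
    refine InterPic.altT_congr k _ fun j => ?_
    show PicF.pullCl φ.left (PicF.cl (rep (u j).toMul)) =
      PicF.pullCl p.left (PicF.pullCl i.left (PicF.cl (rep (u j).toMul)))
    rw [← PicLoc.pullCl_comp, ← Over.comp_left, hpi]

end Groth.Agent.AV.DegreeNorm

namespace Groth.Agent.AV.DegreeNorm

open Groth.L22.Inter InterPic DegreeForm

attribute [local instance] Groth.L08.Cube.clMonoid InterPic.picLaw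

variable {k : Type u} [Field k] (A : Over (Spec (CommRingCat.of k)))
  [GrpObj A] [IsCommMonObj A] [IsProper A.hom] [GeometricallyIntegral A.hom]

/-- A point set for the dimension and an ample symmetric class. -/
structure Setup (g : ℕ) where
  L : A.left.Modules
  amp : CohB1.IsAmple L
  sym : Groth.L08.Cube.pc L (𝟙 A)⁻¹ = Groth.L08.Cube.pc L (𝟙 A)
  dim : topologicalKrullDim A.left = g

theorem nonempty_setup {g : ℕ} (hg : topologicalKrullDim A.left = g) : Nonempty (Setup A g) := by
  obtain ⟨L, hamp, hsym⟩ := Degree.exists_isAmple_symmetric A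
  exact ⟨⟨L, hamp, hsym, hg⟩⟩

variable {A} {g : ℕ} (s : Setup A g)

/-- The degree of an endomorphism. -/
def D (x : EndAV.End A) : ℚ := deg s.L s.amp.1 s.dim x.toHom

theorem D_isFinite (x : EndAV.End A) (h : IsFinite x.toHom.left) (a : A.left) :
    (x.toHom.left.finrank a : ℚ) = D s x :=
  deg_of_isFinite s.L s.amp.1 s.amp s.dim s.dim x.toHom h a

theorem D_not_isFinite (x : EndAV.End A) (h : ¬ IsFinite x.toHom.left) : D s x = 0 :=
  deg_of_not_isFinite s.L s.amp.1 s.amp s.dim s.dim x.toHom h

theorem exists_int_D (x : EndAV.End A) : ∃ n : ℕ, D s x = n := by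
  by_cases h : IsFinite x.toHom.left
  · haveI : IsIntegral A.left := GeometricallyIntegral.isIntegral_of_subsingleton A.hom
    exact ⟨_, (D_isFinite s x h (genericPoint A.left)).symm⟩
  · exact ⟨0, by rw [D_not_isFinite s x h, Nat.cast_zero]⟩

theorem D_one : D s 1 = 1 := by
  haveI : IsIntegral A.left := GeometricallyIntegral.isIntegral_of_subsingleton A.hom
  rw [← D_isFinite s 1 (inferInstanceAs (IsFinite (𝟙 A.left))) (genericPoint A.left)]
  show ((Scheme.Hom.finrank (𝟙 A.left) _ : ℕ) : ℚ) = 1
  rw [Scheme.Hom.finrank_eq_one_of_isIso (𝟙 A.left)]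
  simp

theorem D_mul (x y : EndAV.End A) : D s (x * y) = D s x * D s y := by
  letI : A.left.Over (Spec (CommRingCat.of k)) := ⟨A.hom⟩
  haveI : IsProper (A.left ↘ Spec (CommRingCat.of k)) := inferInstanceAs (IsProper A.hom)
  let e := altT k (fun _ : Fin g => s.L) (Coh.structureModule A.left)
  have hF : F s.L s.amp.1 (x * y).toHom = Additive.ofMul (pullPic y.toHom.left (F s.L s.amp.1 x.toHom).toMul) :=
    Subtype.ext (show PicF.pullCl (y.toHom.left ≫ x.toHom.left) (PicF.cl s.L) = _ from PicLoc.pullCl_comp _ _ _)
  show inter k _ _ / e = (inter k _ _ / e) * D s y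
  simp only [hF]
  rw [inter_pullPic s.L s.amp.1 s.amp s.dim s.dim y.toHom (fun _ => F s.L s.amp.1 x.toHom),
    mul_div_assoc, mul_comm]
  rfl

variable (α : EndAV.End A)

theorem exists_form (N : ℕ) : ∃ Q : MvPolynomial (Fin (N + 1)) ℚ, Q.IsHomogeneous (2 * g) ∧
    ∀ G : Polynomial ℤ, G.natDegree ≤ N →
      D s (Polynomial.aeval α G) = MvPolynomial.eval (fun i : Fin (N + 1) => (G.coeff (i : ℕ) : ℚ)) Q := by
  obtain ⟨Q, hQ, h⟩ := exists_polynomial_deg s.L s.amp.1 s.sym s.amp s.dim s.dim
    (fun i : Fin (N + 1) => (α ^ (i : ℕ)).toHom)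
  refine ⟨Q, hQ, fun G hG => ?_⟩
  rw [← h]
  refine congrArg (deg s.L s.amp.1 s.dim) ?_
  let T : EndAV.End A →+ Additive (A ⟶ A) :=
    AddMonoidHom.mk' (fun φ => Additive.ofMul φ.toHom) fun _ _ => rfl
  apply Additive.ofMul.injective
  show T (Polynomial.aeval α G) = _
  rw [Polynomial.aeval_eq_sum_range' (Nat.lt_succ_of_le hG), ← Fin.sum_univ_eq_sum_range, map_sum, ofMul_prod]
  exact Finset.sum_congr rfl fun i _ => by
    rw [map_zsmul]
    rfl

/-- The forms attached to an endomorphism. -/
def Q (N : ℕ) : MvPolynomial (Fin (N + 1)) ℚ := (exists_form s α N).choose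

theorem spec : FormNorm.Spec (2 * g) (fun G => D s (Polynomial.aeval α G)) (Q s α) where
  even := even_two_mul g
  one := by rw [map_one, D_one]
  mul G H := by rw [map_mul, D_mul]
  hom := (exists_form s α 1).choose_spec.1
  eval N := (exists_form s α N).choose_spec.2

/-- The characteristic polynomial of an endomorphism. -/
theorem exists_char : ∃ P : Polynomial ℤ, P.Monic ∧ P.natDegree = 2 * g ∧
    (∀ n : ℤ, D s (α - (n : EndAV.End A)) = P.eval n) ∧
    ∀ (K : Type) [Field K] [Algebra ℚ K] [IsAlgClosed K] (G : Polynomial ℤ), G.Monic →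
      algebraMap ℚ K (D s (Polynomial.aeval α G)) =
        ((P.map (algebraMap ℤ K)).roots.map fun a => Polynomial.aeval a G).prod := by
  obtain ⟨P, hm, hd, hP⟩ := FormNorm.exists_int_char (spec s α) fun G => by
    obtain ⟨n, hn⟩ := exists_int_D s (Polynomial.aeval α G)
    exact ⟨n, by rw [hn, Int.cast_natCast]⟩
  refine ⟨P, hm, hd, fun n => ?_, fun K _ _ _ G hG => ?_⟩
  · have h := FormNorm.eval_char_int (spec s α) n
    rw [← hP, Polynomial.eval_map] at h
    rw [show D s (α - (n : EndAV.End A)) = D s (Polynomial.aeval α (Polynomial.X - Polynomial.C n)) by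
      rw [map_sub, Polynomial.aeval_X, Polynomial.aeval_C, eq_intCast], ← h]
    exact (Polynomial.eval₂_at_intCast _ _).trans (by simp)
  · rw [FormNorm.norm_formula (spec s α) (K := K) G hG, ← hP, Polynomial.map_map]
    rw [show (algebraMap ℚ K).comp (Int.castRingHom ℚ) = algebraMap ℤ K from RingHom.ext_int _ _]

theorem toHom_sub_intCast (n : ℤ) : (α - (n : EndAV.End A)).toHom = α.toHom * 𝟙 A ^ (-n) := by
  rw [EndAV.End.toHom_sub, EndAV.End.toHom_intCast, zpow_neg, div_eq_mul_inv]

end Groth.Agent.AV.DegreeNorm
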