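import Groth.Agent.L08.Cube.Fibrewise
import Groth.Agent.L08.Cube.SeesawH0

/-!
# Triviality of invertible modules descends along extensions of the ground field
-/

set_option autoImplicit false
set_option linter.style.haveILetI false
set_option linter.unusedSectionVars false
set_option backward.isDefEq.respectTransparency false

universe u

open CategoryTheory CategoryTheory.Limits AlgebraicGeometry

noncomputable section

namespace Groth.Agent.AV.FieldTrivial

open Groth.L08.Cube

variable {K : Type u} [Field K] {V : Scheme.{u}} (q : V ⟶ Spec (CommRingCat.of K))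
  [IsProper q] [GeometricallyIntegral q]

theorem exists_ne_zero {K' : Type u} [Field K'] [Algebra K K'] {V' : Scheme.{u}} (g : V' ⟶ V)
    (q' : V' ⟶ Spec (CommRingCat.of K'))
    (sq : IsPullback g q' q (Spec.map (CommRingCat.ofHom (algebraMap K K'))))
    (M : V.Modules) (hM : PicF.IsInvertible M)
    (θ : (Scheme.Modules.pullback g).obj M ≅ Coh.structureModule V') : ∃ σ : Γ(M, ⊤), σ ≠ 0 := by
  haveI : IsIntegral V := GeometricallyIntegral.isIntegral_of_subsingleton q
  haveI := Groth.L21.Extend.isQCoh_of_isInvertible hM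
  obtain ⟨m⟩ := Groth.L17.BC.nonempty_model q M (Groth.L18.Ample.isCoh_of_isInvertible hM) (flat_sections q hM)
  obtain ⟨hne, hbij⟩ := bijective_toGlobal_baseChange q (bijective_toGlobal_of_geometric q) g q' sq
  haveI := hne
  have h1 := m.finrank_eq_dRank q' g sq 0
  rw [finrank_HH_zero_of_iso q' hbij θ] at h1
  have sq0 : IsPullback (𝟙 V) q q (Spec.map (CommRingCat.ofHom (algebraMap K K))) := by
    rw [Algebra.algebraMap_self, CommRingCat.ofHom_id, Spec.map_id]
    exact IsPullback.of_id_fst
  have h0 := m.finrank_eq_dRank q (𝟙 V) sq0 0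
  rw [show PrimeSpectrum.comap (algebraMap K K) ⊥ = PrimeSpectrum.comap (algebraMap K K') ⊥ from
    Subsingleton.elim _ _, ← h1] at h0
  letI : Module K (Coh.HH V ((Scheme.Modules.pullback (𝟙 V)).obj M) 0) := Module.compHom _ (Coh.toGlobal q)
  haveI : Nontrivial (Coh.HH V ((Scheme.Modules.pullback (𝟙 V)).obj M) 0) :=
    Module.nontrivial_of_finrank_pos (R := K) (h0.symm ▸ Nat.one_pos)
  haveI : Nontrivial (Coh.HH V M 0) :=
    (Groth.L17.BC.HHequiv ((Scheme.Modules.pullbackId V).app M) 0).toAddEquiv.injective.nontrivial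
  obtain ⟨x, hx⟩ := exists_ne (0 : Coh.HH V M 0)
  exact ⟨Groth.L21.RR.e0 _ x, fun h' => hx ((Groth.L21.RR.e0 _).injective (h'.trans (map_zero _).symm))⟩

theorem nonempty_iso_structureModule {K' : Type u} [Field K'] [Algebra K K'] {V' : Scheme.{u}} (g : V' ⟶ V)
    (q' : V' ⟶ Spec (CommRingCat.of K'))
    (sq : IsPullback g q' q (Spec.map (CommRingCat.ofHom (algebraMap K K'))))
    (L : V.Modules) (hL : PicF.IsInvertible L)
    (θ : (Scheme.Modules.pullback g).obj L ≅ Coh.structureModule V') : Nonempty (L ≅ Coh.structureModule V) := by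
  haveI : IsIntegral V := GeometricallyIntegral.isIntegral_of_subsingleton q
  obtain ⟨N, hN, ⟨ε⟩⟩ := exists_inverse hL
  have θN : (Scheme.Modules.pullback g).obj N ≅ Coh.structureModule V' :=
    (Groth.L00.Tensor.tensorUnitLeft _).symm ≪≫ Groth.L00.Tensor.tensorIso θ.symm (Iso.refl _) ≪≫
      (Groth.L29.DC.PullTensor.pullTensor g L N ≪≫ (Scheme.Modules.pullback g).mapIso ε ≪≫
        Groth.L29.LocFree.pullbackUnitIso g)
  obtain ⟨σ, hσ⟩ := exists_ne_zero q g q' sq L hL θ
  obtain ⟨τ, hτ⟩ := exists_ne_zero q g q' sq N hN θN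
  obtain ⟨t, ht⟩ := exists_cosec ε hL hN hτ
  exact nonempty_iso_of_sec_cosec (isField_of_universallyClosed K q) hL σ hσ t ht

end Groth.Agent.AV.FieldTrivial
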