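/-
Finiteness of field valued points of finite schemes.
-/
import Mathlib.AlgebraicGeometry.Morphisms.Finite
import Mathlib.CategoryTheory.Comma.Over.Basic
import Mathlib.RingTheory.IntegralClosure.Algebra.Basic
import Mathlib.Algebra.Polynomial.Roots

set_option autoImplicit false
set_option linter.style.haveILetI false

universe u

open CategoryTheory AlgebraicGeometry

namespace Groth.Agent.AV.FinitePts

/-- Algebra homomorphisms from a finite algebra into a domain form a finite set. -/
theorem finite_algHom (R B L : Type u) [CommRing R] [CommRing B] [Algebra R B] [Module.Finite R B]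
    [CommRing L] [IsDomain L] [Algebra R L] : Finite (B →ₐ[R] L) := by
  classical
  obtain ⟨s, hs⟩ := Module.Finite.fg_top (R := R) (M := B)
  have hroots : ∀ b : B, {x : L | ∃ φ : B →ₐ[R] L, φ b = x}.Finite := by
    intro b
    obtain ⟨p, hp, hp0⟩ := Algebra.IsIntegral.isIntegral (R := R) b
    refine Set.Finite.subset ((p.map (algebraMap R L)).roots.toFinset.finite_toSet) ?_
    rintro x ⟨φ, rfl⟩
    rw [Finset.mem_coe, Multiset.mem_toFinset, Polynomial.mem_roots (hp.map _).ne_zero,
      Polynomial.IsRoot.def, Polynomial.eval_map, ← φ.comp_algebraMap]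
    exact (Polynomial.hom_eval₂ p (algebraMap R B) φ.toRingHom b).symm.trans (by rw [hp0, map_zero])
  haveI : ∀ b : (s : Set B), Finite {x : L | ∃ φ : B →ₐ[R] L, φ b.1 = x} := fun b => (hroots b.1).to_subtype
  refine Finite.of_injective
    (fun φ (b : (s : Set B)) => (⟨φ b.1, φ, rfl⟩ : {x : L | ∃ ψ : B →ₐ[R] L, ψ b.1 = x})) ?_
  intro φ ψ h
  have e : φ.toLinearMap = ψ.toLinearMap :=
    LinearMap.ext_on hs fun b hb => congrArg Subtype.val (congrFun h ⟨b, hb⟩)
  exact AlgHom.ext fun b => LinearMap.congr_fun e b

set_option backward.isDefEq.respectTransparency.types false in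
/-- Points of a finite scheme with values in a domain form a finite set. -/
theorem finite_points {R L : Type u} [CommRing R] [CommRing L] [IsDomain L] [Algebra R L]
    (P : Over (Spec (CommRingCat.of R))) [IsFinite P.hom] :
    Finite (Over.mk (Spec.map (CommRingCat.ofHom (algebraMap R L))) ⟶ P) := by
  haveI : IsAffine P.left := isAffine_of_isAffineHom P.hom
  obtain ⟨φ, hφ⟩ := Spec.map_surjective (P.left.isoSpec.inv ≫ P.hom)
  have hfin : φ.hom.Finite := by
    rw [← IsFinite.SpecMap_iff, hφ]; infer_instance
  letI := φ.hom.toAlgebra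
  haveI : Module.Finite R Γ(P.left, ⊤) := hfin
  haveI := finite_algHom R Γ(P.left, ⊤) L
  let T : Over (Spec (CommRingCat.of R)) := Over.mk (Spec.map (CommRingCat.ofHom (algebraMap R L)))
  refine Finite.of_injective (fun a : T ⟶ P =>
    (⟨(Spec.preimage (a.left ≫ P.left.isoSpec.hom)).hom, fun r => by
      have : φ ≫ Spec.preimage (a.left ≫ P.left.isoSpec.hom) = CommRingCat.ofHom (algebraMap R L) :=
        Spec.map_injective (by
          rw [Spec.map_comp, Spec.map_preimage, hφ, Category.assoc, Iso.hom_inv_id_assoc, Over.w]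
          rfl)
      exact congr($this r)⟩ : Γ(P.left, ⊤) →ₐ[R] L)) ?_
  intro a b h
  have h1 : Spec.preimage (a.left ≫ P.left.isoSpec.hom) = Spec.preimage (b.left ≫ P.left.isoSpec.hom) :=
    CommRingCat.hom_ext (congrArg AlgHom.toRingHom h)
  have h2 := congrArg Spec.map h1
  rw [Spec.map_preimage, Spec.map_preimage] at h2
  exact Over.OverMorphism.ext ((cancel_mono P.left.isoSpec.hom).1 h2)

end Groth.Agent.AV.FinitePts
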