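import Groth.Agent.L26.AV.FrobRH
import Groth.Agent.L26.AV.FrobIsogeny
import Mathlib.RingTheory.Polynomial.Resultant.Basic
import Mathlib.Analysis.Polynomial.Basic

/-!
# The characteristic polynomial of Frobenius
-/

set_option autoImplicit false
set_option linter.style.haveILetI false
set_option linter.unusedSectionVars false
set_option backward.isDefEq.respectTransparency false
set_option backward.isDefEq.respectTransparency.types false

universe u

open CategoryTheory CategoryTheory.Limits MonoidalCategory CartesianMonoidalCategory MonObj AlgebraicGeometry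

noncomputable section

namespace Groth.Agent.AV.FrobData

open Groth.L22.Inter InterPic DegreeForm

attribute [local instance] Groth.L08.Cube.clMonoid InterPic.picLaw

variable {k : Type u} [Field k] {X : Over (Spec (CommRingCat.of k))}
  [GrpObj X] [IsCommMonObj X] [IsProper X.hom] [GeometricallyIntegral X.hom]
  (π : X ⟶ X) [IsMonHom π] (q : ℕ)

local instance overX : X.left.Over (Spec (CommRingCat.of k)) := ⟨X.hom⟩
local instance : IsProper (X.left ↘ Spec (CommRingCat.of k)) := inferInstanceAs (IsProper X.hom)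

/-- The degree of an endomorphism multiplying classes by `q` is `q ^ g`. -/
theorem D_eq (hq : FrobRH.PullPow π q) {g : ℕ} (s : DegreeNorm.Setup X g) :
    DegreeNorm.D s (EndAV.End.of π) = (q : ℚ) ^ g := by
  have h1 := DegreeNorm.D_one s
  show deg s.L s.amp.1 s.dim π = _
  have e : F s.L s.amp.1 π = (q : ℤ) • F s.L s.amp.1 (𝟙 X) := by
    rw [natCast_zsmul, ← FrobRH.F_comp s.L s.amp.1 hq, Category.comp_id]
  rw [deg, e, (inter k s.dim.le).map_smul_univ (fun _ : Fin g => (q : ℤ)) (fun _ => F s.L s.amp.1 (𝟙 X)),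
    Finset.prod_const, Finset.card_univ, Fintype.card_fin, zsmul_eq_mul, mul_div_assoc, Int.cast_pow,
    Int.cast_natCast]
  exact (congrArg (fun x => (q : ℚ) ^ g * x) h1).trans (_root_.mul_one _)

/-- The basic properties of the characteristic polynomial. -/
theorem data [Finite k] (hb : π.left.base = 𝟙 _) (hq : FrobRH.PullPow π q) (hq0 : 0 < q)
    (K : Type u) [Field K] [Algebra k K] [IsAlgClosed K] (l : ℕ) [Fact l.Prime] (hl : (l : k) ≠ 0)
    [Module.Free ℤ_[l] (AbDual.TateMod X l (Isogeny.geomPt k K))]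
    [Module.Finite ℤ_[l] (AbDual.TateMod X l (Isogeny.geomPt k K))]
    {g : ℕ} (hg : topologicalKrullDim X.left = g) (P : Polynomial ℤ)
    (hP : (AbDual.tateMapₗ (l := l) (T := Isogeny.geomPt k K) π).charpoly = P.map (Int.castRingHom ℤ_[l])) :
    P.Monic ∧ P.natDegree = 2 * g ∧ P.eval 0 = (q : ℤ) ^ g ∧
      ∀ α ∈ (P.map (Int.castRingHom ℂ)).roots, ‖α‖ = Real.sqrt q := by
  obtain ⟨P0, hm, hv, hT, -⟩ := CharTateExt.exists_char K π
  obtain rfl : P0 = P := Polynomial.map_injective _ Int.cast_injective ((hT l hl).1.symm.trans hP)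
  refine ⟨hm, ?_, ?_, fun α hα => ?_⟩
  · obtain ⟨b⟩ := TateRankGeom.nonempty_basis (A := X) K l hl hg
    have h1 := congrArg Polynomial.natDegree hP
    rwa [hm.natDegree_map, LinearMap.charpoly_natDegree, Module.finrank_eq_card_basis b, Fintype.card_fin,
      eq_comm] at h1
  · haveI : IsIntegral X.left := GeometricallyIntegral.isIntegral_of_subsingleton X.hom
    obtain ⟨hfin, -, -⟩ := FrobIsogeny.isogeny π hb
    obtain ⟨s⟩ := DegreeNorm.nonempty_setup X hg
    have e0 : π * 𝟙 X ^ (-(0 : ℤ)) = π := by rw [neg_zero, zpow_zero, _root_.mul_one]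
    have h1 := (hv 0).1 (by rw [e0]; exact hfin) (genericPoint X.left)
    rw [e0] at h1
    have h2 := DegreeNorm.D_isFinite s (EndAV.End.of π) hfin (genericPoint X.left)
    rw [D_eq π q hq s, EndAV.End.toHom_of] at h2
    rw [← h1]
    exact_mod_cast h2
  · obtain ⟨m, hmm, hm0, -, hroots⟩ := FrobRH.exists_mu π q hq hq0
    have h := FrobRH.aeval_root_eq_zero π l (Isogeny.geomPt k K) P0 m hP hm0 α hα
    refine hroots α (Polynomial.mem_roots'.2 ⟨(hmm.map _).ne_zero, ?_⟩)
    rw [Polynomial.IsRoot, Polynomial.eval_map]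
    rw [Polynomial.aeval_def] at h
    exact h

end Groth.Agent.AV.FrobData

namespace Groth.Agent.AV.FrobData

open Polynomial

/-- The positive real root of a real monic polynomial, positive at zero and with real roots only `±s`,
has even multiplicity. -/
theorem even_rootMultiplicity (Q : ℝ[X]) (hQ : Q.Monic) (h0 : 0 < Q.eval 0) (s : ℝ) (hs : 0 < s)
    (hroots : ∀ x, Q.IsRoot x → x = s ∨ x = -s) : Even (Q.rootMultiplicity s) := by
  obtain ⟨R, hR, hndvd⟩ := Q.exists_eq_pow_rootMultiplicity_mul_and_not_dvd hQ.ne_zero s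
  have hRm : R.Monic := ((monic_X_sub_C s).pow _).of_mul_monic_left (hR ▸ hQ)
  have hno : ∀ x, 0 ≤ x → ¬ R.IsRoot x := fun x hx hxR => by
    have hQx : Q.IsRoot x := by rw [hR, IsRoot, eval_mul, hxR.eq_zero, mul_zero]
    rcases hroots x hQx with rfl | rfl
    · exact hndvd (dvd_iff_isRoot.2 hxR)
    · linarith
  have hR0 : 0 < R.eval 0 := by
    by_contra hle
    rw [not_lt] at hle
    rcases Nat.eq_zero_or_pos R.natDegree with hd | hd
    · rw [hRm.natDegree_eq_zero.1 hd, eval_one] at hle
      linarith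
    have ht := R.tendsto_atTop_of_leadingCoeff_nonneg (by
      rw [degree_eq_natDegree hRm.ne_zero]
      exact_mod_cast hd) (by rw [hRm.leadingCoeff]; exact zero_le_one)
    obtain ⟨N, hN1, hN2⟩ :=
      ((ht.eventually_ge_atTop 1).and (Filter.eventually_ge_atTop (0 : ℝ))).exists
    obtain ⟨x, hx, hx0⟩ := intermediate_value_Icc hN2 R.continuousOn (show (0 : ℝ) ∈ Set.Icc _ _ from ⟨hle, by linarith⟩)
    exact hno x hx.1 hx0
  have h1 : 0 < (-s) ^ Q.rootMultiplicity s := by
    have h2 : Q.eval 0 = (-s) ^ Q.rootMultiplicity s * R.eval 0 := by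
      conv_lhs => rw [hR]
      simp
    exact pos_of_mul_pos_left (h2 ▸ h0) hR0.le
  rcases Nat.even_or_odd (Q.rootMultiplicity s) with h | h
  · exact h
  · exact absurd h1 (not_lt.2 (h.pow_nonpos (by linarith)))

/-- The roots of an integral polynomial are stable under conjugation. -/
theorem roots_conj (P : ℤ[X]) :
    (P.map (Int.castRingHom ℂ)).roots.map (starRingEnd ℂ) = (P.map (Int.castRingHom ℂ)).roots := by
  rw [roots_map_of_injective_of_card_eq_natDegree (RingHom.injective _)
      IsAlgClosed.card_roots_eq_natDegree, Polynomial.map_map]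
  exact congrArg (fun φ => (P.map φ).roots) (RingHom.ext_int _ _)

/-- A product of values of an integral polynomial at the roots of a monic one is an integer. -/
theorem exists_int_prod_eval (P G : ℤ[X]) (hP : P.Monic) :
    ∃ z : ℤ, (((P.map (Int.castRingHom ℂ)).roots.map fun a => aeval a G).prod : ℂ) = z := by
  refine ⟨resultant P G P.natDegree G.natDegree, ?_⟩
  have h := resultant_eq_prod_eval (P.map (Int.castRingHom ℂ)) (G.map (Int.castRingHom ℂ)) G.natDegree
    natDegree_map_le (IsAlgClosed.splits _)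
  rw [(hP.map _).leadingCoeff, one_pow, _root_.one_mul, hP.natDegree_map, resultant_map_map, eq_intCast] at h
  rw [h]
  refine congrArg Multiset.prod (Multiset.map_congr rfl fun a _ => ?_)
  rw [Polynomial.eval_map, aeval_def]
  rfl

/-- An integer bound for the sum of the roots. -/
theorem abs_nextCoeff_le (P : ℤ[X]) (hP : P.Monic) (g q : ℕ) (hd : P.natDegree = 2 * g) (hq : 0 < q)
    (h0 : P.eval 0 = (q : ℤ) ^ g) (hroots : ∀ α ∈ (P.map (Int.castRingHom ℂ)).roots, ‖α‖ = Real.sqrt q) :
    |(P.nextCoeff : ℝ)| ≤ (g : ℝ) * (⌊2 * Real.sqrt q⌋ : ℝ) := by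
  rcases Nat.eq_zero_or_pos g with rfl | hg
  · rw [nextCoeff, if_pos (by simpa using hd)]
    simp
  let Pc := P.map (Int.castRingHom ℂ)
  let m := ⌊2 * Real.sqrt q⌋
  have hn : Pc.natDegree = 2 * g := by rw [hP.natDegree_map, hd]
  have hcard : Multiset.card Pc.roots = 2 * g := IsAlgClosed.card_roots_eq_natDegree.trans hn
  have hsum : Pc.roots.sum = -(P.nextCoeff : ℂ) := by
    rw [← neg_neg Pc.roots.sum, ← (IsAlgClosed.splits Pc).nextCoeff_eq_neg_sum_roots_of_monic (hP.map _),
      nextCoeff_map Int.cast_injective]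
    rfl
  have hresum : (Pc.roots.map Complex.re).sum = -(P.nextCoeff : ℝ) := by
    have h := congrArg Complex.re hsum
    rw [show Complex.re = ⇑Complex.reLm from rfl] at h ⊢
    rw [map_multiset_sum] at h
    rw [h]
    simp
  have hconj : ∀ α ∈ Pc.roots, α * (starRingEnd ℂ α) = (q : ℂ) := fun α hα => by
    rw [Complex.mul_conj, Complex.normSq_eq_norm_sq, hroots α hα, Real.sq_sqrt (Nat.cast_nonneg q)]
    simp
  have hprodroots : Pc.roots.prod = (q : ℂ) ^ g := by
    have h1 := (IsAlgClosed.splits Pc).coeff_zero_eq_prod_roots_of_monic (hP.map _)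
    rw [hn, pow_mul, neg_one_sq, one_pow, _root_.one_mul, coeff_map, coeff_zero_eq_eval_zero, h0] at h1
    rw [← h1]
    simp
  have key : ∀ ε : ℤ, ε = 1 ∨ ε = -1 → (ε : ℝ) * (P.nextCoeff : ℝ) ≥ -((g : ℝ) * m) := by
    intro ε hε
    let v : ℂ → ℝ := fun α => (m : ℝ) + 1 + (ε : ℝ) * (2 * α.re) * (-1)
    have hpos : ∀ α ∈ Pc.roots, 0 < v α := fun α hα => by
      have h1 : |α.re| ≤ Real.sqrt q := (hroots α hα) ▸ Complex.abs_re_le_norm α
      have h2 := Int.lt_floor_add_one (2 * Real.sqrt q)
      have h3 := abs_le.1 h1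
      simp only [v, m]
      rcases hε with rfl | rfl <;> push_cast <;> linarith [h3.1, h3.2]
    let G : ℤ[X] := C (m + 1) * X - C ε * (X ^ 2 + C (q : ℤ))
    obtain ⟨z, hz⟩ := exists_int_prod_eval P G hP
    have hG : ∀ α ∈ Pc.roots, aeval α G = α * (v α : ℂ) := fun α hα => by
      have h1 : (starRingEnd ℂ α) + α = 2 * (α.re : ℂ) := by
        rw [add_comm, Complex.add_conj]; push_cast; ring
      simp only [G, v, map_sub, map_mul, map_add, map_pow, aeval_X, map_one, eq_intCast, map_intCast,
        Int.cast_natCast, map_natCast]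
      push_cast
      linear_combination (ε : ℂ) * hconj α hα - (ε : ℂ) * α * h1
    have hzv : (z : ℂ) = (q : ℂ) ^ g * ((Pc.roots.map v).prod : ℂ) := by
      rw [← hz, Multiset.map_congr rfl hG, Multiset.prod_map_mul, Multiset.map_id', hprodroots,
        show ((Pc.roots.map v).prod : ℂ) = Complex.ofRealHom (Pc.roots.map v).prod from rfl,
        map_multiset_prod Complex.ofRealHom, Multiset.map_map]
      rfl
    have hint : _root_.IsIntegral ℤ ((Pc.roots.map fun α => (v α : ℂ)).prod) := by
      refine IsIntegral.multiset_prod fun x hx => ?_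
      obtain ⟨α, hα, rfl⟩ := Multiset.mem_map.1 hx
      have hαi : _root_.IsIntegral ℤ α := ⟨P, hP, by
        rw [← Polynomial.eval_map]
        exact (mem_roots'.1 hα).2⟩
      have hαc : _root_.IsIntegral ℤ (starRingEnd ℂ α) := hαi.map (starRingEnd ℂ).toIntAlgHom
      have e : (v α : ℂ) = ((m + 1 : ℤ) : ℂ) - (ε : ℂ) * (α + starRingEnd ℂ α) := by
        rw [Complex.add_conj]; simp only [v]; push_cast; ring
      rw [e]
      have hi : ∀ n : ℤ, _root_.IsIntegral ℤ (n : ℂ) := fun n => isIntegral_algebraMap (x := n)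
      exact (hi _).sub ((hi _).mul (hαi.add hαc))
    have hpv : 0 < (Pc.roots.map v).prod := Multiset.prod_pos fun x hx => by
      obtain ⟨α, hα, rfl⟩ := Multiset.mem_map.1 hx
      exact hpos α hα
    have hge : 1 ≤ (Pc.roots.map v).prod := by
      have hq' : (q : ℂ) ^ g ≠ 0 := pow_ne_zero _ (Nat.cast_ne_zero.2 hq.ne')
      have e : ((Pc.roots.map v).prod : ℂ) = algebraMap ℚ ℂ ((z : ℚ) / (q : ℚ) ^ g) := by
        simp only [map_div₀, map_intCast, map_pow, map_natCast]
        rw [hzv]; field_simp
      have e' : ((Pc.roots.map fun α => (v α : ℂ)).prod) = ((Pc.roots.map v).prod : ℂ) := by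
        rw [show ((Pc.roots.map v).prod : ℂ) = Complex.ofRealHom (Pc.roots.map v).prod from rfl,
        map_multiset_prod Complex.ofRealHom, Multiset.map_map]; rfl
      rw [e', e, isIntegral_algebraMap_iff (algebraMap ℚ ℂ).injective] at hint
      obtain ⟨w, hw⟩ := IsIntegrallyClosed.isIntegral_iff.1 hint
      have e2 : (Pc.roots.map v).prod = (w : ℝ) := by
        refine Complex.ofReal_injective (e.trans ?_)
        rw [← hw]
        simp
      rw [e2] at hpv ⊢
      exact_mod_cast (show (0 : ℤ) < w by exact_mod_cast hpv)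
    -- the arithmetic mean is at least the geometric mean
    have hs : ((Multiset.card Pc.roots : ℕ) : ℝ) ≤ (Pc.roots.map v).sum := by
      have hlog : ∀ α ∈ Pc.roots, Real.log (v α) + 1 ≤ v α := fun α hα => by
        linarith [Real.log_le_sub_one_of_pos (hpos α hα)]
      have h1 := Multiset.sum_map_le_sum_map _ _ hlog
      rw [Multiset.sum_map_add] at h1
      have h2 : (Pc.roots.map fun α => Real.log (v α)).sum = Real.log (Pc.roots.map v).prod := by
        rw [Real.log_multiset_prod (fun x hx => by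
          obtain ⟨α, hα, rfl⟩ := Multiset.mem_map.1 hx
          exact (hpos α hα).ne'), Multiset.map_map]
        rfl
      have h3 := Real.log_nonneg hge
      simp only [Multiset.map_const', Multiset.sum_replicate, nsmul_eq_mul, _root_.mul_one] at h1
      linarith
    have hv : (Pc.roots.map v).sum = (2 * g : ℕ) * ((m : ℝ) + 1) + (ε : ℝ) * 2 * (P.nextCoeff : ℝ) := by
      have : v = fun α => ((m : ℝ) + 1) + (-(ε : ℝ) * 2) * α.re := by funext α; simp only [v]; ring
      rw [this, Multiset.sum_map_add, Multiset.sum_map_mul_left, hresum]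
      simp only [Multiset.map_const', Multiset.sum_replicate, nsmul_eq_mul, hcard]
      ring
    rw [hcard, hv] at hs
    push_cast at hs
    linarith
  have k1 := key 1 (Or.inl rfl)
  have k2 := key (-1) (Or.inr rfl)
  push_cast at k1 k2
  exact abs_le.2 ⟨by linarith, by linarith⟩

end Groth.Agent.AV.FrobData
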