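import Groth.Agent.L26.AV.PointClosure
import Groth.Agent.L26.AV.Subgroup
import Groth.Agent.L08.GrpDim
import Groth.Agent.L03.Euler.Dim

/-!
# The abelian subvariety generated by an irreducible closed subset through the origin
-/

set_option autoImplicit false
set_option linter.style.haveILetI false
set_option linter.unusedSectionVars false
set_option backward.isDefEq.respectTransparency.types false

universe u v

open CategoryTheory CategoryTheory.Limits MonoidalCategory CartesianMonoidalCategory MonObj AlgebraicGeometry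
open TopologicalSpace

noncomputable section

namespace Groth.Agent.AV.Generated

open Groth.L08.Cube (kpt exists_kpt isClosed_kpt kpt_injective)
open Groth.Agent.AV.PointClosure (kpt_comp)

variable {k : Type u} [Field k] [IsAlgClosed k] {A : Over (Spec (CommRingCat.of k))} [GrpObj A] [IsProper A.hom]

/-- A parametrised family of points of the kernel of `f`, through the origin. -/
structure Cand {G : Type v} [Group G] (f : (𝟙_ (Over (Spec (CommRingCat.of k))) ⟶ A) →* G) where
  P : Over (Spec (CommRingCat.of k))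
  hp : IsProper P.hom
  hi : GeometricallyIntegral P.hom
  φ : P ⟶ A
  e : 𝟙_ (Over (Spec (CommRingCat.of k))) ⟶ P
  he : e ≫ φ = 1
  ker : ∀ p : 𝟙_ (Over (Spec (CommRingCat.of k))) ⟶ P, f (p ≫ φ) = 1

variable {G : Type v} [Group G] {f : (𝟙_ (Over (Spec (CommRingCat.of k))) ⟶ A) →* G}

/-- The image of a family. -/
def Cand.W (c : Cand f) : Set A.left := Set.range c.φ.left

theorem Cand.isClosed (c : Cand f) : IsClosed c.W := by
  haveI := c.hp
  haveI : IsProper (c.φ.left ≫ A.hom) := by rw [Over.w]; infer_instance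
  haveI : IsProper c.φ.left := IsProper.of_comp c.φ.left A.hom
  exact c.φ.left.isClosedMap.isClosed_range

theorem Cand.isIrreducible (c : Cand f) : IsIrreducible c.W := by
  haveI := c.hi
  haveI : IsIntegral c.P.left := GeometricallyIntegral.isIntegral_of_subsingleton c.P.hom
  show IsIrreducible (Set.range c.φ.left)
  rw [← Set.image_univ]
  exact (IrreducibleSpace.isIrreducible_univ _).image _ c.φ.left.continuous.continuousOn

theorem Cand.exists_lift (c : Cand f) (a : 𝟙_ (Over (Spec (CommRingCat.of k))) ⟶ A) (ha : kpt a ∈ c.W) :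
    ∃ p, p ≫ c.φ = a := by
  haveI := c.hp
  haveI : JacobsonSpace c.P.left := LocallyOfFiniteType.jacobsonSpace c.P.hom
  obtain ⟨x, hx⟩ := ha
  obtain ⟨z, hz, hzc⟩ := nonempty_inter_closedPoints (Z := c.φ.left ⁻¹' {kpt a}) ⟨x, hx⟩
    ((isClosed_kpt a).preimage c.φ.left.continuous).isLocallyClosed
  obtain ⟨p, rfl⟩ := exists_kpt z (mem_closedPoints_iff.1 hzc)
  exact ⟨p, kpt_injective ((kpt_comp p c.φ).symm.trans hz)⟩

theorem Cand.comp_mem (c : Cand f) (p : 𝟙_ (Over (Spec (CommRingCat.of k))) ⟶ c.P) : kpt (p ≫ c.φ) ∈ c.W := by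
  rw [← kpt_comp]
  exact ⟨_, rfl⟩

/-- The product of two families. -/
def Cand.mulInv (c d : Cand f) : Cand f where
  P := c.P ⊗ d.P
  hp := by
    haveI := c.hp
    haveI := d.hp
    exact inferInstanceAs (IsProper (pullback.fst c.P.hom d.P.hom ≫ c.P.hom))
  hi := by
    haveI := c.hp
    haveI := d.hp
    haveI := c.hi
    haveI := d.hi
    haveI : IsIntegral c.P.left := GeometricallyIntegral.isIntegral_of_subsingleton c.P.hom
    haveI : IsIntegral d.P.left := GeometricallyIntegral.isIntegral_of_subsingleton d.P.hom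
    haveI : LocallyOfFinitePresentation c.P.hom := LocallyOfFinitePresentation.iff_locallyOfFiniteType.2 inferInstance
    haveI : LocallyOfFinitePresentation d.P.hom := LocallyOfFinitePresentation.iff_locallyOfFiniteType.2 inferInstance
    haveI : Flat c.P.hom := inferInstance
    haveI : Flat d.P.hom := inferInstance
    haveI : UniversallyOpen d.P.hom := inferInstance
    haveI : UniversallyOpen c.P.hom := inferInstance
    haveI : IsLocallyNoetherian c.P.left := LocallyOfFiniteType.isLocallyNoetherian c.P.hom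
    haveI : IsIntegral (c.P ⊗ d.P).left := inferInstanceAs (IsIntegral (pullback c.P.hom d.P.hom))
    haveI : IsProper (c.P ⊗ d.P).hom := inferInstanceAs (IsProper (pullback.fst c.P.hom d.P.hom ≫ c.P.hom))
    exact Groth.L08.Cube.geometricallyIntegral_of_isAlgClosed (c.P ⊗ d.P).hom
  φ := (fst _ _ ≫ c.φ) * (snd _ _ ≫ d.φ)⁻¹
  e := lift c.e d.e
  he := by rw [MonObj.comp_mul, GrpObj.comp_inv, lift_fst_assoc, lift_snd_assoc, c.he, d.he, inv_one, _root_.one_mul]
  ker p := by
    rw [MonObj.comp_mul, GrpObj.comp_inv, map_mul, map_inv, ← Category.assoc, ← Category.assoc, c.ker, d.ker,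
      inv_one, _root_.one_mul]

theorem Cand.subset_mulInv (c d : Cand f) : c.W ⊆ (c.mulInv d).W := by
  rintro _ ⟨x, rfl⟩
  let s : c.P ⟶ c.P ⊗ d.P := lift (𝟙 _) (toUnit _ ≫ d.e)
  refine ⟨s.left x, ?_⟩
  refine (Scheme.Hom.comp_apply s.left ((fst _ _ ≫ c.φ) * (snd _ _ ≫ d.φ)⁻¹).left x).symm.trans ?_
  rw [← Over.comp_left]
  refine congrArg (fun g : c.P ⟶ A => g.left x) ?_
  show s ≫ ((fst _ _ ≫ c.φ) * (snd _ _ ≫ d.φ)⁻¹) = c.φ
  rw [MonObj.comp_mul, GrpObj.comp_inv, lift_fst_assoc, lift_snd_assoc, Category.id_comp, Category.assoc, d.he,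
    MonObj.comp_one, inv_one, _root_.mul_one]

/-- There is a largest family. -/
theorem exists_max (c₀ : Cand f) : ∃ c : Cand f, ∀ d : Cand f, (c.mulInv d).W = c.W := by
  classical
  obtain ⟨g, -, hg⟩ := Groth.L08.GrpDim.exists_dim A
  let Q : ℕ → Prop := fun n => ∃ c : Cand f, (n : WithBot ℕ∞) ≤ topologicalKrullDim c.W
  have h0 : Q 0 := ⟨c₀, Groth.L03.Euler.zero_le_topologicalKrullDim ⟨_, c₀.comp_mem c₀.e⟩⟩
  have hle : ∀ n, Q n → n ≤ g := fun n ⟨c, hc⟩ => by
    have := hc.trans ((topologicalKrullDim_subspace_le A.left c.W).trans hg.le)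
    exact_mod_cast this
  obtain ⟨c, hc⟩ : Q (Nat.findGreatest Q g) := Nat.findGreatest_spec (Nat.zero_le g) h0
  refine ⟨c, fun d => by_contra fun hne => ?_⟩
  have h1 : Q (Nat.findGreatest Q g + 1) := ⟨c.mulInv d, by
    have h := Groth.L03.Euler.topologicalKrullDim_add_one_le c.isClosed (c.mulInv d).isIrreducible
      (c.subset_mulInv d) (Ne.symm hne)
    refine le_trans ?_ h
    push_cast
    exact add_le_add_left hc 1⟩
  exact Nat.findGreatest_is_greatest (Nat.lt_succ_self _) (hle _ h1) h1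

/-- An irreducible closed subset through the origin of points killed by `f` lies in an abelian subvariety killed by `f`. -/
theorem exists_subgroup [IsCommMonObj A] (V : Set A.left) (hVcl : IsClosed V) (hVirr : IsIrreducible V)
    (hV1 : kpt (1 : 𝟙_ (Over (Spec (CommRingCat.of k))) ⟶ A) ∈ V)
    (hVker : ∀ a : 𝟙_ (Over (Spec (CommRingCat.of k))) ⟶ A, kpt a ∈ V → f a = 1) :
    ∃ (B : Over (Spec (CommRingCat.of k))) (_ : GrpObj B) (incl : B ⟶ A), IsMonHom incl ∧
      IsClosedImmersion incl.left ∧ IsIntegral B.left ∧ V ⊆ Set.range incl.left ∧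
      ∀ b : 𝟙_ (Over (Spec (CommRingCat.of k))) ⟶ B, f (b ≫ incl) = 1 := by
  let C : Closeds A.left := ⟨V, hVcl⟩
  let I := Scheme.IdealSheafData.vanishingIdeal C
  haveI : IsReduced I.subscheme := Groth.L18.isReduced_vanishingIdeal_subscheme C
  have hr : Set.range I.subschemeι = V :=
    I.range_subschemeι.trans (Scheme.IdealSheafData.coe_support_vanishingIdeal C)
  haveI : IrreducibleSpace I.subscheme := Groth.L25.Component.irreducibleSpace_of_range I.subschemeι (by rw [hr]; exact hVirr)
  haveI : IsIntegral I.subscheme := AlgebraicGeometry.isIntegral_of_irreducibleSpace_of_isReduced _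
  let P : Over (Spec (CommRingCat.of k)) := Over.mk (I.subschemeι ≫ A.hom)
  let i : P ⟶ A := Over.homMk I.subschemeι
  haveI : IsProper P.hom := inferInstanceAs (IsProper (I.subschemeι ≫ A.hom))
  haveI : IsIntegral P.left := ‹IsIntegral I.subscheme›
  haveI : IsReduced (𝟙_ (Over (Spec (CommRingCat.of k)))).left := inferInstanceAs (IsReduced (Spec (CommRingCat.of k)))
  haveI : IsClosedImmersion i.left := inferInstanceAs (IsClosedImmersion I.subschemeι)
  obtain ⟨e, he⟩ : ∃ e, e ≫ i = (1 : 𝟙_ (Over (Spec (CommRingCat.of k))) ⟶ A) := by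
    have hpt : kpt (1 : 𝟙_ (Over (Spec (CommRingCat.of k))) ⟶ A) ∈ Set.range i.left := hr.symm ▸ hV1
    haveI : JacobsonSpace P.left := LocallyOfFiniteType.jacobsonSpace P.hom
    obtain ⟨z, hz, hzc⟩ := nonempty_inter_closedPoints (Z := i.left ⁻¹' {kpt 1}) hpt
      ((isClosed_kpt 1).preimage i.left.continuous).isLocallyClosed
    obtain ⟨p, rfl⟩ := exists_kpt z (mem_closedPoints_iff.1 hzc)
    exact ⟨p, kpt_injective ((kpt_comp p i).symm.trans hz)⟩
  let c₀ : Cand f :=
    { P := P, hp := inferInstance, hi := Groth.L08.Cube.geometricallyIntegral_of_isAlgClosed P.hom, φ := i, e := e,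
      he := he, ker := fun p => hVker _ (by rw [← kpt_comp, ← hr]; exact ⟨_, rfl⟩) }
  obtain ⟨c, hc⟩ := exists_max c₀
  let H : Subgroup (𝟙_ (Over (Spec (CommRingCat.of k))) ⟶ A) := Subgroup.ofDiv {a | kpt a ∈ c.W}
    ⟨1, by rw [Set.mem_setOf_eq, ← c.he]; exact c.comp_mem _⟩ fun a ha b hb => by
      obtain ⟨p, rfl⟩ := c.exists_lift a ha
      obtain ⟨q, rfl⟩ := c.exists_lift b hb
      show kpt _ ∈ c.W
      rw [← hc c]
      have h : lift p q ≫ (c.mulInv c).φ = (p ≫ c.φ) * (q ≫ c.φ)⁻¹ := by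
        show lift p q ≫ ((fst _ _ ≫ c.φ) * (snd _ _ ≫ c.φ)⁻¹) = _
        rw [MonObj.comp_mul, GrpObj.comp_inv, lift_fst_assoc, lift_snd_assoc]
      rw [← h]
      exact (c.mulInv c).comp_mem _
  obtain ⟨K, gK, incl, hm, hcl, hrange, -⟩ := PointClosure.exists_closureSubgroup H
  haveI : JacobsonSpace A.left := LocallyOfFiniteType.jacobsonSpace A.hom
  have hset : {x | ∃ h ∈ H, x = kpt h} = c.W ∩ closedPoints A.left := by
    ext x
    constructor
    · rintro ⟨h, hh, rfl⟩
      exact ⟨hh, mem_closedPoints_iff.2 (isClosed_kpt h)⟩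
    · rintro ⟨hx, hxc⟩
      obtain ⟨h, rfl⟩ := exists_kpt x (mem_closedPoints_iff.1 hxc)
      exact ⟨h, hx, rfl⟩
  rw [hset, closure_inter_closedPoints c.isClosed] at hrange
  haveI := hcl
  haveI : IsProper K.hom := by rw [← Over.w incl]; infer_instance
  have hVW : V ⊆ c.W := by
    rw [← closure_inter_closedPoints hVcl]
    refine closure_minimal (fun x ⟨hx, hxc⟩ => ?_) c.isClosed
    obtain ⟨a, rfl⟩ := exists_kpt x (mem_closedPoints_iff.1 hxc)
    -- the inverse of a point of `V` lies in the image, hence so does the point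
    obtain ⟨p, hp⟩ := c₀.exists_lift a (by show _ ∈ Set.range i.left; rw [show Set.range i.left = V from hr]; exact hx)
    have h1 : a⁻¹ ∈ H := by
      show kpt a⁻¹ ∈ c.W
      rw [← hc c₀]
      have h : lift c.e p ≫ (c.mulInv c₀).φ = a⁻¹ := by
        show lift c.e p ≫ ((fst _ _ ≫ c.φ) * (snd _ _ ≫ c₀.φ)⁻¹) = _
        rw [MonObj.comp_mul, GrpObj.comp_inv, lift_fst_assoc, lift_snd_assoc, c.he, hp, _root_.one_mul]
      rw [← h]
      exact (c.mulInv c₀).comp_mem _
    exact inv_inv a ▸ H.inv_mem h1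
  haveI : IrreducibleSpace K.left := Groth.L25.Component.irreducibleSpace_of_range incl.left (by rw [hrange]; exact c.isIrreducible)
  obtain ⟨B, gB, j, hjm, hjc, -, hBg, hjr⟩ := Subgroup.exists_redComponent K
  letI := gB
  haveI := hjm
  haveI := hjc
  haveI := hm
  haveI := hBg
  refine ⟨B, gB, j ≫ incl, inferInstance, inferInstanceAs (IsClosedImmersion (j.left ≫ incl.left)),
    GeometricallyIntegral.isIntegral_of_subsingleton B.hom, ?_, fun b' => ?_⟩
  · rw [Over.comp_left, Scheme.Hom.comp_base, TopCat.coe_comp, Set.range_comp, hjr,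
      PreconnectedSpace.connectedComponent_eq_univ, Set.image_univ]
    exact hrange.symm ▸ hVW
  · rw [← Category.assoc]
    generalize b' ≫ j = b
    obtain ⟨p, hp⟩ := c.exists_lift (b ≫ incl) (by rw [← hrange, ← kpt_comp]; exact ⟨_, rfl⟩)
    rw [← hp, c.ker]

end Groth.Agent.AV.Generated
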