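/-
A family of points specialising to a common point has a maximal generisation.
-/
import Mathlib.AlgebraicGeometry.Noetherian
import Mathlib.RingTheory.Ideal.KrullsHeightTheorem

set_option autoImplicit false

open AlgebraicGeometry Topology

universe u

namespace Groth.Agent.AV

theorem exists_generic_max {X : Scheme.{u}} [IsLocallyNoetherian X] (e : X) (T : Set X)
    (hT : T.Nonempty) (h : ∀ x ∈ T, x ⤳ e) : ∃ x ∈ T, ∀ z ∈ T, z ⤳ x → z = x := by
  obtain ⟨_, ⟨U₀, hU, rfl⟩, he, -⟩ :=
    X.isBasis_affineOpens.exists_subset_of_mem_open (Set.mem_univ e) isOpen_univ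
  let U : X.Opens := U₀
  have : IsNoetherianRing Γ(X, U) := IsLocallyNoetherian.component_noetherian ⟨U, hU⟩
  have hmem : ∀ x ∈ T, ∃ p : Spec Γ(X, U), hU.fromSpec p = x := fun x hx => by
    have : x ∈ U := (h x hx).mem_open U.isOpen he
    rwa [← SetLike.mem_coe, ← hU.range_fromSpec] at this
  obtain ⟨x₀, hx₀⟩ := hT
  obtain ⟨p₀, hp₀⟩ := hmem x₀ hx₀
  obtain ⟨p, hp, hmin⟩ := exists_minimalFor_of_wellFoundedLT
    (fun p : Spec Γ(X, U) => hU.fromSpec p ∈ T) (fun p => p.asIdeal.height.toNat)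
    ⟨p₀, by rw [hp₀]; exact hx₀⟩
  refine ⟨hU.fromSpec p, hp, fun z hz hzx => ?_⟩
  obtain ⟨q, rfl⟩ := hmem z hz
  have hqp : q.asIdeal ≤ p.asIdeal := by
    rw [(hU.fromSpec.isEmbedding.isInducing).specializes_iff] at hzx
    exact (PrimeSpectrum.le_iff_specializes q p).2 hzx
  by_contra hne
  have hlt : q.asIdeal < p.asIdeal := lt_of_le_of_ne hqp fun he => hne (by
    rw [PrimeSpectrum.ext he])
  have h1 := Ideal.height_strict_mono_of_isPrime hlt
  have h2 := Ideal.height_ne_top_of_isPrime (I := p.asIdeal)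
  have h3 := Ideal.height_ne_top_of_isPrime (I := q.asIdeal)
  have h4 : q.asIdeal.height.toNat < p.asIdeal.height.toNat := by
    lift q.asIdeal.height to ℕ using h3 with a
    lift p.asIdeal.height to ℕ using h2 with b
    simpa using h1
  exact absurd (hmin hz h4.le) (not_le.2 h4)

end Groth.Agent.AV
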