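import Groth.Agent.L26.AV.HopfPointBound
import Mathlib.RingTheory.Artinian.Module
import Mathlib.RingTheory.Ideal.Quotient.Operations
import Mathlib.FieldTheory.IsAlgClosed.Basic

/-!
# The number of points of a finite group scheme divides its order
-/

set_option autoImplicit false
set_option linter.style.haveILetI false

universe u

noncomputable section

namespace Groth.Agent.AV.HopfCardDvd

open HopfPointBound

/-- Over an algebraically closed field the number of points divides the order. -/
theorem card_dvd_finrank {k : Type u} [Field k] [IsAlgClosed k] {H : Type u} [CommRing H] [HopfAlgebra k H]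
    [Module.Finite k H] : Nat.card (H →ₐ[k] k) ∣ Module.finrank k H := by
  classical
  let ε := Bialgebra.counitAlgHom k H
  haveI : Nontrivial H := RingHom.domain_nontrivial ε.toRingHom
  haveI : IsArtinianRing H := IsArtinianRing.of_finite k H
  haveI := (linearIndependent_algHom_toLinearMap k H k).finite
  haveI : Fintype (H →ₐ[k] k) := Fintype.ofFinite _
  obtain ⟨N, hN⟩ := IsArtinianRing.isNilpotent_nilradical (R := H)
  have hbij : ∀ g : H →ₐ[k] k, Function.Bijective (transl g) := fun g =>
    ⟨(LinearMap.injective_iff_surjective (f := (transl g).toLinearMap)).2 (surjective_transl g), surjective_transl g⟩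
  let J : Ideal H := RingHom.ker ε ^ (N + 1)
  let I : (H →ₐ[k] k) → Ideal H := fun g => J.comap (transl g).toRingHom
  have hIg : ∀ g, I g = RingHom.ker g ^ (N + 1) := by
    intro g
    let e : H ≃ₐ[k] H := AlgEquiv.ofBijective (transl g) (hbij g)
    have h1 : RingHom.ker g = (RingHom.ker ε).map e.symm.toRingEquiv := by
      ext a
      rw [RingHom.mem_ker, Ideal.mem_map_of_equiv]
      refine ⟨fun ha => ⟨transl g a, (DFunLike.congr_fun (counit_comp_transl g) a).trans ha,
        e.symm_apply_apply a⟩, ?_⟩
      rintro ⟨b, hb, rfl⟩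
      refine (DFunLike.congr_fun (counit_comp_transl g) _).symm.trans ?_
      show ε (e (e.symm b)) = 0
      rw [e.apply_symm_apply]; exact hb
    rw [h1, ← Ideal.map_pow]
    exact (Ideal.map_symm (f := e.toRingEquiv)).symm
  have hI : Pairwise (Function.onFun IsCoprime I) := by
    intro g h hne
    rw [Function.onFun, hIg, hIg]
    refine IsCoprime.pow ?_
    haveI h1 : (RingHom.ker g).IsMaximal := RingHom.ker_isMaximal_of_surjective g fun c => ⟨algebraMap k H c, g.commutes c⟩
    haveI h2 : (RingHom.ker h).IsMaximal := RingHom.ker_isMaximal_of_surjective h fun c => ⟨algebraMap k H c, h.commutes c⟩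
    refine Ideal.isCoprime_iff_sup_eq.2 (h1.coprime_of_ne h2 fun he => hne (AlgHom.ext fun a => ?_))
    have : a - algebraMap k H (g a) ∈ RingHom.ker h := he ▸ (by rw [RingHom.mem_ker]; simp)
    rw [RingHom.mem_ker, map_sub, h.commutes] at this
    exact (sub_eq_zero.1 this).symm
  let Φ : H →ₗ[k] ((g : H →ₐ[k] k) → H ⧸ I g) :=
    (LinearMap.pi fun g => (I g).mkQ).restrictScalars k
  have hΦ : Function.Surjective Φ := Ideal.pi_mkQ_surjective hI
  have hΦi : Function.Injective Φ := by
    rw [injective_iff_map_eq_zero]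
    intro a ha
    have hmem : a ∈ ⨅ g ∈ (Finset.univ : Finset (H →ₐ[k] k)), I g := by
      simp only [Ideal.mem_iInf]
      intro g _
      exact (Submodule.Quotient.mk_eq_zero _).1 (congrFun ha g)
    rw [← Ideal.prod_eq_iInf_of_pairwise_isCoprime fun g _ h _ hne => hI hne] at hmem
    simp only [hIg] at hmem
    rw [Finset.prod_pow] at hmem
    have hle : ∏ g : H →ₐ[k] k, RingHom.ker g ≤ nilradical H := by
      rw [nilradical_eq_sInf]
      refine le_sInf fun P hP => ?_
      haveI : P.IsPrime := hP
      have hb := IsAlgClosed.algebraMap_bijective_of_isIntegral (k := k) (K := H ⧸ P)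
      let g : H →ₐ[k] k :=
        (AlgEquiv.ofBijective (Algebra.ofId k (H ⧸ P)) hb).symm.toAlgHom.comp (Ideal.Quotient.mkₐ k P)
      refine (Ideal.prod_le_inf.trans (Finset.inf_le (Finset.mem_univ g))).trans fun x hx => ?_
      have hx' : (AlgEquiv.ofBijective (Algebra.ofId k (H ⧸ P)) hb).symm (Ideal.Quotient.mk P x) = 0 := hx
      rw [map_eq_zero_iff _ (AlgEquiv.injective _)] at hx'
      exact Ideal.Quotient.eq_zero_iff_mem.1 hx'
    have := Ideal.pow_right_mono hle (N + 1) hmem
    rw [pow_succ, hN, zero_mul] at this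
    exact (Submodule.mem_bot H).1 this
  have hq : ∀ g, Module.finrank k (H ⧸ I g) = Module.finrank k (H ⧸ J) := fun g => by
    let f : (H ⧸ I g) →ₐ[k] H ⧸ J := Ideal.quotientMapₐ J (transl g) le_rfl
    refine (AlgEquiv.ofBijective f ⟨?_, ?_⟩).toLinearEquiv.finrank_eq
    · exact Ideal.quotientMap_injective (f := (transl g).toRingHom)
    · exact Ideal.quotientMap_surjective (f := (transl g).toRingHom) (H := le_rfl) (surjective_transl g)
  have e := (LinearEquiv.ofBijective Φ ⟨hΦi, hΦ⟩).finrank_eq
  rw [Module.finrank_pi_fintype, Finset.sum_congr rfl (fun g _ => hq g), Finset.sum_const, Finset.card_univ,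
    smul_eq_mul, ← Nat.card_eq_fintype_card] at e
  exact ⟨_, e⟩

end Groth.Agent.AV.HopfCardDvd
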