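import Groth.Agent.L08.TruncatedHopf

/-!
# Points times `p` to the cotangent dimension is bounded by the order
-/

set_option autoImplicit false
set_option linter.style.haveILetI false

universe u

open TensorProduct WithConv

noncomputable section

namespace Groth.Agent.AV.HopfPointBound

variable {k : Type u} [Field k] {H : Type u} [CommRing H] [HopfAlgebra k H]

/-- Translation by a point. -/
def transl (g : H →ₐ[k] k) : H →ₐ[k] H :=
  (toConv (AlgHom.id k H) * toConv ((Algebra.ofId k H).comp g)).ofConv

theorem comp_transl {C : Type u} [CommRing C] [Algebra k C] (φ : H →ₐ[k] C) (g : H →ₐ[k] k) :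
    φ.comp (transl g) = (toConv φ * toConv ((Algebra.ofId k C).comp g)).ofConv := by
  have h := AlgHom.comp_convMul_distrib φ (toConv (AlgHom.id k H)) (toConv ((Algebra.ofId k H).comp g))
  rw [transl]
  refine h.trans ?_
  congr 2
  exact congrArg toConv (AlgHom.ext fun a => φ.commutes _)

theorem counit_comp_transl (g : H →ₐ[k] k) : (Bialgebra.counitAlgHom k H).comp (transl g) = g := by
  rw [comp_transl]
  have h1 : toConv (Bialgebra.counitAlgHom k H) = (1 : WithConv (H →ₐ[k] k)) := by
    apply WithConv.ext
    exact AlgHom.ext fun a => rfl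
  rw [h1, one_mul]
  exact AlgHom.ext fun a => rfl

theorem surjective_transl (g : H →ₐ[k] k) : Function.Surjective (transl g) := by
  let g' : H →ₐ[k] k := (toConv g)⁻¹.ofConv
  have h1 : (transl g).comp (transl g') = AlgHom.id k H := by
    rw [comp_transl, transl]
    change ((toConv (AlgHom.id k H) * toConv ((Algebra.ofId k H).comp g)) *
      toConv ((Algebra.ofId k H).comp g')).ofConv = _
    rw [mul_assoc]
    have h2 : toConv ((Algebra.ofId k H).comp g) * toConv ((Algebra.ofId k H).comp g') =
        toConv ((Algebra.ofId k H).comp (toConv g * toConv g').ofConv) := by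
      apply WithConv.ext
      exact (AlgHom.comp_convMul_distrib (Algebra.ofId k H) (toConv g) (toConv g')).symm
    rw [h2, show toConv g * toConv g' = (1 : WithConv (H →ₐ[k] k)) from mul_inv_cancel (toConv g),
      show toConv ((Algebra.ofId k H).comp (1 : WithConv (H →ₐ[k] k)).ofConv) = 1 from
        WithConv.ext (AlgHom.ext fun a => rfl), mul_one]
  exact fun x => ⟨transl g' x, DFunLike.congr_fun h1 x⟩

/-- In characteristic `p` the number of points times `p` to the cotangent dimension is at most the order. -/
theorem card_mul_le (p : ℕ) [Fact p.Prime] [CharP k p] [Module.Finite k H] :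
    Nat.card (H →ₐ[k] k) * p ^ Module.finrank k (RingHom.ker (Bialgebra.counitAlgHom k H)).Cotangent ≤
      Module.finrank k H := by
  classical
  let ε := Bialgebra.counitAlgHom k H
  haveI : Nontrivial H := RingHom.domain_nontrivial ε.toRingHom
  haveI : CharP H p := charP_of_injective_algebraMap (algebraMap k H).injective p
  haveI := (linearIndependent_algHom_toLinearMap k H k).finite
  haveI : Fintype (H →ₐ[k] k) := Fintype.ofFinite _
  let J := Groth.L08.TruncatedHopf.frobIdeal (k := k) p H
  let I : (H →ₐ[k] k) → Ideal H := fun g => J.comap (transl g).toRingHom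
  have hpow : ∀ (g : H →ₐ[k] k) (a : H), g a = 0 → a ^ p ∈ I g := by
    intro g a ha
    show transl g (a ^ p) ∈ J
    rw [map_pow]
    exact Ideal.subset_span ⟨_, (DFunLike.congr_fun (counit_comp_transl g) a).trans ha, rfl⟩
  have hI : Pairwise (Function.onFun IsCoprime I) := by
    intro g h hne
    rw [Function.onFun, Ideal.isCoprime_iff_exists]
    obtain ⟨a, ha⟩ : ∃ a, g a ≠ h a := by
      by_contra hall
      push Not at hall
      exact hne (AlgHom.ext hall)
    let b : H := algebraMap k H (h a - g a)⁻¹ * (a - algebraMap k H (g a))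
    have hb1 : g b = 0 := by simp [b]
    have hb2 : h (1 - b) = 0 := by
      simp [b, inv_mul_cancel₀ (sub_ne_zero.2 (Ne.symm ha))]
    refine ⟨b ^ p, hpow g b hb1, (1 - b) ^ p, hpow h _ hb2, ?_⟩
    rw [← add_pow_char, add_sub_cancel, one_pow]
  let Φ : H →ₗ[k] ((g : H →ₐ[k] k) → H ⧸ I g) :=
    (LinearMap.pi fun g => (I g).mkQ).restrictScalars k
  have hΦ : Function.Surjective Φ := Ideal.pi_mkQ_surjective hI
  have hq : ∀ g, Module.finrank k (H ⧸ I g) = p ^ Module.finrank k (RingHom.ker ε).Cotangent := by
    intro g
    rw [← Groth.L08.TruncatedHopf.finrank_quotient_frobIdeal p]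
    let f : (H ⧸ I g) →ₐ[k] H ⧸ J := Ideal.quotientMapₐ J (transl g) le_rfl
    refine (AlgEquiv.ofBijective f ⟨?_, ?_⟩).toLinearEquiv.finrank_eq
    · exact Ideal.quotientMap_injective (f := (transl g).toRingHom)
    · exact Ideal.quotientMap_surjective (f := (transl g).toRingHom) (H := le_rfl) (surjective_transl g)
  have := LinearMap.finrank_le_finrank_of_surjective hΦ
  rwa [Module.finrank_pi_fintype, Finset.sum_congr rfl (fun g _ => hq g), Finset.sum_const, Finset.card_univ,
    smul_eq_mul, ← Nat.card_eq_fintype_card] at this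

end Groth.Agent.AV.HopfPointBound
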