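import Groth.Agent.L26.AV.HopfPointBound
import Groth.Agent.L26.AV.MulPInfinitesimal
import Groth.Agent.L26.AV.TorsPts
import Groth.Agent.L08.GrpDim
import Groth.Agent.L08.SubgroupObj
import Mathlib.AlgebraicGeometry.Group.Affine

/-!
# The `p`-torsion points of an abelian variety in characteristic `p`
-/

set_option autoImplicit false
set_option linter.style.haveILetI false
set_option backward.isDefEq.respectTransparency.types false

universe u

open CategoryTheory CategoryTheory.Limits MonoidalCategory CartesianMonoidalCategory MonObj AlgebraicGeometry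

noncomputable section

namespace Groth.Agent.AV.PRank

open Groth.L25.GrpDeriv Groth.L08.EtalePoint Groth.L08.TangentUnit

variable {k : Type u} [Field k]

/-- The point of a chart has cotangent space of dimension at least that of the group. -/
theorem le_finrank_cotangent {A : Over (Spec (CommRingCat.of k))} [GrpObj A] [LocallyOfFiniteType A.hom]
    {g : ℕ} (hg : topologicalKrullDim A.left = g) {B : Type u} [CommRing B] [Algebra k B]
    (uB : sp (K := k) B ⟶ A) [IsOpenImmersion uB.left] (χ : B →ₐ[k] k) (hχ : spMap χ ≫ uB = 1) :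
    g ≤ Module.finrank k (RingHom.ker χ).Cotangent := by
  let jB : Spec (CommRingCat.of B) ⟶ A.left := uB.left
  haveI : IsOpenImmersion jB := ‹IsOpenImmersion uB.left›
  haveI : LocallyOfFiniteType (Spec.map (CommRingCat.ofHom (algebraMap k B))) := by
    rw [show Spec.map (CommRingCat.ofHom (algebraMap k B)) = jB ≫ A.hom from (Over.w uB).symm]
    infer_instance
  haveI : Algebra.FiniteType k B := RingHom.finiteType_algebraMap.1
    ((HasRingHomProperty.Spec_iff (P := @LocallyOfFiniteType)
      (φ := CommRingCat.ofHom (algebraMap k B))).1 inferInstance)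
  haveI : IsNoetherianRing B := Algebra.FiniteType.isNoetherianRing k B
  let P : Ideal B := RingHom.ker χ
  haveI : P.IsMaximal := RingHom.ker_isMaximal_of_surjective χ fun c => ⟨algebraMap k B c, χ.commutes c⟩
  let x : Spec (CommRingCat.of B) := ⟨P, inferInstance⟩
  have hx : jB x = Groth.L25.Component.one A := by
    have h := congrArg (fun f : sp (K := k) k ⟶ A => f.left (IsLocalRing.closedPoint k)) hχ
    refine Eq.trans ?_ (h.trans (Groth.L25.Translate.one_left_apply _))
    show jB x = jB ((spMap χ).left (IsLocalRing.closedPoint k))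
    congr 1
    refine PrimeSpectrum.ext (Ideal.ext fun b => ?_)
    show χ b = 0 ↔ χ b ∈ IsLocalRing.maximalIdeal k
    simp
  have hdim : ringKrullDim (Localization.AtPrime P) = (g : WithBot ℕ∞) := by
    rw [← hg, ← Groth.L08.GrpDim.ringKrullDim_stalk A _ (Groth.L08.GrpDim.isClosed_one A), ← hx]
    exact (ringKrullDim_eq_of_ringEquiv
      ((asIso (jB.stalkMap x)).commRingCatIsoToRingEquiv.trans
        (StructureSheaf.stalkIso _ x).toRingEquiv.symm)).symm
  -- generators of `P` modulo `P ^ 2`
  let r := Module.finrank k P.Cotangent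
  haveI : Module.Finite k P.Cotangent := by
    obtain ⟨S, hS⟩ := IsNoetherian.noetherian P
    have hsmul : ∀ (c : B) (x : P.Cotangent), c • x = χ c • x := fun c x => by
      obtain ⟨z, rfl⟩ := Ideal.toCotangent_surjective P x
      rw [← algebraMap_smul B (χ c), ← sub_eq_zero, ← sub_smul, ← map_smul, Ideal.toCotangent_eq_zero, pow_two]
      exact Ideal.mul_mem_mul (show c - algebraMap k B (χ c) ∈ P by simp [P, RingHom.mem_ker]) z.2
    haveI : Finite {x : P // (x : B) ∈ S} :=
      Finite.of_injective (fun x => (⟨x.1.1, x.2⟩ : S)) fun x y h =>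
        Subtype.ext (Subtype.ext (congrArg Subtype.val h :))
    refine ⟨Submodule.fg_def.2 ⟨Set.range fun x : {x : P // (x : B) ∈ S} => P.toCotangent x.1,
      Set.finite_range _, eq_top_iff.2 fun c _ => ?_⟩⟩
    obtain ⟨⟨z, hz⟩, rfl⟩ := Ideal.toCotangent_surjective P c
    have hz' : z ∈ Submodule.span B (S : Set B) := hS.symm ▸ hz
    have key : ∀ (w : B) (hw : w ∈ Submodule.span B (S : Set B)), P.toCotangent ⟨w, hS ▸ hw⟩ ∈
        Submodule.span k (Set.range fun x : {x : P // (x : B) ∈ S} => P.toCotangent x.1) := by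
      intro w hw
      induction hw using Submodule.span_induction with
      | mem w hw => exact Submodule.subset_span ⟨⟨⟨w, _⟩, hw⟩, rfl⟩
      | zero => exact (map_zero P.toCotangent).symm ▸ zero_mem _
      | add u v hu hv ihu ihv =>
        have e : P.toCotangent (⟨u, hS ▸ hu⟩ + ⟨v, hS ▸ hv⟩) ∈
            Submodule.span k (Set.range fun x : {x : P // (x : B) ∈ S} => P.toCotangent x.1) := by
          rw [map_add]; exact add_mem ihu ihv
        exact e
      | smul c u hu ihu =>
        have e : P.toCotangent (c • (⟨u, hS ▸ hu⟩ : P)) ∈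
            Submodule.span k (Set.range fun x : {x : P // (x : B) ∈ S} => P.toCotangent x.1) := by
          rw [map_smul, hsmul]; exact Submodule.smul_mem _ _ ihu
        exact e
    exact key z hz'
  let b := Module.finBasis k P.Cotangent
  choose y hy using fun i => Ideal.toCotangent_surjective P (b i)
  let N : Ideal B := Ideal.span (Set.range fun i => (y i : B))
  have hPN : P ≤ N ⊔ P * P := by
    intro a ha
    have hzero : P.toCotangent (⟨a, ha⟩ - ∑ i, b.repr (P.toCotangent ⟨a, ha⟩) i • y i) = 0 := by
      simp only [map_sub, map_sum, LinearMap.map_smul_of_tower, hy, b.sum_repr, sub_self]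
    have h2 := (Ideal.toCotangent_eq_zero P _).1 hzero
    simp only [AddSubgroupClass.coe_sub, Submodule.coe_sum, Submodule.coe_smul_of_tower] at h2
    rw [pow_two] at h2
    refine Submodule.mem_sup.2 ⟨∑ i, b.repr (P.toCotangent ⟨a, ha⟩) i • (y i : B), ?_, _, h2, by abel⟩
    exact Submodule.sum_mem _ fun i _ => Submodule.smul_of_tower_mem _ _ (Ideal.subset_span ⟨i, rfl⟩)
  let L := Localization.AtPrime P
  have hm : IsLocalRing.maximalIdeal L ≤ N.map (algebraMap B L) := by
    refine Submodule.le_of_le_smul_of_le_jacobson_bot (I := IsLocalRing.maximalIdeal L)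
      (IsNoetherian.noetherian _) (IsLocalRing.maximalIdeal_le_jacobson _) ?_
    rw [smul_eq_mul, ← Localization.AtPrime.map_eq_maximalIdeal, ← Ideal.map_mul, ← Ideal.map_sup]
    exact Ideal.map_mono hPN
  have hle : (g : WithBot ℕ∞) ≤ (r : WithBot ℕ∞) := by
    rw [← hdim]
    refine (ringKrullDim_le_spanFinrank_maximalIdeal L).trans ?_
    have hNP : N ≤ P := Ideal.span_le.2 (Set.range_subset_iff.2 fun i => (y i).2)
    have heq : IsLocalRing.maximalIdeal L = Ideal.span (algebraMap B L '' Set.range fun i => (y i : B)) := by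
      rw [← Ideal.map_span]
      refine le_antisymm hm ?_
      rw [← Localization.AtPrime.map_eq_maximalIdeal]
      exact Ideal.map_mono hNP
    have hc : (IsLocalRing.maximalIdeal L).spanFinrank ≤ r := by
      rw [heq]
      refine (Submodule.spanFinrank_span_le_ncard_of_finite (Set.toFinite _)).trans ?_
      refine (Set.ncard_image_le (Set.toFinite _)).trans ?_
      rw [← Nat.card_coe_set_eq]
      exact (Finite.card_range_le _).trans (by rw [Nat.card_eq_fintype_card, Fintype.card_fin])
    exact_mod_cast hc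
  exact_mod_cast hle

/-- A finite group through which all points killed by `p` factor has a big cotangent space. -/
theorem le_cotangent_of_lift {A : Over (Spec (CommRingCat.of k))} [GrpObj A] [LocallyOfFiniteType A.hom]
    {g : ℕ} (hg : topologicalKrullDim A.left = g) {p : ℕ} (hp : (p : k) = 0)
    (H : Type u) [CommRing H] [HopfAlgebra k H] [Module.Finite k H] (i : sp (K := k) H ⟶ A) [Mono i]
    (hone : spMap (Bialgebra.counitAlgHom k H) ≫ i = 1)
    (hlift : ∀ v : sp (K := k) (DualNumber k) ⟶ A, v ^ p = 1 → ∃ z, z ≫ i = v) :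
    g ≤ Module.finrank k (RingHom.ker (Bialgebra.counitAlgHom k H)).Cotangent := by
  obtain ⟨B, _, _, uB, _, χ, hχ, -⟩ := Groth.L08.MulEtale.exists_chart (G := A) ⊤ trivial
  refine (le_finrank_cotangent hg uB χ hχ).trans ?_
  let ε := Bialgebra.counitAlgHom k H
  let I : Ideal H := RingHom.ker ε
  let q : H →ₐ[k] H ⧸ I ^ 2 := Ideal.Quotient.mkₐ k (I ^ 2)
  have hrange : Set.range (spMap q ≫ i).left ⊆ Set.range uB.left := by
    rintro _ ⟨s, rfl⟩
    have hI : I ≤ (PrimeSpectrum.comap q.toRingHom s).asIdeal := fun a ha => by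
      refine Ideal.IsPrime.mem_of_pow_mem inferInstance 2 ?_
      show q (a ^ 2) ∈ (s : PrimeSpectrum _).asIdeal
      rw [show q (a ^ 2) = 0 from Ideal.Quotient.eq_zero_iff_mem.2 (Ideal.pow_mem_pow ha 2)]
      exact Ideal.zero_mem _
    haveI : I.IsMaximal := RingHom.ker_isMaximal_of_surjective ε fun c => ⟨algebraMap k H c, ε.commutes c⟩
    have heq : (spMap q).left s = (spMap ε).left (IsLocalRing.closedPoint k) := by
      refine PrimeSpectrum.ext (Eq.trans (Eq.symm ((inferInstance : I.IsMaximal).eq_of_le
        (Ideal.IsPrime.ne_top inferInstance) hI)) (Ideal.ext fun a => ?_))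
      show ε a = 0 ↔ ε a ∈ IsLocalRing.maximalIdeal k
      simp
    refine Eq.mpr ?_ (Groth.L08.MulEtale.one_mem_range uB χ hχ)
    refine congrArg (· ∈ Set.range uB.left) ?_
    refine (congrArg i.left heq).trans ?_
    exact (congrArg (fun f : sp (K := k) k ⟶ A => f.left (IsLocalRing.closedPoint k)) hone).trans
      (Groth.L25.Translate.one_left_apply _)
  obtain ⟨ρ, hρ⟩ := exists_lift (u' := uB) (spMap q ≫ i) hrange
  let εbar : H ⧸ I ^ 2 →ₐ[k] k :=
    Ideal.Quotient.liftₐ _ ε fun a ha => RingHom.mem_ker.1 (Ideal.pow_le_self two_ne_zero ha)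
  have hερ : εbar.comp ρ = χ := by
    refine spMap_inj (u' := uB) _ _ ?_
    rw [← spMap_comp, Category.assoc, hρ, ← Category.assoc, spMap_comp, hχ,
      show εbar.comp q = ε from AlgHom.ext fun a => rfl, hone]
  let J := I.cotangentIdeal
  have hmem : ∀ x ∈ RingHom.ker χ, ρ x ∈ J := by
    intro x hx
    obtain ⟨a, ha⟩ := Ideal.Quotient.mk_surjective (ρ x)
    rw [← ha]
    refine ⟨a, ?_, rfl⟩
    show ε a = 0
    have := DFunLike.congr_fun hερ x
    rw [AlgHom.comp_apply, ← ha] at this
    exact this.trans (RingHom.mem_ker.1 hx)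
  let L0 : RingHom.ker χ →ₗ[k] J.restrictScalars k :=
    LinearMap.codRestrict _ (ρ.toLinearMap.comp ((RingHom.ker χ).subtype.restrictScalars k))
      fun x => hmem x.1 x.2
  have hJ : ∀ a c : H ⧸ I ^ 2, a ∈ J → c ∈ J → a * c = 0 := by
    intro a c ha hc
    have h1 : a * c ∈ J ^ 2 := (pow_two J).symm ▸ Ideal.mul_mem_mul ha hc
    rwa [Ideal.cotangentIdeal_square, Ideal.mem_bot] at h1
  have hkerL0 : ∀ x : RingHom.ker χ, L0 x = 0 ↔ (RingHom.ker χ).toCotangent x = 0 := by
    intro x
    rw [Ideal.toCotangent_eq_zero]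
    constructor
    · intro hx
      have hx' : ρ (x : B) = 0 := congrArg Subtype.val hx
      have h := Groth.Agent.AV.MulPInfinitesimal.sub_mem_sq χ (x : B) fun w hw => by
        have hv : pt uB χ w hw ^ p = 1 :=
          Groth.Agent.AV.MulPInfinitesimal.pow_eq_one hp (TrivSqZeroExt.fstHom k k k)
            (fun c => ⟨TrivSqZeroExt.inl c, rfl⟩)
            (fun a c ha hc => by
              have ha' : a.fst = 0 := ha
              have hc' : c.fst = 0 := hc
              ext <;> simp [ha', hc'])
            _ (spMap_fst_pt χ hχ w hw)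
        obtain ⟨z, hz⟩ := hlift _ hv
        obtain ⟨z', hz'⟩ := Spec.map_surjective z.left
        let ψ : H →ₐ[k] DualNumber k :=
          { z'.hom with
            commutes' := fun c => by
              have h1 : CommRingCat.ofHom (algebraMap k H) ≫ z' =
                  CommRingCat.ofHom (algebraMap k (DualNumber k)) := by
                apply Spec.map_injective
                rw [Spec.map_comp, hz']
                exact Over.w z
              exact ConcreteCategory.congr_hom h1 c }
        have hψ : spMap ψ = z := Over.OverMorphism.ext hz'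
        have hfst : ∀ a, ε a = 0 → TrivSqZeroExt.fst (ψ a) = 0 := by
          intro a ha
          have h1 : spMap (TrivSqZeroExt.fstHom k k k) ≫ z = spMap ε := by
            have hmono : ∀ e : H →ₐ[k] k, spMap e ≫ i = 1 → e = ε := fun e he => by
              have h3 := congrArg (fun f => f.left) ((cancel_mono i).1 (he.trans hone.symm))
              exact AlgHom.ext fun b => congr(($(Spec.map_injective h3)).hom b)
            rw [← hψ, spMap_comp]
            exact congrArg spMap (hmono _ (by rw [← spMap_comp, Category.assoc, hψ, hz, spMap_fst_pt χ hχ w hw]))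
          rw [← hψ, spMap_comp] at h1
          have h2 := congrArg (fun f => f.left) h1
          exact (congr(($(Spec.map_injective h2)).hom a)).trans ha
        let ψ' : H ⧸ I ^ 2 →ₐ[k] DualNumber k := Ideal.Quotient.liftₐ _ ψ fun a ha => by
          rw [pow_two] at ha
          induction ha using Submodule.mul_induction_on' with
          | mem_mul_mem u hu v hv =>
            rw [map_mul]
            ext <;> simp [hfst u hu, hfst v hv]
          | add u _ v _ hu hv => rw [map_add, hu, hv, add_zero]
        have hω : ψ'.comp ρ = omega χ w hw := by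
          refine spMap_inj (u' := uB) _ _ ?_
          rw [← spMap_comp, Category.assoc, hρ, ← Category.assoc, spMap_comp,
            show ψ'.comp q = ψ from AlgHom.ext fun a => rfl, hψ, hz]
          rfl
        rw [← snd_omega χ w hw, ← hω, AlgHom.comp_apply, hx', map_zero, TrivSqZeroExt.snd_zero]
      rw [RingHom.mem_ker.1 x.2, map_zero, sub_zero, ← pow_two] at h
      exact h
    · intro hx
      rw [pow_two] at hx
      have h0 : ∀ z ∈ RingHom.ker χ * RingHom.ker χ, ρ z = 0 := fun z hz => by
        induction hz using Submodule.mul_induction_on' with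
        | mem_mul_mem u hu v hv => rw [map_mul]; exact hJ _ _ (hmem u hu) (hmem v hv)
        | add u _ v _ hu hv => rw [map_add, hu, hv, add_zero]
      exact Subtype.ext (h0 _ hx)
  haveI : Module.Finite k (J.restrictScalars k) := inferInstance
  let L : (RingHom.ker χ).Cotangent → J.restrictScalars k := fun c =>
    L0 (Ideal.toCotangent_surjective _ c).choose
  have hL : ∀ x, L ((RingHom.ker χ).toCotangent x) = L0 x := fun x => by
    rw [← sub_eq_zero, ← map_sub, hkerL0, map_sub, (Ideal.toCotangent_surjective _ _).choose_spec, sub_self]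
  let L' : (RingHom.ker χ).Cotangent →ₗ[k] J.restrictScalars k :=
    { toFun := L
      map_add' := fun a c => by
        obtain ⟨a, rfl⟩ := Ideal.toCotangent_surjective _ a
        obtain ⟨c, rfl⟩ := Ideal.toCotangent_surjective _ c
        rw [← map_add, hL, hL, hL, map_add]
      map_smul' := fun r a => by
        obtain ⟨a, rfl⟩ := Ideal.toCotangent_surjective _ a
        rw [← LinearMap.map_smul_of_tower, hL, hL, RingHom.id_apply]
        exact map_smul L0 r a }
  have hL' : Function.Injective L' := by
    rw [injective_iff_map_eq_zero]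
    intro a ha
    obtain ⟨a, rfl⟩ := Ideal.toCotangent_surjective _ a
    exact (hkerL0 a).1 ((hL a).symm.trans ha)
  refine (LinearMap.finrank_le_finrank_of_injective hL').trans (le_of_eq ?_)
  exact ((I.cotangentEquivIdeal).restrictScalars k).finrank_eq.symm

end Groth.Agent.AV.PRank

namespace Groth.Agent.AV.PRank

open Groth.L25.GrpDeriv

variable {k : Type u} [Field k] {A : Over (Spec (CommRingCat.of k))} [GrpObj A] [IsCommMonObj A]
  [IsProper A.hom] [GeometricallyIntegral A.hom]

/-- An abelian variety of dimension `g` has at most `p ^ g` points killed by the characteristic. -/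
theorem card_torsPts_char_le (p : ℕ) [Fact p.Prime] [CharP k p] {g : ℕ}
    (hg : topologicalKrullDim A.left = g) :
    Nat.card (AbDual.torsPts A p (TorsPts.ptk k)) ≤ p ^ g := by
  have hp1 : 1 ≤ p := (Fact.out : p.Prime).one_le
  haveI := TorsPts.isFinite_kernel (A := A) hp1
  obtain ⟨_, _, _, _⟩ := Degree.isogeny_pow (A := A) hp1
  let P := pullback (𝟙 A ^ p) η[A]
  let j : P ⟶ A := pullback.fst (𝟙 A ^ p) η[A]
  haveI : Mono η[A] := (IsSplitMono.mk' ⟨toUnit A, toUnit_unique _ _⟩).mono
  haveI : Mono j := inferInstanceAs (Mono (pullback.fst (𝟙 A ^ p) η[A]))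
  have hjp : j ^ p = 1 := by
    rw [← Category.comp_id j, ← MonObj.comp_pow, pullback.condition, Hom.one_def,
      toUnit_unique (toUnit P) (pullback.snd (𝟙 A ^ p) η[A])]
  have hlift : ∀ {T : Over (Spec (CommRingCat.of k))} (f : T ⟶ A), f ^ p = 1 → ∃ z : T ⟶ P, z ≫ j = f :=
    fun {T} f hf => ⟨pullback.lift f (toUnit T) (by rw [MonObj.comp_pow, Category.comp_id, hf, Hom.one_def]),
      pullback.lift_fst _ _ _⟩
  obtain ⟨gP, hj⟩ := Groth.L08.exists_grpObj_of_mono j
    (hlift η[A] (by
      rw [show η[A] = (1 : 𝟙_ (Over (Spec (CommRingCat.of k))) ⟶ A) by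
        rw [Hom.one_def, toUnit_unique (toUnit _) (𝟙 _), Category.id_comp], one_pow]))
    (hlift _ (by rw [mul_pow, ← MonObj.comp_pow, ← MonObj.comp_pow, hjp, MonObj.comp_one, MonObj.comp_one,
      _root_.one_mul]))
    (hlift _ (by rw [inv_pow, hjp, inv_one]))
  letI := gP
  haveI : IsAffine P.left := isAffine_of_isAffineHom P.hom
  obtain ⟨H', ⟨e⟩⟩ := (essImage_hopfSpec (G := Grp.mk P)).mpr ‹IsAffine P.left›
  let H : Type u := H'.unop
  let i : sp (K := k) H ⟶ A := (e.hom.hom.hom : _ ⟶ P) ≫ j
  let φ : (Spec (CommRingCat.of H)).asOver (Spec (CommRingCat.of k)) ⟶ P := e.hom.hom.hom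
  haveI : IsMonHom φ := e.hom.hom.isMonHom_hom
  haveI : IsIso φ := ⟨e.inv.hom.hom, congrArg (fun f => f.hom.hom) e.hom_inv_id,
    congrArg (fun f => f.hom.hom) e.inv_hom_id⟩
  haveI : Mono i := inferInstanceAs (Mono (φ ≫ j))
  let φl : Spec (CommRingCat.of H) ⟶ P.left := φ.left
  haveI : IsIso φl := inferInstanceAs (IsIso ((Over.forget _).map φ))
  have hw : φl ≫ P.hom = Spec.map (CommRingCat.ofHom (algebraMap k H)) := Over.w φ
  haveI hf : IsFinite (Spec.map (CommRingCat.ofHom (algebraMap k H))) := hw ▸ inferInstance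
  haveI : Module.Finite k H := RingHom.finite_algebraMap.mp ((IsFinite.SpecMap_iff _).mp hf)
  haveI : Module.Flat k H := Module.Flat.of_free
  have hrank : Module.finrank k H = p ^ (2 * g) := by
    let s : Spec (CommRingCat.of k) := IsLocalRing.closedPoint k
    have h1 : P.hom.finrank s = Module.finrank k H := by
      rw [← Scheme.Hom.finrank_comp_left_of_isIso φl P.hom, hw,
        Scheme.Hom.finrank_SpecMap_algebraMap, Module.rankAtStalk_eq_finrank_of_free]
      rfl
    rw [← h1]
    refine Eq.trans ?_ (Degree.finrank_pow hp1 hg (η[A].left s))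
    have hsql := (IsPullback.of_hasPullback (𝟙 A ^ p) η[A]).map (Over.forget _)
    have h := @Scheme.Hom.finrank_of_isPullback _ _ _ _ _ _ _ _ hsql
      (show Flat (𝟙 A ^ p).left from inferInstance) (show IsFinite (𝟙 A ^ p).left from inferInstance) s
    refine Eq.trans ?_ h
    rw [show P.hom = (pullback.snd (𝟙 A ^ p) η[A]).left from
      ((Over.w (pullback.snd (𝟙 A ^ p) η[A])).symm.trans (Category.comp_id _))]
    rfl
  have hone : spMap (Bialgebra.counitAlgHom k H) ≫ i = 1 := by
    have h0 : η[(Spec (CommRingCat.of H)).asOver (Spec (CommRingCat.of k))] ≫ φ ≫ j = η[A] := by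
      rw [← Category.assoc, IsMonHom.one_hom, IsMonHom.one_hom]
    refine Over.OverMorphism.ext ?_
    rw [Hom.one_def, Over.comp_left]
    have h1 := congrArg (fun f => f.left) h0
    have h2 : (toUnit (sp (K := k) k)).left = 𝟙 _ := by
      have h3 := Over.w (toUnit (sp (K := k) k))
      refine (Category.comp_id _).symm.trans (h3.trans ?_)
      show Spec.map (CommRingCat.ofHom (algebraMap k k)) = _
      exact Spec.map_id _
    refine Eq.trans ?_ (congrArg (· ≫ η[A].left) h2).symm
    erw [Category.id_comp]
    exact h1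
  have hcot := le_cotangent_of_lift hg (p := p) (CharP.cast_eq_zero k p) H i hone fun v hv => by
    obtain ⟨z, hz⟩ := hlift v hv
    refine ⟨z ≫ e.inv.hom.hom, ?_⟩
    have h4 : e.inv.hom.hom ≫ φ = 𝟙 P := congrArg (fun f => f.hom.hom) e.inv_hom_id
    show (z ≫ e.inv.hom.hom) ≫ φ ≫ j = v
    rw [Category.assoc, reassoc_of% h4, hz]
  have hcard : Nat.card (AbDual.torsPts A p (TorsPts.ptk k)) = Nat.card (H →ₐ[k] k) := by
    rw [Nat.card_congr ((TorsPts.equivPoints p (TorsPts.ptk k)).trans
      ((asIso φ).symm.homToEquiv (Z := TorsPts.ptk k)))]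
    refine (Nat.card_eq_of_bijective (fun a : H →ₐ[k] k =>
      (Over.homMk (Spec.map (CommRingCat.ofHom a.toRingHom)) (by
        show _ ≫ Spec.map _ = 𝟙 _
        rw [← Spec.map_comp, ← Spec.map_id]
        congr 1
        exact CommRingCat.hom_ext a.comp_algebraMap) :
          TorsPts.ptk k ⟶ (Spec (CommRingCat.of H)).asOver (Spec (CommRingCat.of k)))) ⟨?_, fun z => ?_⟩).symm
    · intro a b h
      exact AlgHom.ext fun x => congr(($(Spec.map_injective (congrArg (fun f => f.left) h))).hom x)
    · obtain ⟨z', hz'⟩ := Spec.map_surjective z.left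
      refine ⟨{ z'.hom with commutes' := fun c => ?_ }, Over.OverMorphism.ext hz'⟩
      have h1 : CommRingCat.ofHom (algebraMap k H) ≫ z' = 𝟙 _ := by
        apply Spec.map_injective
        rw [Spec.map_comp, hz', Spec.map_id]
        exact Over.w z
      exact ConcreteCategory.congr_hom h1 c
  have h := HopfPointBound.card_mul_le (k := k) (H := H) p
  rw [← hcard, hrank, two_mul, pow_add] at h
  exact Nat.le_of_mul_le_mul_right ((Nat.mul_le_mul_left _
    (Nat.pow_le_pow_right hp1 hcot)).trans h) (pow_pos (by omega) g)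

end Groth.Agent.AV.PRank
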