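/-
Tate modules of abelian varieties are finite free.
-/
import Groth.Agent.L26.AV.TateSat
import Groth.Agent.L26.AV.FinitePts
import Mathlib.RingTheory.AdicCompletion.Functoriality
import Mathlib.NumberTheory.Padics.PadicIntegers
import Mathlib.LinearAlgebra.FreeModule.PID

set_option autoImplicit false
set_option linter.style.haveILetI false

universe u

open CategoryTheory CategoryTheory.Limits MonoidalCategory CartesianMonoidalCategory MonObj GrpObj
  AlgebraicGeometry AbDual

namespace Groth.Agent.AV.TateFinite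

section
variable {S : Scheme.{u}} {A : Over S} [GrpObj A] [IsCommMonObj A] {T : Over S} {l : ℕ} [Fact l.Prime]

/-- A Tate vector with vanishing first `n` components is divisible by `l ^ n`. -/
theorem exists_shift (x : TateMod A l T) (n : ℕ) (hx : (x : ℕ → Additive (T ⟶ A)) n = 0) :
    ∃ y : TateMod A l T, ((l : ℤ_[l]) ^ n) • y = x := by
  have hc : ∀ j m, (l ^ j) • (x : ℕ → Additive (T ⟶ A)) (m + j) = (x : ℕ → Additive (T ⟶ A)) m := by
    intro j
    induction j with
    | zero => intro m; rw [pow_zero, one_nsmul]; rfl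
    | succ j ih => intro m; rw [pow_succ, mul_nsmul', ← Nat.add_assoc, x.compat, ih]
  refine ⟨⟨fun m => (x : ℕ → Additive (T ⟶ A)) (m + n), fun m => ?_, fun m => ?_⟩, ?_⟩
  · show (l ^ m) • (x : ℕ → Additive (T ⟶ A)) (m + n) = 0
    rw [Nat.add_comm m n, hc]
    exact hx
  · show l • (x : ℕ → Additive (T ⟶ A)) (m + 1 + n) = (x : ℕ → Additive (T ⟶ A)) (m + n)
    rw [show m + 1 + n = m + n + 1 by omega, x.compat]
  · refine TateMod.ext fun m => ?_
    rw [← Nat.cast_pow, Nat.cast_smul_eq_nsmul, TateSat.component_nsmul]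
    exact hc n m

theorem eq_zero_of_smul_pow (n : ℕ) (x : TateMod A l T) (h : ((l : ℤ_[l]) ^ n) • x = 0) : x = 0 := by
  induction n generalizing x with
  | zero => rwa [pow_zero, one_smul] at h
  | succ n ih =>
    rw [pow_succ, mul_smul] at h
    have h1 := ih _ h
    rw [Nat.cast_smul_eq_nsmul] at h1
    exact TateSat.eq_of_nsmul_eq x 0 (by rw [h1, smul_zero])

theorem noZeroSMulDivisors : NoZeroSMulDivisors ℤ_[l] (TateMod A l T) :=
  ⟨fun {c x} h => by
    by_cases hc : c = 0
    · exact Or.inl hc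
    · rw [PadicInt.unitCoeff_spec hc, mul_smul] at h
      exact Or.inr (eq_zero_of_smul_pow _ x
        ((smul_eq_zero_iff_eq (PadicInt.unitCoeff hc)).1 h))⟩

/-- The Tate module is finite over the `l`-adic integers when the `l`-torsion is finite. -/
theorem module_finite [Finite (torsPts A l T)] : Module.Finite ℤ_[l] (TateMod A l T) := by
  classical
  let I := IsLocalRing.maximalIdeal ℤ_[l]
  have hI : I = Ideal.span {(l : ℤ_[l])} := PadicInt.maximalIdeal_eq_span_p
  haveI : IsHausdorff I (TateMod A l T) := ⟨fun x hx => TateMod.ext fun n => by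
    have h := hx n
    rw [SModEq.zero, hI, Ideal.span_singleton_pow, Submodule.ideal_span_singleton_smul] at h
    obtain ⟨y, -, hy⟩ := h
    rw [← hy]
    show (((l : ℤ_[l]) ^ n • y : TateMod A l T) : ℕ → Additive (T ⟶ A)) n = 0
    rw [← Nat.cast_pow, Nat.cast_smul_eq_nsmul, TateSat.component_nsmul, y.torsion]⟩
  let c1 : TateMod A l T → torsPts A l T := fun x =>
    ⟨((x : ℕ → Additive (T ⟶ A)) 1).toMul, by
      rw [AbDual.mem_torsPts]
      have h := x.torsion 1
      rw [pow_one] at h
      exact h⟩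
  let s : Set.range c1 → TateMod A l T := fun a => a.2.choose
  haveI : Fintype (Set.range c1) := Fintype.ofFinite _
  let f : (Set.range c1 → ℤ_[l]) →ₗ[ℤ_[l]] TateMod A l T := Fintype.linearCombination ℤ_[l] s
  have hmem : ∀ (n : ℕ) (r : ℤ_[l]), r ∈ (I ^ n • ⊤ : Submodule ℤ_[l] ℤ_[l]) →
      ∃ c, c * (l : ℤ_[l]) ^ n = r := by
    intro n r hr
    rw [hI, Ideal.span_singleton_pow, smul_eq_mul, ← Ideal.one_eq_top, _root_.mul_one] at hr
    exact Ideal.mem_span_singleton'.1 hr
  haveI : IsPrecomplete I (Set.range c1 → ℤ_[l]) := ⟨fun g hg => by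
    have hcoord : ∀ i, ∀ {m n}, m ≤ n → g m i ≡ g n i [SMOD (I ^ m • ⊤ : Submodule ℤ_[l] ℤ_[l])] := by
      intro i m n hmn
      exact SModEq.mono (by rw [Submodule.map_smul'']; exact Submodule.smul_mono le_rfl le_top)
        ((hg hmn).map (LinearMap.proj (R := ℤ_[l]) (φ := fun _ : Set.range c1 => ℤ_[l]) i))
    have hL : ∀ i, ∃ L : ℤ_[l], ∀ n, g n i ≡ L [SMOD (I ^ n • ⊤ : Submodule ℤ_[l] ℤ_[l])] := fun i =>
      IsPrecomplete.prec inferInstance (hcoord i)
    choose L hL using hL
    refine ⟨L, fun n => SModEq.sub_mem.2 ?_⟩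
    have hc : ∀ i, ∃ c, c * (l : ℤ_[l]) ^ n = (g n - L) i := fun i => hmem n _ (SModEq.sub_mem.1 (hL i n))
    choose c hc using hc
    have e : g n - L = ((l : ℤ_[l]) ^ n) • c := funext fun i => by
      rw [Pi.smul_apply, smul_eq_mul, mul_comm, hc]
    rw [e]
    exact Submodule.smul_mem_smul (Ideal.pow_mem_pow (by rw [hI]; exact Ideal.mem_span_singleton_self _) n)
      trivial⟩
  have hsurj : Function.Surjective f := by
    refine surjective_of_mkQ_comp_surjective (I := I) ?_
    intro q
    obtain ⟨x, rfl⟩ := Submodule.mkQ_surjective _ q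
    refine ⟨Pi.single ⟨c1 x, x, rfl⟩ 1, ?_⟩
    show (I • ⊤ : Submodule ℤ_[l] (TateMod A l T)).mkQ (f _) = _
    rw [Submodule.mkQ_apply, Submodule.mkQ_apply, Submodule.Quotient.eq]
    have h1 : c1 (s ⟨c1 x, x, rfl⟩) = c1 x := Exists.choose_spec (⟨x, rfl⟩ : c1 x ∈ Set.range c1)
    have h2 : ((f (Pi.single ⟨c1 x, x, rfl⟩ 1) - x : TateMod A l T) : ℕ → Additive (T ⟶ A)) 1 = 0 := by
      simp only [f, Fintype.linearCombination_apply_single, one_smul]
      exact sub_eq_zero.2 (congrArg (fun a : torsPts A l T => Additive.ofMul a.1) h1)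
    obtain ⟨y, hy⟩ := exists_shift _ 1 h2
    rw [← hy, pow_one]
    exact Submodule.smul_mem_smul (by rw [hI]; exact Ideal.mem_span_singleton_self _) trivial
  exact Module.Finite.of_surjective f hsurj

theorem module_free [Finite (torsPts A l T)] : Module.Free ℤ_[l] (TateMod A l T) := by
  haveI := module_finite (A := A) (T := T) (l := l)
  haveI := noZeroSMulDivisors (A := A) (T := T) (l := l)
  infer_instance

end

variable {k : Type u} [Field k] {K : Type u} [Field K] [Algebra k K] [IsAlgClosed K]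
  {A : Over (Spec (CommRingCat.of k))} [GrpObj A] [IsCommMonObj A] [IsProper A.hom] [GeometricallyIntegral A.hom]

set_option backward.isDefEq.respectTransparency.types false in
variable (A K) in
/-- Torsion of invertible order is finite. -/
theorem finite_torsPts (N : ℕ) (hN : (N : k) ≠ 0) :
    Finite (torsPts A N (Isogeny.geomPt k K)) := by
  obtain ⟨_, _, _⟩ := Isogeny.finite_etale_surjective (A := A) N hN
  let P := pullback (𝟙 A ^ N) η[A]
  have hsq : IsPullback (pullback.fst (𝟙 A ^ N) η[A]) (pullback.snd _ _) (𝟙 A ^ N) η[A] :=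
    IsPullback.of_hasPullback _ _
  haveI : IsIso (𝟙_ (Over (Spec (CommRingCat.of k)))).hom := inferInstanceAs (IsIso (𝟙 _))
  haveI : IsFinite P.hom := by
    rw [← Over.w (pullback.snd (𝟙 A ^ N) η[A])]
    exact (MorphismProperty.cancel_right_of_respectsIso @IsFinite _
      (𝟙_ (Over (Spec (CommRingCat.of k)))).hom).2
      (MorphismProperty.of_isPullback (hsq.map (Over.forget _)) ‹IsFinite (𝟙 A ^ N).left›)
  haveI := FinitePts.finite_points (L := K) P
  have hw : ∀ a : torsPts A N (Isogeny.geomPt k K), a.1 ≫ (𝟙 A ^ N) = toUnit _ ≫ η[A] := by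
    intro a
    rw [MonObj.comp_pow, Category.comp_id, ← Hom.one_def]
    exact a.2
  refine Finite.of_injective (fun a => pullback.lift a.1 (toUnit _) (hw a)) fun a b h => ?_
  have := congrArg (· ≫ pullback.fst (𝟙 A ^ N) η[A]) h
  simp only [pullback.lift_fst] at this
  exact Subtype.ext this

end Groth.Agent.AV.TateFinite
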