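import Groth.Agent.L26.AV.DegreeNorm
import Groth.Agent.L26.AV.TateCoker
import Groth.Agent.L26.AV.HopfCardDvd
import Groth.Agent.L26.AV.PRank
import Groth.Agent.L26.Misc.PadicCokerCard
import Groth.Agent.L00.IsogenyDual
import Groth.Prelude.Def_EndTate

/-!
# The degree of an isogeny and the determinant on Tate modules
-/

set_option autoImplicit false
set_option linter.style.haveILetI false
set_option linter.unusedSectionVars false
set_option backward.isDefEq.respectTransparency false
set_option backward.isDefEq.respectTransparency.types false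

universe u

open CategoryTheory CategoryTheory.Limits MonoidalCategory CartesianMonoidalCategory MonObj AlgebraicGeometry

open scoped MonObj

noncomputable section

namespace Groth.Agent.AV.IsogenyDeg

open Groth.L22.Inter InterPic DegreeForm Groth.L25.GrpDeriv

attribute [local instance] Groth.L08.Cube.clMonoid InterPic.picLaw

variable {k : Type u} [Field k] {A B : Over (Spec (CommRingCat.of k))}
  [GrpObj A] [IsCommMonObj A] [IsProper A.hom] [GeometricallyIntegral A.hom]
  [GrpObj B] [IsCommMonObj B] [IsProper B.hom] [GeometricallyIntegral B.hom]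

/-- The degree is multiplicative. -/
theorem finrank_comp {g : ℕ} (hA : topologicalKrullDim A.left = g) (hB : topologicalKrullDim B.left = g)
    (φ : A ⟶ B) [IsMonHom φ] (hφ : IsFinite φ.left) (ψ : B ⟶ A) [IsMonHom ψ] (hψ : IsFinite ψ.left)
    (a a' : A.left) (b : B.left) :
    (φ ≫ ψ).left.finrank a = φ.left.finrank b * ψ.left.finrank a' := by
  obtain ⟨sA⟩ := DegreeNorm.nonempty_setup A hA
  obtain ⟨sB⟩ := DegreeNorm.nonempty_setup B hB
  haveI : IsFinite (φ ≫ ψ).left := by
    haveI := hφ; haveI := hψ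
    exact inferInstanceAs (IsFinite (φ.left ≫ ψ.left))
  letI : A.left.Over (Spec (CommRingCat.of k)) := ⟨A.hom⟩
  haveI : IsProper (A.left ↘ Spec (CommRingCat.of k)) := inferInstanceAs (IsProper A.hom)
  letI : B.left.Over (Spec (CommRingCat.of k)) := ⟨B.hom⟩
  haveI : IsProper (B.left ↘ Spec (CommRingCat.of k)) := inferInstanceAs (IsProper B.hom)
  have hF : F sA.L sA.amp.1 (φ ≫ ψ) = Additive.ofMul (pullPic φ.left (F sA.L sA.amp.1 ψ).toMul) :=
    Subtype.ext (show PicF.pullCl (φ.left ≫ ψ.left) (PicF.cl sA.L) = _ from PicLoc.pullCl_comp _ _ _)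
  have e : deg sA.L sA.amp.1 hA (φ ≫ ψ) = deg sB.L sB.amp.1 hA φ * deg sA.L sA.amp.1 hB ψ := by
    show inter k _ _ / _ = _ * (inter k _ _ / _)
    simp only [hF]
    rw [DegreeNorm.inter_pullPic sB.L sB.amp.1 sB.amp hA hB φ (fun _ => F sA.L sA.amp.1 ψ), mul_div_assoc]
  rw [← deg_of_isFinite sA.L sA.amp.1 sA.amp hA hA (φ ≫ ψ) ‹_› a,
    ← deg_of_isFinite sB.L sB.amp.1 sB.amp hA hB φ hφ b,
    ← deg_of_isFinite sA.L sA.amp.1 sA.amp hB hA ψ hψ a'] at e
  exact_mod_cast e

omit [IsCommMonObj A] [IsCommMonObj B] in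
/-- Over an algebraically closed field the number of points of the kernel divides the degree. -/
theorem card_kernel_dvd [IsAlgClosed k] (φ : A ⟶ B) [IsMonHom φ] [IsFinite φ.left] [Flat φ.left]
    [LocallyOfFinitePresentation φ.left] (P : Over (Spec (CommRingCat.of k))) [GrpObj P] (j : P ⟶ A) [IsMonHom j]
    (hP : IsPullback j (toUnit P) φ η[B]) :
    Nat.card (TorsPts.ptk k ⟶ P) ∣ φ.left.finrank (η[B].left (IsLocalRing.closedPoint k)) := by
  haveI : IsIso (𝟙_ (Over (Spec (CommRingCat.of k)))).hom := inferInstanceAs (IsIso (𝟙 _))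
  haveI : IsFinite P.hom := by
    rw [← Over.w (toUnit P)]
    exact (MorphismProperty.cancel_right_of_respectsIso @IsFinite _
      (𝟙_ (Over (Spec (CommRingCat.of k)))).hom).2
      (MorphismProperty.of_isPullback (hP.map (Over.forget _)) ‹IsFinite φ.left›)
  haveI : IsAffine P.left := isAffine_of_isAffineHom P.hom
  obtain ⟨H', ⟨e⟩⟩ := (essImage_hopfSpec (G := Grp.mk P)).mpr ‹IsAffine P.left›
  let H : Type u := H'.unop
  let χ : (Spec (CommRingCat.of H)).asOver (Spec (CommRingCat.of k)) ⟶ P := e.hom.hom.hom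
  haveI : IsIso χ := ⟨e.inv.hom.hom, congrArg (fun f => f.hom.hom) e.hom_inv_id,
    congrArg (fun f => f.hom.hom) e.inv_hom_id⟩
  let χl : Spec (CommRingCat.of H) ⟶ P.left := χ.left
  haveI : IsIso χl := inferInstanceAs (IsIso ((Over.forget _).map χ))
  have hw : χl ≫ P.hom = Spec.map (CommRingCat.ofHom (algebraMap k H)) := Over.w χ
  haveI hf : IsFinite (Spec.map (CommRingCat.ofHom (algebraMap k H))) := hw ▸ inferInstance
  haveI : Module.Finite k H := RingHom.finite_algebraMap.mp ((IsFinite.SpecMap_iff _).mp hf)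
  haveI : Module.Flat k H := Module.Flat.of_free
  have hrank : Module.finrank k H = φ.left.finrank (η[B].left (IsLocalRing.closedPoint k)) := by
    let s : Spec (CommRingCat.of k) := IsLocalRing.closedPoint k
    have h1 : P.hom.finrank s = Module.finrank k H := by
      rw [← Scheme.Hom.finrank_comp_left_of_isIso χl P.hom, hw,
        Scheme.Hom.finrank_SpecMap_algebraMap, Module.rankAtStalk_eq_finrank_of_free]
      rfl
    rw [← h1]
    have h := @Scheme.Hom.finrank_of_isPullback _ _ _ _ _ _ _ _ (hP.map (Over.forget _))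
      (show Flat φ.left from inferInstance) (show IsFinite φ.left from inferInstance) s
    refine Eq.trans ?_ h
    rw [show P.hom = (toUnit P).left from ((Over.w (toUnit P)).symm.trans (Category.comp_id _))]
    rfl
  have hcard : Nat.card (TorsPts.ptk k ⟶ P) = Nat.card (H →ₐ[k] k) := by
    rw [Nat.card_congr ((asIso χ).symm.homToEquiv (Z := TorsPts.ptk k))]
    refine (Nat.card_eq_of_bijective (fun a : H →ₐ[k] k =>
      (Over.homMk (Spec.map (CommRingCat.ofHom a.toRingHom)) (by
        show _ ≫ Spec.map _ = 𝟙 _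
        rw [← Spec.map_comp, ← Spec.map_id]
        congr 1
        exact CommRingCat.hom_ext a.comp_algebraMap) :
          TorsPts.ptk k ⟶ (Spec (CommRingCat.of H)).asOver (Spec (CommRingCat.of k)))) ⟨?_, fun z => ?_⟩).symm
    · intro a b h
      exact AlgHom.ext fun x => congr(($(Spec.map_injective (congrArg (fun f => f.left) h))).hom x)
    · obtain ⟨z', hz'⟩ := Spec.map_surjective z.left
      refine ⟨{ z'.hom with commutes' := fun c => ?_ }, Over.OverMorphism.ext hz'⟩
      have h1 : CommRingCat.ofHom (algebraMap k H) ≫ z' = 𝟙 _ := by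
        apply Spec.map_injective
        rw [Spec.map_comp, hz', Spec.map_id]
        exact Over.w z
      exact ConcreteCategory.congr_hom h1 c
  rw [hcard, ← hrank]
  exact HopfCardDvd.card_dvd_finrank

/-- The valuation of the determinant is at most that of the degree. -/
theorem valuation_det_le [IsAlgClosed k] (l : ℕ) [hlp : Fact l.Prime] (hl : (l : k) ≠ 0) {r : ℕ}
    (hA : topologicalKrullDim A.left = r) (hB : topologicalKrullDim B.left = r)
    (φ : A ⟶ B) [IsMonHom φ] (hφ : IsFinite φ.left)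
    (bA : Module.Basis (Fin (2 * r)) ℤ_[l] (AbDual.TateMod A l (TorsPts.ptk k)))
    (bB : Module.Basis (Fin (2 * r)) ℤ_[l] (AbDual.TateMod B l (TorsPts.ptk k))) (b : B.left) :
    (LinearMap.toMatrix bA bB (AbDual.tateMapₗ (l := l) (T := TorsPts.ptk k) φ)).det ≠ 0 ∧
    (LinearMap.toMatrix bA bB (AbDual.tateMapₗ (l := l) (T := TorsPts.ptk k) φ)).det.valuation ≤
      padicValNat l (φ.left.finrank b) := by
  haveI := hφ
  haveI : IsIntegral B.left := GeometricallyIntegral.isIntegral_of_subsingleton B.hom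
  haveI : Surjective φ.left := surjective_of_isFinite_of_dim_eq A B φ (hA.trans hB.symm)
  haveI : Flat φ.left := Groth.L08.FlatHom.flat_of_surjective A B φ
  haveI : IsLocallyNoetherian B.left := LocallyOfFiniteType.isLocallyNoetherian B.hom
  haveI : LocallyOfFinitePresentation φ.left := LocallyOfFinitePresentation.iff_locallyOfFiniteType.2 inferInstance
  let P := pullback φ η[B]
  let j : P ⟶ A := pullback.fst φ η[B]
  have hsq : IsPullback j (toUnit P) φ η[B] := by
    rw [toUnit_unique (toUnit P) (pullback.snd φ η[B])]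
    exact IsPullback.of_hasPullback _ _
  haveI : Mono η[B] := (IsSplitMono.mk' ⟨toUnit B, toUnit_unique _ _⟩).mono
  haveI : Mono j := inferInstanceAs (Mono (pullback.fst φ η[B]))
  have hw : j ≫ φ = 1 := by rw [Hom.one_def]; exact hsq.w
  have hlift : ∀ {T : Over (Spec (CommRingCat.of k))} (f : T ⟶ A), f ≫ φ = 1 → ∃ z : T ⟶ P, z ≫ j = f :=
    fun {T} f hf => ⟨hsq.lift f (toUnit T) (by rw [hf, Hom.one_def]), hsq.lift_fst _ _ _⟩
  obtain ⟨gP, hj⟩ := Groth.L08.exists_grpObj_of_mono j
    (hlift η[A] (IsMonHom.one_hom φ |>.trans (by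
      rw [Hom.one_def, toUnit_unique (toUnit _) (𝟙 _), Category.id_comp])))
    (hlift _ (by rw [MonObj.mul_comp, Category.assoc, Category.assoc, hw, MonObj.comp_one, MonObj.comp_one,
      _root_.one_mul]))
    (hlift _ (by rw [GrpObj.inv_comp, hw, inv_one]))
  letI := gP
  haveI : IsCommMonObj P := ⟨by
    rw [← cancel_mono j]
    simp only [Category.assoc, IsMonHom.mul_hom j]
    rw [← BraidedCategory.braiding_naturality_assoc, IsCommMonObj.mul_comm]⟩
  obtain ⟨hinj, ⟨Ψ⟩⟩ := TateCoker.main k k l hl A B φ P j hsq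
  revert hinj Ψ
  rw [show (Over.mk (Spec.map (CommRingCat.ofHom (algebraMap k k))) : Over (Spec (CommRingCat.of k))) =
    TorsPts.ptk k from TorsPts.geomPt_self k]
  intro hinj Ψ
  obtain ⟨hdet, hcard⟩ := PadicCokerCard.card_coker bA bB _ hinj
  refine ⟨hdet, ?_⟩
  have h1 : l ^ (LinearMap.toMatrix bA bB (AbDual.tateMapₗ (l := l) (T := TorsPts.ptk k) φ)).det.valuation ∣
      φ.left.finrank b := by
    rw [← hcard, Nat.card_congr Ψ.toEquiv,
      Nat.card_congr (Additive.toMul : Additive ↥(CommGroup.primaryComponent (TorsPts.ptk k ⟶ P) l) ≃ _)]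
    haveI : IsIntegral B.left := GeometricallyIntegral.isIntegral_of_subsingleton B.hom
    rw [(Scheme.Hom.isLocallyConstant_finrank φ.left).apply_eq_of_preconnectedSpace b
      (η[B].left (IsLocalRing.closedPoint k))]
    exact (Subgroup.card_subgroup_dvd_card _).trans (card_kernel_dvd φ P j hsq)
  have h2 : 0 < φ.left.finrank b := by
    haveI : IsFinite φ.left := hφ
    exact (Scheme.Hom.one_le_finrank_iff_surjective (f := φ.left)).2 inferInstance b
  exact (padicValNat_dvd_iff_le h2.ne').1 h1

/-- The valuation of the degree is that of the determinant. -/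
theorem valuation_det_eq [IsAlgClosed k] (l : ℕ) [hlp : Fact l.Prime] (hl : (l : k) ≠ 0) {r : ℕ}
    (hA : topologicalKrullDim A.left = r) (hB : topologicalKrullDim B.left = r)
    (φ : A ⟶ B) [IsMonHom φ] (hφ : IsFinite φ.left)
    (bA : Module.Basis (Fin (2 * r)) ℤ_[l] (AbDual.TateMod A l (TorsPts.ptk k)))
    (bB : Module.Basis (Fin (2 * r)) ℤ_[l] (AbDual.TateMod B l (TorsPts.ptk k))) (b : B.left) :
    padicValNat l (φ.left.finrank b) =
      (LinearMap.toMatrix bA bB (AbDual.tateMapₗ (l := l) (T := TorsPts.ptk k) φ)).det.valuation := by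
  haveI : IsIntegral A.left := GeometricallyIntegral.isIntegral_of_subsingleton A.hom
  haveI : IsIntegral B.left := GeometricallyIntegral.isIntegral_of_subsingleton B.hom
  haveI := hφ
  haveI : Surjective φ.left := surjective_of_isFinite_of_dim_eq A B φ (hA.trans hB.symm)
  haveI : Flat φ.left := Groth.L08.FlatHom.flat_of_surjective A B φ
  haveI : IsLocallyNoetherian B.left := LocallyOfFiniteType.isLocallyNoetherian B.hom
  haveI : LocallyOfFinitePresentation φ.left := LocallyOfFinitePresentation.iff_locallyOfFiniteType.2 inferInstance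
  let a : A.left := genericPoint A.left
  let n := φ.left.finrank b
  have hn : 1 ≤ n := (Scheme.Hom.one_le_finrank_iff_surjective (f := φ.left)).2 inferInstance b
  obtain ⟨⟨ψ, ⟨hψm, hψ⟩, -⟩, hall⟩ := Groth.L00.IsogDual.exists_factor φ n hn
    (fun s => (Scheme.Hom.isLocallyConstant_finrank φ.left).apply_eq_of_preconnectedSpace _ b)
  haveI := hψm
  obtain ⟨-, hψf, -, -⟩ := hall ψ hψm hψ
  obtain ⟨hd1, h1⟩ := valuation_det_le l hl hA hB φ hφ bA bB b
  obtain ⟨hd2, h2⟩ := valuation_det_le l hl hB hA ψ hψf bB bA a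
  have hdeg : n * ψ.left.finrank a = n ^ (2 * r) := by
    rw [← finrank_comp hA hB φ hφ ψ hψf a a b, hψ, Degree.finrank_pow hn hA a]
  have hmat : (LinearMap.toMatrix bA bA (AbDual.tateMapₗ (l := l) (T := TorsPts.ptk k) (φ ≫ ψ))).det =
      (n : ℤ_[l]) ^ (2 * r) := by
    have e : AbDual.tateMapₗ (l := l) (T := TorsPts.ptk k) (φ ≫ ψ) =
        (n : Module.End ℤ_[l] (AbDual.TateMod A l (TorsPts.ptk k))) := by
      have h0 := congrArg (EndAV.End.tateRep l (TorsPts.ptk k))
        (show EndAV.End.of (φ ≫ ψ) = (n : EndAV.End A) from EndAV.End.ext (hψ.trans (EndAV.End.toHom_natCast n).symm))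
      rw [map_natCast] at h0
      exact h0
    rw [e, show (n : Module.End ℤ_[l] (AbDual.TateMod A l (TorsPts.ptk k))) = (n : ℤ_[l]) • LinearMap.id from
      LinearMap.ext fun x => by simp [Nat.cast_smul_eq_nsmul], map_smul, LinearMap.toMatrix_id, Matrix.det_smul,
      Matrix.det_one, _root_.mul_one, Fintype.card_fin]
  have e2 : AbDual.tateMapₗ (l := l) (T := TorsPts.ptk k) (φ ≫ ψ) =
      (AbDual.tateMapₗ (l := l) (T := TorsPts.ptk k) ψ).comp (AbDual.tateMapₗ (l := l) (T := TorsPts.ptk k) φ) :=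
    LinearMap.ext fun x => AbDual.TateMod.ext fun m => congrArg Additive.ofMul
      (Category.assoc ((x : ℕ → Additive (TorsPts.ptk k ⟶ A)) m).toMul φ ψ).symm
  rw [e2, LinearMap.toMatrix_comp bA bB bA, Matrix.det_mul] at hmat
  have hv := congrArg PadicInt.valuation hmat
  rw [PadicInt.valuation_mul hd2 hd1, PadicInt.valuation_pow] at hv
  have hψ0 : ψ.left.finrank a ≠ 0 := fun h0 => by
    rw [h0, Nat.mul_zero] at hdeg
    exact pow_ne_zero _ (by omega : n ≠ 0) hdeg.symm
  have hv2 := congrArg (padicValNat l) hdeg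
  rw [padicValNat.mul (by omega : n ≠ 0) hψ0, padicValNat.pow] at hv2
  have hnv : (n : ℤ_[l]).valuation = padicValNat l n := by
    have := PadicInt.valuation_coe (n : ℤ_[l])
    rw [PadicInt.coe_natCast, Padic.valuation_natCast] at this
    exact_mod_cast this.symm
  rw [hnv] at hv
  show padicValNat l n = _
  have h1' : _ ≤ padicValNat l n := h1
  omega

end Groth.Agent.AV.IsogenyDeg
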