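/-
Pointed morphisms from proper flat group schemes with constant functions on connected fibres.
-/
import Groth.Agent.L26.AV.RelMain
import Groth.Agent.L26.AV.Hom

open CategoryTheory MonoidalCategory CartesianMonoidalCategory MonObj GrpObj AlgebraicGeometry
open TopologicalSpace

universe u

namespace Groth.Agent.AV

variable {S : Scheme.{u}}

/-- A map on a product which collapses the slice over a section factors through the second projection,
provided the clopen sets containing the section are everything. -/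
theorem exists_eq_snd_comp [IsLocallyNoetherian S] (X Y G : Over S) [IsProper X.hom] [Flat X.hom]
    [Surjective X.hom] (h0 : ∀ s, FibConst X.hom s) [IsLocallyNoetherian Y.left] [IsSeparated G.hom]
    (e : 𝟙_ (Over S) ⟶ Y) (a : 𝟙_ (Over S) ⟶ G)
    (hY : ∀ C : Set Y.left, IsClopen C → Set.range e.left ⊆ C → C = Set.univ)
    (d : X ⊗ Y ⟶ G) (hd : lift (𝟙 X) (toUnit X ≫ e) ≫ d = toUnit X ≫ a) :
    ∃ h : Y ⟶ G, d = snd X Y ≫ h := by
  let j : X ⟶ X ⊗ Y := lift (𝟙 X) (toUnit X ≫ e)
  have hd' : j ≫ lift d (snd X Y) = toUnit X ≫ lift a e := by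
    apply CartesianMonoidalCategory.hom_ext
    · rw [Category.assoc, Category.assoc, lift_fst, lift_fst, hd]
    · rw [Category.assoc, Category.assoc, lift_snd, lift_snd, lift_snd]
  have hP : IsPullback j.left X.hom (snd X Y).left e.left := by
    refine IsPullback.of_right (h₁₂ := (fst X Y).left) ?_ ?_ (IsPullback.of_hasPullback X.hom Y.hom)
    · rw [← Over.comp_left, lift_fst, Over.w e, Over.id_left]
      exact IsPullback.of_id_fst
    · rw [← Over.comp_left, lift_snd, Over.comp_left, Over.toUnit_left]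
  have key : ∀ s : S, ∀ p : (X ⊗ Y).left, (snd X Y).left p = e.left s →
      (lift d (snd X Y)).left p = (lift a e).left s := by
    intro s p hp
    obtain ⟨z, hz, hz'⟩ := Scheme.Pullback.exists_preimage_pullback p s hp
    let x := hP.isoPullback.inv z
    have hx : j.left x = p := by
      rw [← hz]
      exact congrArg (fun φ => φ z) hP.isoPullback_inv_fst
    have hx' : X.hom x = s := by
      rw [← hz']
      exact congrArg (fun φ => φ z) hP.isoPullback_inv_snd
    have h1 := congrArg (fun φ : X ⟶ G ⊗ Y => φ.left x) hd'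
    simp only [Over.comp_left, Scheme.Hom.comp_apply, Over.toUnit_left] at h1
    rw [hx, hx'] at h1
    exact h1
  have : Surjective (snd X Y).left := inferInstanceAs (Surjective (Limits.pullback.snd X.hom Y.hom))
  have : IsProper (snd X Y).left := inferInstanceAs (IsProper (Limits.pullback.snd X.hom Y.hom))
  have : Flat (snd X Y).left := inferInstanceAs (Flat (Limits.pullback.snd X.hom Y.hom))
  have : IsSeparated (snd G Y).left := inferInstanceAs (IsSeparated (Limits.pullback.snd G.hom Y.hom))
  have h0' : ∀ y, FibConst (snd X Y).left y := fun y => fibConst_snd X.hom Y.hom y (h0 _)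
  have huniv : collapsed (snd X Y).left (lift d (snd X Y)).left = Set.univ := by
    refine hY _ (isClopen_collapsed (snd X Y).left h0' (snd G Y).left _ (by rw [← Over.comp_left, lift_snd])) ?_
    rintro _ ⟨s, rfl⟩ p p' hp hp'
    exact (key s p hp).trans (key s p' hp').symm
  obtain ⟨t, ht, hdt⟩ := exists_section_of_collapsed_univ (snd X Y).left h0' (snd G Y).left
    (lift d (snd X Y)).left (by rw [← Over.comp_left, lift_snd]) huniv
  have htw : (t ≫ (fst G Y).left) ≫ G.hom = Y.hom := by
    rw [Category.assoc, Over.w (fst G Y), ← Over.w (snd G Y), reassoc_of% ht]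
  refine ⟨Over.homMk (t ≫ (fst G Y).left) htw, ?_⟩
  ext1
  show d.left = (snd X Y).left ≫ t ≫ (fst G Y).left
  rw [← lift_fst d (snd X Y), Over.comp_left, hdt, Category.assoc]

/-- A clopen set meeting every fibre of a map with connected fibres along a section is everything. -/
theorem clopen_eq_univ_of_section {X : Over S} (hfib : ∀ s, _root_.IsPreconnected (X.hom ⁻¹' {s}))
    (e : 𝟙_ (Over S) ⟶ X) (C : Set X.left) (hC : IsClopen C) (he : Set.range e.left ⊆ C) : C = Set.univ := by
  refine Set.eq_univ_of_forall fun x => ?_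
  have hs : X.hom (e.left (X.hom x)) = X.hom x := by
    rw [← Scheme.Hom.comp_apply, Over.w e]
    rfl
  exact ((hfib (X.hom x)).subset_isClopen hC ⟨e.left (X.hom x), hs, he ⟨_, rfl⟩⟩) rfl

/-- A pointed morphism from a proper flat group with constant functions on connected fibres is a
homomorphism. -/
theorem isMonHom_of_one_rel [IsLocallyNoetherian S] (X G : Over S) [GrpObj X] [GrpObj G]
    [IsProper X.hom] [Flat X.hom] [Surjective X.hom] (h0 : ∀ s, FibConst X.hom s)
    (hfib : ∀ s, _root_.IsPreconnected (X.hom ⁻¹' {s}))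
    [IsSeparated G.hom] (f : X ⟶ G) (hf : η[X] ≫ f = η[G]) : IsMonHom f := by
  have : IsLocallyNoetherian X.left := LocallyOfFiniteType.isLocallyNoetherian X.hom
  let d := (μ[X] ≫ f) * ((fst X X ≫ f) * (snd X X ≫ f))⁻¹
  have hone : ∀ T : Over S, toUnit T ≫ η[X] ≫ f = (1 : T ⟶ G) := fun T => by
    rw [hf]; rfl
  have h1f : ∀ T : Over S, (1 : T ⟶ X) ≫ f = 1 := fun T => by
    rw [Hom.one_def, Category.assoc, hone]
  have hl : lift (𝟙 X) (toUnit X ≫ η[X]) ≫ μ[X] = 𝟙 X := by
    rw [← Hom.mul_def, ← Hom.one_def, _root_.mul_one]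
  have hr : lift (toUnit X ≫ η[X]) (𝟙 X) ≫ μ[X] = 𝟙 X := by
    rw [← Hom.mul_def, ← Hom.one_def, _root_.one_mul]
  have hd : lift (𝟙 X) (toUnit X ≫ η[X]) ≫ d = toUnit X ≫ η[G] := by
    simp only [d, MonObj.comp_mul, GrpObj.comp_inv, ← Category.assoc, hl, lift_fst, lift_snd]
    simp [h1f, ← Hom.one_def]
  have hd' : lift (toUnit X ≫ η[X]) (𝟙 X) ≫ d = toUnit X ≫ η[G] := by
    simp only [d, MonObj.comp_mul, GrpObj.comp_inv, ← Category.assoc, hr, lift_fst, lift_snd]
    simp [h1f, ← Hom.one_def]
  obtain ⟨h, hh⟩ := exists_eq_snd_comp X X G h0 η[X] η[G] (clopen_eq_univ_of_section hfib η[X]) d hd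
  rw [hh, ← Category.assoc, lift_snd, Category.id_comp] at hd'
  have hd1 : d = 1 := by
    rw [hh, hd', ← Category.assoc, comp_toUnit, Hom.one_def]
  refine ⟨hf, ?_⟩
  rw [mul_inv_eq_one.1 hd1, Hom.mul_def]
  congr 1

end Groth.Agent.AV
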