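import Groth.Agent.L26.AV.CharMin

/-!
# Endomorphisms of simple abelian varieties
-/

set_option autoImplicit false
set_option linter.style.haveILetI false
set_option linter.unusedSectionVars false
set_option backward.isDefEq.respectTransparency.types false

universe u

open CategoryTheory CategoryTheory.Limits MonoidalCategory CartesianMonoidalCategory MonObj AlgebraicGeometry

noncomputable section

namespace Groth.Agent.AV.SimpleDomain

variable {k : Type u} [Field k] {A : Over (Spec (CommRingCat.of k))}
  [GrpObj A] [IsCommMonObj A] [IsProper A.hom] [GeometricallyIntegral A.hom]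
  (hsimple : ∀ (B : Over (Spec (CommRingCat.of k))) [GrpObj B] [GeometricallyIntegral B.hom] (i : B ⟶ A) [IsMonHom i]
    [IsClosedImmersion i.left], Subsingleton B.left ∨ IsIso i)
include hsimple

/-- A nonzero endomorphism of a simple abelian variety is an isogeny. -/
theorem isogeny_of_ne_zero (x : EndAV.End A) (hx : x ≠ 0) :
    IsFinite x.toHom.left ∧ Flat x.toHom.left ∧ Surjective x.toHom.left := by
  haveI : IsIntegral A.left := GeometricallyIntegral.isIntegral_of_subsingleton A.hom
  obtain ⟨C, gC, i, p, hi, hic, hCp, hCg, hps, hpi, hpm⟩ := exists_image x.toHom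
  letI := gC
  haveI := hi
  haveI := hic
  rcases hsimple C i with hsub | hiso
  · refine absurd (EndAV.End.ext ?_) hx
    show x.toHom = 1
    rw [← hpi, ← Category.id_comp i, HomFin.id_eq_one_of_subsingleton C, MonObj.one_comp i, MonObj.comp_one]
  haveI : IsIso i.left := inferInstanceAs (IsIso ((Over.forget _).map i))
  haveI := hps
  haveI hs : Surjective x.toHom.left := by rw [← hpi, Over.comp_left]; infer_instance
  haveI := locallyQuasiFinite_of_surjective_of_dim_eq A A x.toHom rfl
  haveI : IsProper (x.toHom.left ≫ A.hom) := by rw [Over.w]; infer_instance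
  haveI : IsProper x.toHom.left := IsProper.of_comp _ A.hom
  exact ⟨IsFinite.of_isProper_of_locallyQuasiFinite _, Groth.L08.FlatHom.flat_of_surjective A A _, hs⟩

/-- The endomorphism ring of a simple abelian variety has no zero divisors. -/
theorem eq_zero_or_eq_zero (x y : EndAV.End A) (h : x * y = 0) : x = 0 ∨ y = 0 := by
  refine or_iff_not_imp_right.2 fun hy => EndAV.End.ext ?_
  obtain ⟨_, _, _⟩ := isogeny_of_ne_zero hsimple y hy
  haveI : Epi y.toHom := Over.epi_of_epi_left _
  rw [← cancel_epi y.toHom]
  have h' := congrArg EndAV.End.toHom h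
  rw [EndAV.End.toHom_mul, EndAV.End.toHom_zero] at h'
  exact h'.trans (MonObj.comp_one _).symm

end Groth.Agent.AV.SimpleDomain
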