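import Groth.Agent.L26.Misc.SimpleRep
import Groth.Agent.L26.AV.CharTateExt
import Groth.Agent.L26.AV.CharMin
import Groth.Agent.L26.Poincare.MatrixAlg
import Mathlib.NumberTheory.Padics.Complex

/-!
# Simple subalgebras of the rational endomorphism algebra act on the Tate module by multiples of the
reduced representations
-/

set_option autoImplicit false
set_option linter.style.haveILetI false
set_option linter.unusedSectionVars false
set_option backward.isDefEq.respectTransparency.types false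

universe u w

open CategoryTheory AlgebraicGeometry Polynomial
open scoped MonObj TensorProduct

noncomputable section

namespace Groth.Agent.AV.SimpleSubalg

variable {k : Type u} [Field k] (K : Type u) [Field K] [Algebra k K] [IsAlgClosed K]
  {A : Over (Spec (CommRingCat.of k))} [GrpObj A] [IsCommMonObj A] [IsProper A.hom] [GeometricallyIntegral A.hom]
  (l : ℕ) [Fact l.Prime]

/-- The Tate module is free of finite rank. -/
theorem tate_instances (hl : (l : k) ≠ 0) :
    Module.Free ℤ_[l] (AbDual.TateMod A l (Isogeny.geomPt k K)) ∧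
      Module.Finite ℤ_[l] (AbDual.TateMod A l (Isogeny.geomPt k K)) := by
  obtain ⟨g, -, hg⟩ := Groth.L08.GrpDim.exists_dim (TateBaseChange.bc K A)
  obtain ⟨b⟩ := CharTate.nonempty_basis l (by rw [← map_natCast (algebraMap k K)]; exact (_root_.map_ne_zero _).2 hl)
    (A := TateBaseChange.bc K A) hg
  exact ⟨Module.Free.of_basis (b.map (TateBaseChange.tateEquiv K A l).symm),
    Module.Finite.of_basis (b.map (TateBaseChange.tateEquiv K A l).symm)⟩

variable [Module.Free ℤ_[l] (AbDual.TateMod A l (Isogeny.geomPt k K))]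
  [Module.Finite ℤ_[l] (AbDual.TateMod A l (Isogeny.geomPt k K))]

/-- The field of definition of the representation. -/
abbrev cst : ℤ_[l] →+* AlgebraicClosure ℚ_[l] :=
  (algebraMap ℚ_[l] (AlgebraicClosure ℚ_[l])).comp (algebraMap ℤ_[l] ℚ_[l])

/-- The rational Tate representation. -/
theorem exists_rep :
    ∃ (κ : Type) (_ : Fintype κ) (ρ : EndAV.End0 A →+* Module.End (AlgebraicClosure ℚ_[l]) (κ → AlgebraicClosure ℚ_[l])),
      Fintype.card κ = Module.finrank ℤ_[l] (AbDual.TateMod A l (Isogeny.geomPt k K)) ∧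
      ∀ α : EndAV.End A, (ρ (EndAV.toEnd0 α)).charpoly =
        (EndAV.End.tateRep l (Isogeny.geomPt k K) α).charpoly.map (cst l) := by
  let T := AbDual.TateMod A l (Isogeny.geomPt k K)
  let n := Module.finrank ℤ_[l] T
  let b : Module.Basis (Fin n) ℤ_[l] T := Module.finBasis ℤ_[l] T
  let f₀ : EndAV.End A →+* Matrix (Fin n) (Fin n) (AlgebraicClosure ℚ_[l]) :=
    ((cst l).mapMatrix).comp ((LinearMap.toMatrixAlgEquiv b).toAlgHom.toRingHom.comp
      (EndAV.End.tateRep l (Isogeny.geomPt k K)))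
  let f : EndAV.End A →ₐ[ℤ] Matrix (Fin n) (Fin n) (AlgebraicClosure ℚ_[l]) :=
    { f₀ with
      commutes' := fun z => DFunLike.congr_fun
        (RingHom.ext_int (f₀.comp (algebraMap ℤ (EndAV.End A))) (algebraMap ℤ _)) z }
  let F : EndAV.End0 A →ₐ[ℚ] Matrix (Fin n) (Fin n) (AlgebraicClosure ℚ_[l]) :=
    Algebra.TensorProduct.lift (Algebra.ofId ℚ _) f fun a b => Algebra.commutes a (f b)
  refine ⟨Fin n, inferInstance, (Matrix.toLinAlgEquiv' (R := AlgebraicClosure ℚ_[l])).toAlgHom.toRingHom.comp F.toRingHom,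
    Fintype.card_fin n, fun α => ?_⟩
  have h : F (EndAV.toEnd0 α) = (LinearMap.toMatrix b b (EndAV.End.tateRep l (Isogeny.geomPt k K) α)).map (cst l) := by
    show Algebra.ofId ℚ _ (1 : ℚ) * f α = _
    rw [map_one, _root_.one_mul]
    rfl
  show LinearMap.charpoly (Matrix.toLin' (F (EndAV.toEnd0 α))) = _
  rw [Matrix.charpoly_toLin', h, Matrix.charpoly_map, LinearMap.charpoly_toMatrix]

/-- The Tate module of dimension `2g` decomposes along a simple subalgebra. -/
theorem exists_rank (hl : (l : k) ≠ 0) {g : ℕ} (hg : topologicalKrullDim A.left = g)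
    (F : Type w) [Field F] [CharZero F] [Module.Finite ℚ F] {D : Type*} [Ring D] [Algebra F D]
    [Algebra.IsCentral F D] [IsSimpleRing D] [FiniteDimensional F D] (em : D →+* EndAV.End0 A) :
    ∃ r : ℕ, 2 * g = Module.finrank ℚ F * Groth.L11.RN.deg F D * r ∧
      ∀ (x : D) (α : EndAV.End A), em x = EndAV.toEnd0 α →
        (EndAV.End.tateRep l (Isogeny.geomPt k K) α).charpoly.map (cst l) =
          (∏ σ : F →ₐ[ℚ] AlgebraicClosure ℚ_[l], (Groth.L11.RN.rcp F x).map σ.toRingHom) ^ r := by
  obtain ⟨κ, _, ρ, hκ, hρ⟩ := exists_rep K l (A := A)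
  have hchar : ∀ α : EndAV.End A, ∃ P : ℤ[X],
      (EndAV.End.tateRep l (Isogeny.geomPt k K) α).charpoly = P.map (Int.castRingHom ℤ_[l]) := fun α => by
    obtain ⟨P, -, -, hT, -⟩ := CharTateExt.exists_char K α.toHom
    exact ⟨P, (hT l hl).1⟩
  obtain ⟨θ₀, hθ₀⟩ := Field.exists_primitive_element ℚ F
  obtain ⟨n, a, hn, ha⟩ := Groth.Agent.Poincare.MatrixAlg.exists_zsmul_eq (em (algebraMap F D θ₀))
  let θ : F := n • θ₀
  have hθ : IntermediateField.adjoin ℚ {θ} = ⊤ := by
    rw [← top_le_iff, ← hθ₀, IntermediateField.adjoin_simple_le_iff]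
    have h := IntermediateField.mem_adjoin_simple_self ℚ θ
    have h2 : ((n : ℚ)⁻¹) • θ = θ₀ := by
      rw [show θ = (n : ℚ) • θ₀ from (Int.cast_smul_eq_zsmul ℚ n θ₀).symm, inv_smul_smul₀ (Int.cast_ne_zero.2 hn)]
    rw [← h2]
    exact IntermediateField.smul_mem _ h
  have hθa : em (algebraMap F D θ) = EndAV.toEnd0 a := by
    rw [map_zsmul, map_zsmul, ha]
    rfl
  obtain ⟨r, hr, hx⟩ := Groth.Agent.SimpleRep.exists_rank F (ρ.comp em) θ hθ (by
    obtain ⟨P, hP⟩ := hchar a
    refine ⟨P.map (Int.castRingHom ℚ), ?_⟩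
    rw [RingHom.comp_apply, hθa, hρ, hP, Polynomial.map_map, Polynomial.map_map]
    exact congrArg (fun φ => P.map φ) (RingHom.ext_int _ _))
  refine ⟨r, ?_, fun x α h => ?_⟩
  · rw [← hr, Module.finrank_pi, hκ]
    obtain ⟨P, hP⟩ := hchar 1
    obtain ⟨hm, hd⟩ := CharMin.natDegree_char K l hl hg _ P hP
    have := congrArg natDegree hP
    rw [LinearMap.charpoly_natDegree, hm.natDegree_map, hd] at this
    exact this.symm
  · rw [← hρ, ← h, ← hx x, RingHom.comp_apply]

end Groth.Agent.AV.SimpleSubalg
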