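import Groth.Agent.L26.AV.FieldTrivial
import Groth.Agent.L08.Cube.Field
import Groth.Agent.L08.Cube.ThreeMaps

/-!
# Classes on a product trivial after a surjective change of the first factor
-/

set_option autoImplicit false
set_option linter.style.haveILetI false
set_option linter.unusedSectionVars false
set_option backward.isDefEq.respectTransparency false

universe u

open CategoryTheory CategoryTheory.Limits MonoidalCategory CartesianMonoidalCategory AlgebraicGeometry

noncomputable section

namespace Groth.Agent.AV.SurjTrivial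

open Groth.L08.Cube

attribute [local instance] Groth.L08.Cube.clMonoid

variable {k : Type u} [Field k] {A A' C : Over (Spec (CommRingCat.of k))}
  [LocallyOfFiniteType A.hom] [IsReduced A.left] [IsProper C.hom] [GeometricallyIntegral C.hom]

/-- A class on `A ⊗ C` trivial along a section and trivial after pullback along a surjection onto `A` is trivial. -/
theorem cl_eq_one (φ : A' ⟶ A) [Surjective φ.left] (c₀ : 𝟙_ (Over (Spec (CommRingCat.of k))) ⟶ C)
    (L : (A ⊗ C).left.Modules) (hL : PicF.IsInvertible L)
    (h : PicF.pullCl (φ ▷ C).left (PicF.cl L) = 1)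
    (h0 : PicF.pullCl (lift (𝟙 A) (toUnit A ≫ c₀)).left (PicF.cl L) = 1) : PicF.cl L = 1 := by
  let f := (fst A C).left
  have sqf : IsPullback f (snd A C).left A.hom C.hom := isPullback_prod A C
  haveI : IsProper f := MorphismProperty.of_isPullback sqf.flip ‹IsProper C.hom›
  haveI : Flat f := MorphismProperty.of_isPullback sqf.flip (inferInstance : Flat C.hom)
  haveI : GeometricallyIntegral f := MorphismProperty.of_isPullback sqf.flip ‹GeometricallyIntegral C.hom›
  haveI : IsLocallyNoetherian A.left := LocallyOfFiniteType.isLocallyNoetherian A.hom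
  have hsec : (lift (𝟙 A) (toUnit A ≫ c₀)).left ≫ f = 𝟙 A.left := by
    rw [← Over.comp_left, lift_fst, Over.id_left]
  have htriv : ∀ a : A.left,
      Nonempty ((Scheme.Modules.pullback (f.fiberι a)).obj L ≅ Coh.structureModule (f.fiber a)) := by
    intro a
    obtain ⟨b, rfl⟩ := φ.left.surjective a
    let q : f.fiber (φ.left b) ⟶ Spec (CommRingCat.of (A.left.residueField (φ.left b))) :=
      f.fiberToSpecResidueField (φ.left b)
    have hq : IsPullback (f.fiberι (φ.left b)) q f (A.left.fromSpecResidueField (φ.left b)) :=
      IsPullback.of_hasPullback _ _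
    haveI : IsProper q := MorphismProperty.of_isPullback hq ‹IsProper f›
    haveI : GeometricallyIntegral q := MorphismProperty.of_isPullback hq ‹GeometricallyIntegral f›
    letI : Algebra (A.left.residueField (φ.left b)) (A'.left.residueField b) := (φ.left.residueFieldMap b).hom.toAlgebra
    let g := pullback.fst q (Spec.map (φ.left.residueFieldMap b))
    let v : pullback q (Spec.map (φ.left.residueFieldMap b)) ⟶ A'.left :=
      pullback.snd q (Spec.map (φ.left.residueFieldMap b)) ≫ A'.left.fromSpecResidueField b
    let uu : pullback q (Spec.map (φ.left.residueFieldMap b)) ⟶ (A ⊗ C).left := g ≫ f.fiberι (φ.left b)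
    have hv : v ≫ φ.left = uu ≫ f := by
      simp only [uu, v, g, Category.assoc]
      rw [← Scheme.Hom.SpecMap_residueFieldMap_fromSpecResidueField, ← Category.assoc, ← pullback.condition,
        Category.assoc, hq.w]
    let T : Over (Spec (CommRingCat.of k)) := Over.mk (uu ≫ (A ⊗ C).hom)
    let U : T ⟶ A ⊗ C := Over.homMk uu rfl
    have hw : v ≫ A'.hom = uu ≫ (A ⊗ C).hom := by
      rw [← Over.w φ, ← Category.assoc, hv, Category.assoc, Over.w (fst A C)]
    let Y : T ⟶ A' := Over.homMk v hw
    have hU : lift Y (U ≫ snd A C) ≫ φ ▷ C = U := by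
      apply CartesianMonoidalCategory.hom_ext
      · rw [Category.assoc, whiskerRight_fst, lift_fst_assoc]
        exact Over.OverMorphism.ext hv
      · rw [Category.assoc, whiskerRight_snd, lift_snd]
    have e : PicF.pullCl g (PicF.pullCl (f.fiberι (φ.left b)) (PicF.cl L)) = 1 := by
      rw [← PicLoc.pullCl_comp]
      show PicF.pullCl U.left (PicF.cl L) = 1
      rw [← hU, Over.comp_left, PicLoc.pullCl_comp, h, pullCl_one]
    obtain ⟨θ⟩ := (PicGrp.cl_eq_cl_iff _ _).1 e
    exact FieldTrivial.nonempty_iso_structureModule (K' := A'.left.residueField b) q g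
      (pullback.snd q (Spec.map (φ.left.residueFieldMap b))) (IsPullback.of_hasPullback q (Spec.map (φ.left.residueFieldMap b))) _
      (Groth.L18.Ample.isInvertible_pullback _ hL) θ
  obtain ⟨θ⟩ := (PicGrp.cl_eq_cl_iff _ _).1 h0
  exact (PicGrp.cl_eq_cl_iff _ _).2
    (nonempty_iso_of_trivial_on_fibres f _ hsec L hL htriv θ)

end Groth.Agent.AV.SurjTrivial
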