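import Mathlib.AlgebraicGeometry.Group.Abelian
import Mathlib.AlgebraicGeometry.Morphisms.FiniteType
import Mathlib.RingTheory.Localization.Away.Basic
import Mathlib.FieldTheory.IntermediateField.Adjoin.Basic
import Mathlib.Algebra.CharP.Algebra
import Mathlib.Algebra.Algebra.ZMod
import Mathlib.Algebra.Field.ZMod

/-!
# Rational points of a group of finite type over the algebraic closure of a finite field are torsion

Every point has coordinates in a finite field in some chart of a fixed finite atlas, and for a finite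
field containing the coefficients of the group law these points are closed under multiplication.
-/

set_option autoImplicit false
set_option linter.style.haveILetI false
set_option linter.unusedSectionVars false
set_option backward.isDefEq.respectTransparency false

universe u

open CategoryTheory CategoryTheory.Limits MonoidalCategory CartesianMonoidalCategory AlgebraicGeometry
open scoped MonObj TensorProduct

noncomputable section

namespace Groth.Agent.AV.TorsionFp

theorem exists_finite_mem_closure {K : Type u} [CommRing K] {P : Type u} [CommRing P] (f : K →+* P) (G : Set P)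
    {r : P} (hr : r ∈ Subring.closure (Set.range f ∪ G)) :
    ∃ C : Set K, C.Finite ∧ r ∈ Subring.closure (f '' C ∪ G) := by
  classical
  have hmono : ∀ {C C' : Set K}, C ⊆ C' → Subring.closure (f '' C ∪ G) ≤ Subring.closure (f '' C' ∪ G) :=
    fun h => Subring.closure_mono (Set.union_subset_union_left G (Set.image_mono h))
  induction hr using Subring.closure_induction with
  | mem x hx =>
    rcases hx with ⟨c, rfl⟩ | hx
    · exact ⟨{c}, Set.finite_singleton c, Subring.subset_closure (Or.inl ⟨c, rfl, rfl⟩)⟩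
    · exact ⟨∅, Set.finite_empty, Subring.subset_closure (Or.inr hx)⟩
  | zero => exact ⟨∅, Set.finite_empty, zero_mem _⟩
  | one => exact ⟨∅, Set.finite_empty, one_mem _⟩
  | add x y _ _ hx hy =>
    obtain ⟨⟨C, hC, hxC⟩, C', hC', hyC'⟩ := hx, hy
    exact ⟨C ∪ C', hC.union hC', add_mem (hmono Set.subset_union_left hxC) (hmono Set.subset_union_right hyC')⟩
  | neg x _ hx =>
    obtain ⟨C, hC, hxC⟩ := hx
    exact ⟨C, hC, neg_mem hxC⟩
  | mul x y _ _ hx hy =>
    obtain ⟨⟨C, hC, hxC⟩, C', hC', hyC'⟩ := hx, hy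
    exact ⟨C ∪ C', hC.union hC', mul_mem (hmono Set.subset_union_left hxC) (hmono Set.subset_union_right hyC')⟩

theorem exists_finite_subfield {p : ℕ} [Fact p.Prime] {k : Type u} [Field k] [CharP k p]
    (halg : ∀ x : k, ∃ n : ℕ, 0 < n ∧ x ^ (p ^ n) = x) {C : Set k} (hC : C.Finite) :
    ∃ K' : Subfield k, C ⊆ K' ∧ (K' : Set k).Finite := by
  letI : Algebra (ZMod p) k := ZMod.algebra k p
  haveI : Finite C := hC
  haveI : FiniteDimensional (ZMod p) (IntermediateField.adjoin (ZMod p) C) :=
    IntermediateField.finiteDimensional_adjoin fun x _ => by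
      obtain ⟨n, hn, hx⟩ := halg x
      refine ⟨Polynomial.X ^ (p ^ n) - Polynomial.X, Polynomial.monic_X_pow_sub (by
        rw [Polynomial.degree_X]
        exact_mod_cast Nat.one_lt_pow hn.ne' (Fact.out : p.Prime).one_lt), ?_⟩
      simp [hx]
  haveI : Finite (IntermediateField.adjoin (ZMod p) C) := Module.finite_of_finite (ZMod p)
  exact ⟨(IntermediateField.adjoin (ZMod p) C).toSubfield, IntermediateField.subset_adjoin _ _, Set.toFinite _⟩

theorem mem_of_mem_closure {k P : Type u} [Field k] [CommRing P] (K' : Subfield k) (e : P →+* k) {S : Set P}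
    (hS : ∀ s ∈ S, e s ∈ K') {r : P} (hr : r ∈ Subring.closure S) : e r ∈ K' :=
  (Subring.closure_le (t := K'.toSubring.comap e)).2 hS hr

theorem isOfFinOrder_point {p : ℕ} [Fact p.Prime] {k : Type u} [Field k] [CharP k p]
    (halg : ∀ x : k, ∃ n : ℕ, 0 < n ∧ x ^ (p ^ n) = x)
    {A : Over (Spec (CommRingCat.of k))} [GrpObj A] [LocallyOfFiniteType A.hom] [QuasiCompact A.hom]
    (a : 𝟙_ (Over (Spec (CommRingCat.of k))) ⟶ A) : IsOfFinOrder a := by
  classical
  haveI : CompactSpace A.left := QuasiCompact.compactSpace_of_compactSpace A.hom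
  -- a finite atlas
  obtain ⟨J, hJ, R, c, hco, hc⟩ : ∃ (J : Type u) (_ : Finite J) (R : J → CommRingCat.{u})
      (c : ∀ j, Spec (R j) ⟶ A.left), (∀ j, IsOpenImmersion (c j)) ∧ ∀ x : A.left, ∃ j, x ∈ Set.range (c j) := by
    let 𝒰 := A.left.affineCover.finiteSubcover
    haveI : ∀ j : 𝒰.I₀, IsAffine (𝒰.X j) := fun j => by
      dsimp [𝒰, Scheme.OpenCover.finiteSubcover]
      infer_instance
    refine ⟨𝒰.I₀, inferInstance, fun j => Γ(𝒰.X j, ⊤), fun j => (𝒰.X j).isoSpec.inv ≫ 𝒰.f j,
      fun j => inferInstance, fun x => ?_⟩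
    obtain ⟨j, y, hy⟩ : ∃ j y, (𝒰.f j) y = x := ⟨_, 𝒰.covers x⟩
    refine ⟨j, (𝒰.X j).isoSpec.hom y, ?_⟩
    show ((𝒰.X j).isoSpec.inv ≫ 𝒰.f j) ((𝒰.X j).isoSpec.hom y) = x
    rw [← Scheme.Hom.comp_apply, Iso.hom_inv_id_assoc, hy]
  haveI := hco
  let α : ∀ j, CommRingCat.of k ⟶ R j := fun j => Spec.preimage (c j ≫ A.hom)
  have hα : ∀ j, Spec.map (α j) = c j ≫ A.hom := fun j => Spec.map_preimage _
  letI : ∀ j, Algebra k (R j) := fun j => (α j).hom.toAlgebra
  have hgen : ∀ j, ∃ G : Set (R j), G.Finite ∧ Subring.closure (Set.range (α j).hom ∪ G) = ⊤ := fun j => by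
    haveI : LocallyOfFiniteType (Spec.map (α j)) := by rw [hα]; infer_instance
    have h : (α j).hom.FiniteType := (HasRingHomProperty.Spec_iff (P := @LocallyOfFiniteType)).1 inferInstance
    obtain ⟨s, hs⟩ := h.out
    refine ⟨s, s.finite_toSet, ?_⟩
    exact (Algebra.adjoin_eq_ring_closure (s : Set (R j))).symm.trans (congrArg Subalgebra.toSubring hs)
  choose G hGf hG using hgen
  have hext : ∀ j (e e' : R j ⟶ CommRingCat.of k), α j ≫ e = 𝟙 _ → α j ≫ e' = 𝟙 _ → (∀ g ∈ G j, e g = e' g) →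
      e = e' := fun j e e' he he' h => by
    refine CommRingCat.hom_ext (RingHom.ext fun r => ?_)
    refine RingHom.eqOn_set_closure (f := e.hom) (g := e'.hom) (s := Set.range (α j).hom ∪ G j) ?_ ((SetLike.ext_iff.1 (hG j) r).2 (Subring.mem_top r))
    rintro x (⟨t, rfl⟩ | hx)
    · exact (congr($he t)).trans (congr($he' t)).symm
    · exact h x hx
  -- the group law on the atlas
  let P : J → J → CommRingCat.{u} := fun i j => CommRingCat.of (R i ⊗[k] R j)
  let i1 : ∀ i j, R i ⟶ P i j := fun i j => CommRingCat.ofHom Algebra.TensorProduct.includeLeftRingHom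
  let i2 : ∀ i j, R j ⟶ P i j := fun i j => CommRingCat.ofHom (Algebra.TensorProduct.includeRight : R j →ₐ[k] _).toRingHom
  have hi : ∀ i j, α i ≫ i1 i j = α j ≫ i2 i j := fun i j => CommRingCat.hom_ext (RingHom.ext fun (t : k) => by
    show (Algebra.TensorProduct.includeLeft : R i →ₐ[k] R i ⊗[k] R j) (algebraMap k (R i) t) =
      (Algebra.TensorProduct.includeRight : R j →ₐ[k] R i ⊗[k] R j) (algebraMap k (R j) t)
    rw [AlgHom.commutes, AlgHom.commutes])
  let m : ∀ i j, Spec (P i j) ⟶ A.left := fun i j =>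
    pullback.lift (Spec.map (i1 i j) ≫ c i) (Spec.map (i2 i j) ≫ c j)
      (by rw [Category.assoc, Category.assoc, ← hα, ← hα, ← Spec.map_comp, ← Spec.map_comp, hi]) ≫ μ[A].left
  have hloc : ∀ i j (z : Spec (P i j)), ∃ (h : P i j) (l : J) (φ : R l ⟶ CommRingCat.of (Localization.Away h)),
      h ∉ z.asIdeal ∧ Spec.map φ ≫ c l = Spec.map (CommRingCat.ofHom (algebraMap (P i j) (Localization.Away h))) ≫ m i j := by
    intro i j z
    obtain ⟨l, hl⟩ := hc (m i j z)
    obtain ⟨_, ⟨h, rfl⟩, hz, hsub⟩ := PrimeSpectrum.isTopologicalBasis_basic_opens.exists_subset_of_mem_open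
      (show z ∈ (m i j) ⁻¹' Set.range (c l) from hl)
      ((c l).isOpenEmbedding.isOpen_range.preimage (m i j).continuous)
    let iota := Spec.map (CommRingCat.ofHom (algebraMap (P i j) (Localization.Away h)))
    have hr : Set.range (iota ≫ m i j) ⊆ Set.range (c l) := by
      rintro _ ⟨w, rfl⟩
      exact hsub ((PrimeSpectrum.localization_away_comap_range (Localization.Away h) h).le ⟨w, rfl⟩)
    refine ⟨h, l, Spec.preimage (IsOpenImmersion.lift (c l) _ hr), hz, ?_⟩
    rw [Spec.map_preimage]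
    exact IsOpenImmersion.lift_fac _ _ _
  choose h l φ hz hφ using hloc
  have hcov : ∀ i j, ∃ t : Finset (Spec (P i j)), ∀ y : Spec (P i j), ∃ z ∈ t, h i j z ∉ y.asIdeal := fun i j => by
    obtain ⟨t, ht⟩ := (isCompact_univ (X := PrimeSpectrum (P i j))).elim_finite_subcover
      (fun z : PrimeSpectrum (P i j) => ((PrimeSpectrum.basicOpen (h i j z)) : Set (PrimeSpectrum (P i j))))
      (fun z => (PrimeSpectrum.basicOpen (h i j z)).2)
      fun y _ => Set.mem_iUnion.2 ⟨y, hz i j y⟩
    exact ⟨t, fun y => by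
      obtain ⟨z, hz', h'⟩ := Set.mem_iUnion₂.1 (ht (Set.mem_univ y))
      exact ⟨z, hz', h'⟩⟩
  choose t ht using hcov
  have hnum : ∀ i j (z : Spec (P i j)) (g : R (l i j z)), ∃ (N : ℕ) (w : P i j),
      (φ i j z).hom g * (algebraMap (P i j) (Localization.Away (h i j z)) (h i j z)) ^ N =
        algebraMap (P i j) (Localization.Away (h i j z)) w := fun i j z g =>
    IsLocalization.Away.surj (h i j z) _
  choose N w hw using hnum
  let GP : ∀ i j, Set (P i j) := fun i j => (i1 i j).hom '' G i ∪ (i2 i j).hom '' G j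
  have hcoef : ∀ i j (x : P i j), ∃ C : Set k, C.Finite ∧
      x ∈ Subring.closure (algebraMap k (R i ⊗[k] R j) '' C ∪ GP i j) := fun i j x => by
    refine exists_finite_mem_closure (algebraMap k (R i ⊗[k] R j)) (GP i j) ?_
    induction x using TensorProduct.induction_on with
    | zero => exact zero_mem _
    | add x y hx hy => exact add_mem hx hy
    | tmul r r' =>
      rw [show r ⊗ₜ[k] r' = (r ⊗ₜ[k] (1 : R j)) * ((1 : R i) ⊗ₜ[k] r') by simp]
      refine mul_mem ?_ ?_
      · refine (Subring.closure_le (t := (Subring.closure _).comap (i1 i j).hom)).2 ?_ ((SetLike.ext_iff.1 (hG i) r).2 (Subring.mem_top r))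
        rintro x (⟨s, rfl⟩ | hx)
        · exact Subring.subset_closure (Or.inl ⟨s, (Algebra.TensorProduct.includeLeft.commutes s).symm⟩)
        · exact Subring.subset_closure (Or.inr (Or.inl ⟨x, hx, rfl⟩))
      · refine (Subring.closure_le (t := (Subring.closure _).comap (i2 i j).hom)).2 ?_ ((SetLike.ext_iff.1 (hG j) r').2 (Subring.mem_top r'))
        rintro x (⟨s, rfl⟩ | hx)
        · exact Subring.subset_closure (Or.inl ⟨s, ((Algebra.TensorProduct.includeRight : R j →ₐ[k] R i ⊗[k] R j).commutes s).symm⟩)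
        · exact Subring.subset_closure (Or.inr (Or.inr ⟨x, hx, rfl⟩))
  choose C hCf hC using hcoef
  -- the coordinates of the point
  let chartOf : ∀ (x : 𝟙_ (Over (Spec (CommRingCat.of k))) ⟶ A) (j : J), (R j ⟶ CommRingCat.of k) → Prop :=
    fun x j e => α j ≫ e = 𝟙 _ ∧ Spec.map e ≫ c j = x.left
  have hchart : ∀ x, ∃ j e, chartOf x j e := fun x => by
    obtain ⟨j, hj⟩ := hc (x.left (IsLocalRing.closedPoint k))
    have hr : Set.range x.left ⊆ Set.range (c j) := by
      rintro _ ⟨q, rfl⟩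
      rw [show q = IsLocalRing.closedPoint k from Subsingleton.elim (α := PrimeSpectrum k) _ _]
      exact hj
    let f : Spec (CommRingCat.of k) ⟶ Spec (R j) := IsOpenImmersion.lift (c j) x.left hr
    have hf : f ≫ c j = x.left := IsOpenImmersion.lift_fac _ _ _
    refine ⟨j, Spec.preimage f, Spec.map_injective ?_, by rw [Spec.map_preimage, hf]⟩
    rw [Spec.map_comp, Spec.map_preimage, hα, Spec.map_id, ← Category.assoc, hf]
    exact Over.w x
  obtain ⟨j₀, e₀, he₀⟩ := hchart a
  let Call : Set k := (⋃ (i : J) (j : J), ⋃ z ∈ t i j, (C i j (h i j z) ∪ ⋃ g ∈ G (l i j z), C i j (w i j z g))) ∪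
    e₀.hom '' G j₀
  have hCall : Call.Finite := by
    refine Set.Finite.union (Set.finite_iUnion fun i => Set.finite_iUnion fun j => ?_) ((hGf j₀).image _)
    exact (t i j).finite_toSet.biUnion fun z _ => (hCf i j _).union ((hGf _).biUnion fun g _ => hCf i j _)
  obtain ⟨K', hCK, hK'⟩ := exists_finite_subfield halg hCall
  let T : Set (𝟙_ (Over (Spec (CommRingCat.of k))) ⟶ A) := {x | ∃ j e, chartOf x j e ∧ ∀ g ∈ G j, e.hom g ∈ K'}
  have hTf : T.Finite := by
    haveI : Finite K' := hK'
    haveI : ∀ j, Finite (G j) := fun j => hGf j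
    have : ∀ x : T, ∃ s : Σ j : J, (G j → K'), ∃ e, chartOf x.1 s.1 e ∧ ∀ g : G s.1, e.hom g.1 = (s.2 g).1 :=
      fun ⟨x, j, e, he, hg⟩ => ⟨⟨j, fun g => ⟨e.hom g.1, hg g.1 g.2⟩⟩, e, he, fun g => rfl⟩
    choose F hF using this
    refine Set.finite_coe_iff.1 (Finite.of_injective F fun x y hxy => ?_)
    obtain ⟨e, he, hg⟩ := hF x
    obtain ⟨e', he', hg'⟩ := hF y
    revert e' he' hg' e he hg
    rw [hxy]
    intro e he hg e' he' hg'
    obtain rfl := hext _ e e' he.1 he'.1 fun g hgG => (hg ⟨g, hgG⟩).trans (hg' ⟨g, hgG⟩).symm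
    exact Subtype.ext (Over.OverMorphism.ext (he.2.symm.trans he'.2))
  have hmul : ∀ x ∈ T, ∀ y ∈ T, x * y ∈ T := by
    rintro x ⟨i, e, ⟨he1, he2⟩, he3⟩ y ⟨j, e', ⟨he1', he2'⟩, he3'⟩
    let ea : R i →ₐ[k] k := ⟨e.hom, fun s => congr($he1 s)⟩
    let ea' : R j →ₐ[k] k := ⟨e'.hom, fun s => congr($he1' s)⟩
    let ev : R i ⊗[k] R j →ₐ[k] k := Algebra.TensorProduct.lift ea ea' fun _ _ => Commute.all _ _
    let evc : P i j ⟶ CommRingCat.of k := CommRingCat.ofHom ev.toRingHom
    have hev1 : i1 i j ≫ evc = e := CommRingCat.hom_ext (RingHom.ext fun r => by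
      show ev (r ⊗ₜ[k] 1) = _
      simp [ev, ea])
    have hev2 : i2 i j ≫ evc = e' := CommRingCat.hom_ext (RingHom.ext fun r => by
      show ev (1 ⊗ₜ[k] r) = _
      simp [ev, ea'])
    have hxy : (x * y).left = Spec.map evc ≫ m i j := by
      rw [Hom.mul_def, Over.comp_left, ← Category.assoc]
      refine congrArg (· ≫ μ[A].left) (pullback.hom_ext ?_ ?_)
      · rw [Category.assoc, pullback.lift_fst, ← Spec.map_comp_assoc, hev1, he2]
        exact congrArg CommaMorphism.left (lift_fst x y)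
      · rw [Category.assoc, pullback.lift_snd, ← Spec.map_comp_assoc, hev2, he2']
        exact congrArg CommaMorphism.left (lift_snd x y)
    obtain ⟨z, hzt, hzy⟩ := ht i j ((Spec.map evc) (IsLocalRing.closedPoint k))
    have hu : IsUnit (ev.toRingHom (h i j z)) := by
      by_contra hnu
      exact hzy hnu
    let ev' : Localization.Away (h i j z) →+* k := IsLocalization.Away.lift (h i j z) hu
    let e'' : R (l i j z) ⟶ CommRingCat.of k := φ i j z ≫ CommRingCat.ofHom ev'
    have hev' : CommRingCat.ofHom (algebraMap (P i j) (Localization.Away (h i j z))) ≫ CommRingCat.ofHom ev' = evc :=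
      CommRingCat.hom_ext (IsLocalization.Away.lift_comp (h i j z) hu)
    have he2'' : Spec.map e'' ≫ c (l i j z) = (x * y).left := by
      rw [Spec.map_comp, Category.assoc, hφ, ← Category.assoc, ← Spec.map_comp, hev', hxy]
    refine ⟨l i j z, e'', ⟨Spec.map_injective ?_, he2''⟩, fun g hg => ?_⟩
    · rw [Spec.map_comp, hα, ← Category.assoc, he2'', Spec.map_id]
      exact Over.w (x * y)
    have hGP : ∀ D : Set k, D ⊆ K' → ∀ r ∈ Subring.closure (algebraMap k (R i ⊗[k] R j) '' D ∪ GP i j),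
        ev.toRingHom r ∈ K' := fun D hD r hr => mem_of_mem_closure K' ev.toRingHom (by
      rintro s (⟨d, hd, rfl⟩ | ⟨r', hr', rfl⟩ | ⟨r', hr', rfl⟩)
      · exact (ev.commutes d).symm ▸ hD hd
      · exact (congr($hev1 r')).symm ▸ he3 r' hr'
      · exact (congr($hev2 r')).symm ▸ he3' r' hr') hr
    have hh : ev.toRingHom (h i j z) ∈ K' := hGP _ (fun d hd => hCK (Or.inl (by
      simp only [Set.mem_iUnion]
      exact ⟨i, j, z, hzt, Or.inl hd⟩))) _ (hC i j _)
    have hwK : ev.toRingHom (w i j z g) ∈ K' := hGP _ (fun d hd => hCK (Or.inl (by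
      simp only [Set.mem_iUnion, Set.mem_union]
      exact ⟨i, j, z, hzt, Or.inr ⟨g, hg, hd⟩⟩))) _ (hC i j _)
    have key := congrArg ev' (hw i j z g)
    rw [map_mul, map_pow, IsLocalization.Away.lift_eq, IsLocalization.Away.lift_eq] at key
    show ev' ((φ i j z).hom g) ∈ K'
    rw [show ev' ((φ i j z).hom g) = ev.toRingHom (w i j z g) / ev.toRingHom (h i j z) ^ N i j z g from
      (eq_div_iff (pow_ne_zero _ hu.ne_zero)).2 key]
    exact div_mem hwK (pow_mem hh _)
  have ha : a ∈ T := ⟨j₀, e₀, he₀, fun g hg => hCK (Or.inr ⟨g, hg, rfl⟩)⟩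
  have hp : ∀ n : ℕ, a ^ (n + 1) ∈ T := fun n => by
    induction n with
    | zero => simpa using ha
    | succ n ih => exact (pow_succ a (n + 1)).symm ▸ hmul _ ih _ ha
  by_contra hord
  exact (Set.infinite_range_of_injective ((injective_pow_iff_not_isOfFinOrder.2 hord).comp
    Nat.succ_injective)) (hTf.subset (by rintro _ ⟨n, rfl⟩; exact hp n))

end Groth.Agent.AV.TorsionFp
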